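import Mathlib

/-!
Finite commutative rings with an involution `σ` such that `s - σ s` is a unit for some `s`: Hilbert 90 and
surjectivity of the norm `c ↦ c * σ c` on units.
-/

set_option autoImplicit false

namespace Cfsg.Agent.Lib.FormConj

variable {R : Type*} [CommRing R] [Finite R] (σ : R →+* R) (hσ : ∀ x, σ (σ x) = x) {s : R}
  (hs : IsUnit (s - σ s))
include hσ hs

/-- Hilbert 90. -/
theorem exists_unit_eq_mul_conj {z : R} (hz : z * σ z = 1) : ∃ y : R, IsUnit y ∧ y = z * σ y := by
  classical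
  haveI : Finite (Ideal R) := Finite.of_injective (fun I : Ideal R => (I : Set R)) SetLike.coe_injective
  haveI : Finite (MaximalSpectrum R) :=
    Finite.of_injective (fun M : MaximalSpectrum R => M.asIdeal) fun _ _ h => MaximalSpectrum.ext h
  obtain ⟨e, he⟩ := (inferInstance : Countable (Ideal R)).exists_injective_nat
  -- the residues prescribed at the maximal ideals
  have hres : ∀ M : MaximalSpectrum R, ∃ r : R, ∀ a, a - r ∈ M.asIdeal →
      (Ideal.comap σ M.asIdeal = M.asIdeal → a + z * σ a ∉ M.asIdeal) ∧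
      (Ideal.comap σ M.asIdeal ≠ M.asIdeal → if e M.asIdeal < e (Ideal.comap σ M.asIdeal)
        then a - 1 ∈ M.asIdeal else a ∈ M.asIdeal) := by
    intro M
    by_cases hM : Ideal.comap σ M.asIdeal = M.asIdeal
    · have hσM : ∀ x ∈ M.asIdeal, σ x ∈ M.asIdeal := fun x hx => by rw [← hM] at hx; exact hx
      obtain ⟨r, hr⟩ : ∃ r, r + z * σ r ∉ M.asIdeal := by
        by_contra hne
        push Not at hne
        have h1 := hne 1
        rw [map_one, mul_one] at h1
        refine M.isMaximal.ne_top (Ideal.eq_top_of_isUnit_mem _ ?_ hs)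
        have h2 := sub_mem (hne s) (M.asIdeal.mul_mem_left (σ s) h1)
        convert h2 using 1
        ring
      refine ⟨r, fun a ha => ⟨fun _ h => hr ?_, fun h => absurd hM h⟩⟩
      have h2 := sub_mem h (add_mem ha (M.asIdeal.mul_mem_left z (hσM _ ha)))
      convert h2 using 1
      rw [map_sub]
      ring
    · by_cases hlt : e M.asIdeal < e (Ideal.comap σ M.asIdeal)
      · exact ⟨1, fun a ha => ⟨fun h => absurd h hM, fun _ => by rwa [if_pos hlt]⟩⟩
      · exact ⟨0, fun a ha => ⟨fun h => absurd h hM, fun _ => by rw [if_neg hlt]; simpa using ha⟩⟩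
  choose r hr using hres
  obtain ⟨a, ha⟩ := Ideal.exists_forall_sub_mem_ideal (I := fun M : MaximalSpectrum R => M.asIdeal)
    (fun M N hMN => Ideal.isCoprime_iff_sup_eq.mpr (M.isMaximal.coprime_of_ne N.isMaximal
      fun h => hMN (MaximalSpectrum.ext h))) r
  refine ⟨a + z * σ a, ?_, ?_⟩
  · by_contra hu
    obtain ⟨I, hI, haI⟩ := exists_max_ideal_of_mem_nonunits hu
    obtain ⟨M, rfl⟩ : ∃ M : MaximalSpectrum R, M.asIdeal = I := ⟨⟨I, hI⟩, rfl⟩
    by_cases hM : Ideal.comap σ M.asIdeal = M.asIdeal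
    · exact (hr M a (ha M)).1 hM haI
    let M' : MaximalSpectrum R := ⟨Ideal.comap σ M.asIdeal,
      haveI := M.isMaximal
      Ideal.comap_isMaximal_of_surjective σ (fun x => ⟨σ x, hσ x⟩)⟩
    have hM'' : Ideal.comap σ M'.asIdeal = M.asIdeal := by
      ext x; simp [M', hσ]
    have hM' : Ideal.comap σ M'.asIdeal ≠ M'.asIdeal := by rw [hM'']; exact fun h => hM h.symm
    have hne : e M.asIdeal ≠ e M'.asIdeal := fun h => hM (he h).symm
    have h1 := (hr M a (ha M)).2 hM
    have h2 := (hr M' a (ha M')).2 hM'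
    rw [hM''] at h2
    change if e M.asIdeal < e M'.asIdeal then _ else _ at h1
    rcases lt_or_gt_of_ne hne with hlt | hgt
    · rw [if_pos hlt] at h1
      rw [if_neg (lt_asymm hlt)] at h2
      refine M.isMaximal.ne_top ((Ideal.eq_top_iff_one _).mpr ?_)
      have h3 := sub_mem (sub_mem haI (M.asIdeal.mul_mem_left z (show σ a ∈ M.asIdeal from h2))) h1
      simpa using h3
    · rw [if_neg (lt_asymm hgt)] at h1
      rw [if_pos hgt] at h2
      refine M.isMaximal.ne_top (Ideal.eq_top_of_isUnit_mem _ ?_ (.of_mul_eq_one _ hz))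
      have h3 : σ (a - 1) ∈ M.asIdeal := h2
      have h4 := sub_mem (sub_mem haI h1) (M.asIdeal.mul_mem_left z h3)
      convert h4 using 1
      rw [map_sub, map_one]
      ring
  · rw [map_add, map_mul, hσ, mul_add, ← mul_assoc, hz, one_mul, add_comm]

/-- The norm is surjective onto the units fixed by `σ`. -/
theorem exists_unit_norm_eq {t : R} (ht : IsUnit t) (hσt : σ t = t) : ∃ c : R, IsUnit c ∧ c * σ c = t := by
  classical
  let S : Rˣ →* Rˣ := Units.map σ.toMonoidHom
  let N : Rˣ →* Rˣ := MonoidHom.id _ * S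
  let P : Rˣ →* Rˣ := MonoidHom.id _ / S
  have hS : ∀ z : Rˣ, ((S z : Rˣ) : R) = σ z := fun z => rfl
  have hSS : ∀ z, S (S z) = z := fun z => Units.ext (hσ _)
  have hker : N.ker = P.range := by
    ext x
    simp only [MonoidHom.mem_ker, MonoidHom.mem_range, N, P, MonoidHom.mul_apply, MonoidHom.id_apply,
      MonoidHom.div_apply]
    constructor
    · intro hx
      have hx' : (x : R) * σ x = 1 := by rw [← hS, ← Units.val_mul, hx, Units.val_one]
      obtain ⟨y, hy, hyx⟩ := exists_unit_eq_mul_conj σ hσ hs hx'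
      exact ⟨hy.unit, div_eq_iff_eq_mul.mpr (Units.ext hyx)⟩
    · rintro ⟨z, rfl⟩
      rw [map_div, hSS, div_mul_div_cancel, div_self']
  have hle : N.range ≤ P.ker := by
    rintro _ ⟨x, rfl⟩
    rw [MonoidHom.mem_ker]
    simp only [N, P, MonoidHom.mul_apply, MonoidHom.id_apply, MonoidHom.div_apply]
    rw [map_mul, hSS, mul_comm (S x) x, div_self']
  have hcard : Nat.card N.range = Nat.card P.ker := by
    have a1 := N.ker.card_mul_index
    have a2 := P.ker.card_mul_index
    rw [Subgroup.index_ker] at a1 a2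
    rw [hker] at a1
    refine mul_right_cancel₀ (Nat.card_pos (α := P.range)).ne' ?_
    rw [mul_comm, a1, a2]
  have hmem : ht.unit ∈ N.range := by
    rw [Subgroup.eq_of_le_of_card_ge hle hcard.ge, MonoidHom.mem_ker]
    simp only [P, MonoidHom.div_apply, MonoidHom.id_apply]
    exact div_eq_one.mpr (Units.ext (by rw [hS, IsUnit.unit_spec, hσt]))
  obtain ⟨x, hx⟩ := hmem
  exact ⟨x, x.isUnit, by simpa [N, hS] using congrArg Units.val hx⟩

end Cfsg.Agent.Lib.FormConj
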