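import Mathlib
import Cfsg.Agent.Lib.FormConj.NormLemma

/-!
Anti-automorphisms `τ` of a finite ring, restricted to a commutative subring generated by elements on which `τ` is
involutive: norms, Hilbert 90, and conjugacy of `τ`-unitary elements.
-/

set_option autoImplicit false

namespace Cfsg.Agent.Lib.FormConj

universe u

variable {E : Type u} [Ring E]

/-- An anti-endomorphism of a ring. -/
structure IsAntiHom (τ : E → E) : Prop where
  map_add : ∀ x y, τ (x + y) = τ x + τ y
  map_mul : ∀ x y, τ (x * y) = τ y * τ x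
  map_one : τ 1 = 1

namespace IsAntiHom

variable {τ : E → E} (h : IsAntiHom τ)
include h

theorem map_zero : τ 0 = 0 := by simpa using h.map_add 0 0

theorem map_neg (x : E) : τ (-x) = -τ x := by
  have := h.map_add x (-x)
  rw [add_neg_cancel, h.map_zero] at this
  exact (neg_eq_of_add_eq_zero_right this.symm).symm

theorem map_sub (x y : E) : τ (x - y) = τ x - τ y := by rw [sub_eq_add_neg, h.map_add, h.map_neg, ← sub_eq_add_neg]

theorem isUnit_map {x : E} (hx : IsUnit x) : IsUnit (τ x) := by
  obtain ⟨u, rfl⟩ := hx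
  exact ⟨⟨τ u, τ ↑u⁻¹, by rw [← h.map_mul, u.inv_mul, h.map_one], by rw [← h.map_mul, u.mul_inv, h.map_one]⟩, rfl⟩

theorem map_pow (x : E) (k : ℕ) : τ (x ^ k) = τ x ^ k := by
  induction k with
  | zero => simp [h.map_one]
  | succ k ih => rw [pow_succ, h.map_mul, ih, pow_succ']

theorem mem_closure {G : Set E} (hmem : ∀ g ∈ G, τ g ∈ Subring.closure G) {x : E} (hx : x ∈ Subring.closure G) :
    τ x ∈ Subring.closure G := by
  induction hx using Subring.closure_induction with
  | mem g hg => exact hmem g hg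
  | zero => rw [h.map_zero]; exact zero_mem _
  | one => rw [h.map_one]; exact one_mem _
  | add x y _ _ hx hy => rw [h.map_add]; exact add_mem hx hy
  | neg x _ hx => rw [h.map_neg]; exact neg_mem hx
  | mul x y _ _ hx hy => rw [h.map_mul]; exact mul_mem hy hx

theorem apply_apply {G : Set E} (hinv : ∀ g ∈ G, τ (τ g) = g) {x : E} (hx : x ∈ Subring.closure G) :
    τ (τ x) = x := by
  induction hx using Subring.closure_induction with
  | mem g hg => exact hinv g hg
  | zero => rw [h.map_zero, h.map_zero]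
  | one => rw [h.map_one, h.map_one]
  | add x y _ _ hx hy => rw [h.map_add, h.map_add, hx, hy]
  | neg x _ hx => rw [h.map_neg, h.map_neg, hx]
  | mul x y _ _ hx hy => rw [h.map_mul, h.map_mul, hx, hy]

end IsAntiHom

/-- In a finite ring a unit lying in a subring is a unit of that subring. -/
theorem isUnit_subring_mk [Finite E] (S : Subring E) {x : E} (hx : x ∈ S) (hu : IsUnit x) :
    IsUnit (⟨x, hx⟩ : S) := by
  let X : S := ⟨x, hx⟩
  have hl : Function.Injective (fun y : S => X * y) := fun a b hab =>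
    Subtype.ext (hu.mul_left_cancel (congrArg Subtype.val hab))
  have hr : Function.Injective (fun y : S => y * X) := fun a b hab =>
    Subtype.ext (hu.mul_right_cancel (congrArg Subtype.val hab))
  obtain ⟨a, ha⟩ := Finite.surjective_of_injective hl 1
  obtain ⟨b, hb⟩ := Finite.surjective_of_injective hr 1
  exact isUnit_iff_exists.2 ⟨a, ha, by rwa [show a = b from (left_inv_eq_right_inv hb ha).symm]⟩

theorem exists_inv_mem [Finite E] {S : Subring E} {x : E} (hx : x ∈ S) (hu : IsUnit x) :
    ∃ y ∈ S, x * y = 1 ∧ y * x = 1 := by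
  obtain ⟨y, h1, h2⟩ := isUnit_iff_exists.1 (isUnit_subring_mk S hx hu)
  exact ⟨y, y.2, congrArg Subtype.val h1, congrArg Subtype.val h2⟩

theorem commute_of_mem_closure {G : Set E} {a x : E} (hG : ∀ g ∈ G, Commute a g)
    (hx : x ∈ Subring.closure G) : Commute a x := by
  induction hx using Subring.closure_induction with
  | mem g hg => exact hG g hg
  | zero => exact Commute.zero_right a
  | one => exact Commute.one_right a
  | add x y _ _ hx hy => exact hx.add_right hy
  | neg x _ hx => exact hx.neg_right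
  | mul x y _ _ hx hy => exact hx.mul_right hy

/-- A commuting `τ`-stable set of generators on which `τ` is involutive. -/
structure IsTwistSet (τ : E → E) (G : Set E) : Prop where
  anti : IsAntiHom τ
  comm : ∀ x ∈ G, ∀ y ∈ G, Commute x y
  mem : ∀ g ∈ G, τ g ∈ Subring.closure G
  inv : ∀ g ∈ G, τ (τ g) = g

namespace IsTwistSet

variable {τ : E → E} {G : Set E} (h : IsTwistSet τ G)
include h

theorem commute {x y : E} (hx : x ∈ Subring.closure G) (hy : y ∈ Subring.closure G) : Commute x y :=
  commute_of_mem_closure (fun g hg => (commute_of_mem_closure (fun g' hg' => h.comm g hg g' hg') hx).symm) hy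

variable [Finite E]

/-- The commutative subring generated by `G` with the involution induced by `τ`. -/
theorem exists_ring : ∃ (R : Type u) (_ : CommRing R) (_ : Finite R) (σ : R →+* R) (φ : R →+* E),
    Function.Injective φ ∧ (∀ r, φ r ∈ Subring.closure G) ∧ (∀ x ∈ Subring.closure G, ∃ r, φ r = x) ∧
      (∀ x, φ (σ x) = τ (φ x)) ∧ ∀ x, σ (σ x) = x := by
  letI I : CommRing (Subring.closure G) :=
    { (Subring.closure G).toRing with mul_comm := fun a b => Subtype.ext (h.commute a.2 b.2) }
  refine ⟨Subring.closure G, I, inferInstance,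
    { toFun := fun x => ⟨τ x, h.anti.mem_closure h.mem x.2⟩
      map_one' := Subtype.ext h.anti.map_one
      map_mul' := fun x y => Subtype.ext ?_
      map_zero' := Subtype.ext h.anti.map_zero
      map_add' := fun x y => Subtype.ext (h.anti.map_add x y) },
    (Subring.closure G).subtype, Subtype.val_injective, fun r => r.2, fun x hx => ⟨⟨x, hx⟩, rfl⟩,
    fun _ => rfl, fun x => Subtype.ext (h.anti.apply_apply h.inv x.2)⟩
  change τ (x * y : E) = τ x * τ y
  rw [h.anti.map_mul]
  exact h.commute (h.anti.mem_closure h.mem y.2) (h.anti.mem_closure h.mem x.2)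

/-- Hilbert 90 in the subring generated by `G`. -/
theorem exists_eq_mul_conj {s : E} (hs : s ∈ Subring.closure G) (hu : IsUnit (s - τ s)) {z : E}
    (hz : z ∈ Subring.closure G) (hz1 : z * τ z = 1) :
    ∃ c ∈ Subring.closure G, IsUnit c ∧ c = z * τ c := by
  obtain ⟨y, hy, hy1, -⟩ := exists_inv_mem (sub_mem hs (h.anti.mem_closure h.mem hs)) hu
  obtain ⟨R, _, _, σ, φ, hinj, hmem, hlift, hσ, hσσ⟩ := h.exists_ring
  obtain ⟨s, rfl⟩ := hlift s hs
  obtain ⟨y, rfl⟩ := hlift y hy
  obtain ⟨z, rfl⟩ := hlift z hz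
  have hu' : IsUnit (s - σ s) := IsUnit.of_mul_eq_one y (hinj (by simpa [hσ] using hy1))
  obtain ⟨c, hc, hceq⟩ := exists_unit_eq_mul_conj σ hσσ hu' (z := z) (hinj (by simpa [hσ] using hz1))
  exact ⟨φ c, hmem c, hc.map φ, by rw [← hσ, ← map_mul, ← hceq]⟩

/-- Norm surjectivity in the subring generated by `G`, on the part cut out by a symmetric idempotent `e`. -/
theorem exists_norm_eq_idem {e s w t : E} (he : e ∈ Subring.closure G) (hs : s ∈ Subring.closure G)
    (hw : w ∈ Subring.closure G) (ht : t ∈ Subring.closure G) (hee : e * e = e) (hτe : τ e = e)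
    (hsw : (s - τ s) * w * e = e) (htu : IsUnit t) (hτt : τ t = t) :
    ∃ c ∈ Subring.closure G, IsUnit c ∧ c * τ c * e = t * e := by
  obtain ⟨y, hy, hy1, -⟩ := exists_inv_mem ht htu
  obtain ⟨R, _, _, σ, φ, hinj, hmem, hlift, hσ, hσσ⟩ := h.exists_ring
  obtain ⟨s, rfl⟩ := hlift s hs
  obtain ⟨w, rfl⟩ := hlift w hw
  obtain ⟨e, rfl⟩ := hlift e he
  obtain ⟨t, rfl⟩ := hlift t ht
  obtain ⟨y, rfl⟩ := hlift y hy
  let J : Ideal R := Ideal.span {1 - e}
  have hee' : e * e = e := hinj (by simpa using hee)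
  have hσe : σ e = e := hinj (by simpa [hσ] using hτe)
  have hJ : J ≤ J.comap σ := by
    rw [Ideal.span_le, Set.singleton_subset_iff, SetLike.mem_coe, Ideal.mem_comap, map_sub, map_one, hσe]
    exact Ideal.subset_span rfl
  have hJe : ∀ x ∈ J, x * e = 0 := fun x hx => by
    obtain ⟨y, rfl⟩ := Ideal.mem_span_singleton'.1 hx
    linear_combination -y * hee'
  have hmk : ∀ x y : R, Ideal.Quotient.mk J x = Ideal.Quotient.mk J y → x * e = y * e := fun x y hxy => by
    linear_combination hJe _ (Ideal.Quotient.eq.1 hxy)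
  have hmk' : ∀ x y : R, x * e = y * e → Ideal.Quotient.mk J x = Ideal.Quotient.mk J y := fun x y hxy =>
    Ideal.Quotient.eq.2 (Ideal.mem_span_singleton'.2 ⟨x - y, by linear_combination -hxy⟩)
  haveI : Finite (R ⧸ J) := Finite.of_surjective _ Ideal.Quotient.mk_surjective
  let σ' : R ⧸ J →+* R ⧸ J := Ideal.quotientMap J σ hJ
  have hσ' : ∀ x, σ' (Ideal.Quotient.mk J x) = Ideal.Quotient.mk J (σ x) := fun x => Ideal.quotientMap_mk
  have htu' : IsUnit t := IsUnit.of_mul_eq_one y (hinj (by simpa using hy1))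
  obtain ⟨cb, hcb, hnorm⟩ := exists_unit_norm_eq σ'
    (fun x => by obtain ⟨x, rfl⟩ := Ideal.Quotient.mk_surjective x; rw [hσ', hσ', hσσ])
    (s := Ideal.Quotient.mk J s)
    (by
      rw [hσ', ← map_sub]
      refine IsUnit.of_mul_eq_one (Ideal.Quotient.mk J w) ?_
      rw [← map_mul, ← map_one (Ideal.Quotient.mk J)]
      exact hmk' _ _ (hinj (by simpa [hσ] using hsw)))
    (t := Ideal.Quotient.mk J t) (htu'.map _)
    (by rw [hσ']; exact congrArg _ (hinj (by simpa [hσ] using hτt)))
  obtain ⟨db, hdb⟩ := hcb.exists_right_inv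
  obtain ⟨c, rfl⟩ := Ideal.Quotient.mk_surjective cb
  obtain ⟨d, rfl⟩ := Ideal.Quotient.mk_surjective db
  rw [← map_mul, ← map_one (Ideal.Quotient.mk J)] at hdb
  rw [hσ', ← map_mul] at hnorm
  have hcd := hmk _ _ hdb
  have hn := hmk _ _ hnorm
  set c' := c * e + (1 - e)
  have hc' : c' * (d * e + (1 - e)) = 1 := by
    linear_combination hcd + (c * d - c - d + 1) * hee'
  refine ⟨φ c', hmem _, (IsUnit.of_mul_eq_one _ hc').map φ, ?_⟩
  rw [← hσ, ← map_mul, ← map_mul, ← map_mul]
  congr 1
  simp only [c', map_add, map_mul, map_sub, map_one, hσe]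
  linear_combination hn + (c * σ c * (e + 1) - (c + σ c) * e - (1 - e)) * hee'

/-- Norm surjectivity in the subring generated by `G`. -/
theorem exists_norm_eq {s t : E} (hs : s ∈ Subring.closure G) (hu : IsUnit (s - τ s))
    (ht : t ∈ Subring.closure G) (htu : IsUnit t) (hτt : τ t = t) :
    ∃ c ∈ Subring.closure G, IsUnit c ∧ c * τ c = t := by
  obtain ⟨w, hw, hw1, -⟩ := exists_inv_mem (sub_mem hs (h.anti.mem_closure h.mem hs)) hu
  simpa using h.exists_norm_eq_idem (one_mem _) hs hw ht (one_mul 1) h.anti.map_one (by simpa using hw1) htu hτt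

end IsTwistSet

end Cfsg.Agent.Lib.FormConj
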