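import Mathlib
import Cfsg.Agent.Lib.FormConj.Twist

/-!
Intertwiners of `τ`-unitary elements can be made `τ`-unitary; invariant "forms" can be made symmetric.
-/

set_option autoImplicit false

namespace Cfsg.Agent.Lib.FormConj

variable {E : Type*} [Ring E] [Finite E] {τ : E → E}

namespace IsAntiHom

variable (h : IsAntiHom τ)
include h

theorem unitary_mul_symm {A : E} (hA : τ A * A = 1) : A * τ A = 1 := mul_eq_one_comm.mp hA

/-- The twist of a `τ`-unitary element is `τ`-unitary and `τ` is involutive on it. -/
theorem apply_apply_unitary {A : E} (hA : τ A * A = 1) : τ (τ A) = A := by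
  have h1 : τ A * τ (τ A) = 1 := by rw [← h.map_mul, hA, h.map_one]
  exact (left_inv_eq_right_inv (h.unitary_mul_symm hA) h1).symm

end IsAntiHom

theorem commute_of_inverse {a b b' : E} (hab : Commute a b) (h1 : b' * b = 1) : Commute a b' := by
  have h2 : b * b' = 1 := mul_eq_one_comm.mp h1
  exact Commute.units_inv_right (a := a) (u := ⟨b, b', h2, h1⟩) hab

/-- `g* g` for an intertwiner `g` of unitary elements commutes with the source. -/
theorem commute_gram (hτ : IsAntiHom τ) {A A' g : E} (hA : τ A * A = 1) (hA' : τ A' * A' = 1)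
    (hgA : g * A = A' * g) : Commute (τ g * g) A := by
  have h1 : τ A * τ g = τ g * τ A' := by rw [← hτ.map_mul, hgA, hτ.map_mul]
  have h2 : τ g * A' = A * τ g := by
    calc τ g * A' = (A * τ A) * τ g * A' := by rw [hτ.unitary_mul_symm hA, one_mul]
      _ = A * (τ g * (τ A' * A')) := by rw [mul_assoc A, h1]; noncomm_ring
      _ = A * τ g := by rw [hA', mul_one]
  calc τ g * g * A = τ g * (A' * g) := by rw [mul_assoc, hgA]
    _ = A * (τ g * g) := by rw [← mul_assoc, h2, mul_assoc]

/-- Two `τ`-unitary elements related by an invertible intertwiner are related by a `τ`-unitary one, as soon as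
some central `s` has `s - τ s` invertible. -/
theorem exists_unitary_intertwine (hτ : IsAntiHom τ) (hττ : ∀ x, τ (τ x) = x) {s : E} (hs : ∀ x, Commute s x)
    (hu : IsUnit (s - τ s)) {A A' g : E} (hA : τ A * A = 1) (hA' : τ A' * A' = 1) (hg : IsUnit g)
    (hgA : g * A = A' * g) : ∃ k : E, τ k * k = 1 ∧ k * A = A' * k := by
  set T := τ g * g with hT
  have hTA : Commute T A := commute_gram hτ hA hA' hgA
  have hτT : τ T = T := by rw [hT, hτ.map_mul, hττ]
  have hAA' : Commute A (τ A) := (hτ.unitary_mul_symm hA).trans hA.symm
  have hs' : ∀ x, Commute (τ s) x := fun x => by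
    have := congrArg τ (hs (τ x)).eq
    simp only [hτ.map_mul, hττ] at this
    exact this.symm
  have hTA' : Commute T (τ A) := commute_of_inverse hTA hA
  let G : Set E := {A, τ A, T, s, τ s}
  have hG : IsTwistSet τ G := by
    refine ⟨hτ, ?_, ?_, fun x _ => hττ x⟩
    · intro x hx y hy
      simp only [G, Set.mem_insert_iff, Set.mem_singleton_iff] at hx hy
      rcases hx with rfl | rfl | rfl | rfl | rfl <;> rcases hy with rfl | rfl | rfl | rfl | rfl <;>
        first
          | exact Commute.refl _
          | exact hs _
          | exact (hs _).symm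
          | exact hs' _
          | exact (hs' _).symm
          | exact hTA
          | exact hTA.symm
          | exact hAA'
          | exact hAA'.symm
          | exact hTA'
          | exact hTA'.symm
    · intro x hx
      simp only [G, Set.mem_insert_iff, Set.mem_singleton_iff] at hx
      rcases hx with rfl | rfl | rfl | rfl | rfl
      · exact Subring.subset_closure (by simp [G])
      · rw [hττ]; exact Subring.subset_closure (by simp [G])
      · rw [hτT]; exact Subring.subset_closure (by simp [G])
      · exact Subring.subset_closure (by simp [G])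
      · rw [hττ]; exact Subring.subset_closure (by simp [G])
  obtain ⟨c, hc, hcu, hcT⟩ := hG.exists_norm_eq (s := s) (t := T) (Subring.subset_closure (by simp [G])) hu
    (Subring.subset_closure (by simp [G])) ((hτ.isUnit_map hg).mul hg) hτT
  obtain ⟨d, hd, hcd, hdc⟩ := exists_inv_mem hc hcu
  have hτd : τ d ∈ Subring.closure G := hτ.mem_closure hG.mem hd
  have hτc : τ c ∈ Subring.closure G := hτ.mem_closure hG.mem hc
  refine ⟨g * d, ?_, ?_⟩
  · calc τ (g * d) * (g * d) = τ d * T * d := by rw [hτ.map_mul, hT]; noncomm_ring
      _ = τ d * c * (τ c * d) := by rw [← hcT]; noncomm_ring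
      _ = c * (τ d * τ c) * d := by rw [(hG.commute hτd hc).eq]; noncomm_ring
      _ = 1 := by rw [← hτ.map_mul, hcd, hτ.map_one, mul_one, hcd]
  · have : Commute d A := hG.commute hd (Subring.subset_closure (by simp [G]))
    rw [mul_assoc, this.eq, ← mul_assoc, hgA, mul_assoc]

/-- The generators `A, τA, u, τu, s, τs`. -/
theorem isTwistSet_gen (hτ : IsAntiHom τ) {A B u v s s' : E} (hA : τ A = B) (hBA : B * A = 1)
    (huA : Commute u A) (huv : u * v = 1) (hτu : τ u = v) (hs : ∀ x, Commute s x) (hs' : ∀ x, Commute s' x)
    (hss : τ s = s') (hss' : τ s' = s) : IsTwistSet τ ({A, B, u, v, s, s'} : Set E) := by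
  have hvu : v * u = 1 := mul_eq_one_comm.mp huv
  have hAB : A * B = 1 := mul_eq_one_comm.mp hBA
  have hτv : τ v = u := by rw [← hτu]; exact hτ.apply_apply_unitary (by rw [hτu]; exact hvu)
  have hτB : τ B = A := by rw [← hA]; exact hτ.apply_apply_unitary (by rw [hA]; exact hBA)
  have h1 : Commute A B := hAB.trans hBA.symm
  have h2 : Commute u v := huv.trans hvu.symm
  have h3 : Commute u B := commute_of_inverse huA hBA
  have h4 : Commute A v := commute_of_inverse huA.symm hvu
  have h5 : Commute B v := commute_of_inverse h3.symm hvu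
  refine ⟨hτ, ?_, ?_, ?_⟩
  · intro x hx y hy
    simp only [Set.mem_insert_iff, Set.mem_singleton_iff] at hx hy
    rcases hx with rfl | rfl | rfl | rfl | rfl | rfl <;> rcases hy with rfl | rfl | rfl | rfl | rfl | rfl <;>
      first
        | exact Commute.refl _
        | exact hs _
        | exact (hs _).symm
        | exact hs' _
        | exact (hs' _).symm
        | exact h1
        | exact h2
        | exact h3
        | exact h4
        | exact h5
        | exact huA
        | exact h1.symm
        | exact h2.symm
        | exact h3.symm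
        | exact h4.symm
        | exact h5.symm
        | exact huA.symm
  · intro x hx
    simp only [Set.mem_insert_iff, Set.mem_singleton_iff] at hx
    rcases hx with rfl | rfl | rfl | rfl | rfl | rfl
    · rw [hA]; exact Subring.subset_closure (by simp)
    · rw [hτB]; exact Subring.subset_closure (by simp)
    · rw [hτu]; exact Subring.subset_closure (by simp)
    · rw [hτv]; exact Subring.subset_closure (by simp)
    · rw [hss]; exact Subring.subset_closure (by simp)
    · rw [hss']; exact Subring.subset_closure (by simp)
  · intro x hx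
    simp only [Set.mem_insert_iff, Set.mem_singleton_iff] at hx
    rcases hx with rfl | rfl | rfl | rfl | rfl | rfl
    · rw [hA, hτB]
    · rw [hτB, hA]
    · rw [hτu, hτv]
    · rw [hτv, hτu]
    · rw [hss, hss']
    · rw [hss', hss]

/-- If `τ ∘ τ` is conjugation by the `τ`-unitary `u`, an element `A` fixed by it and `τ`-unitary admits a
commuting unit `c` with `c = ε u τ c`, where `ε = ± 1`. -/
theorem exists_symmetriser {G : Set E} (hG : IsTwistSet τ G) {u s : E}
    (hu : u ∈ Subring.closure G) (hs : s ∈ Subring.closure G) (hsu : IsUnit (s - τ s)) (huu : u * τ u = 1)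
    (ε : ℤ) (hε : ε * ε = 1) :
    ∃ c ∈ Subring.closure G, IsUnit c ∧ c = (ε : E) * u * τ c := by
  have hεE : τ (ε : E) = (ε : E) := by
    rcases Int.eq_one_or_neg_one_of_mul_eq_one hε with rfl | rfl
    · simp [hG.anti.map_one]
    · simp [hG.anti.map_neg, hG.anti.map_one]
  refine hG.exists_eq_mul_conj hs hsu (mul_mem (intCast_mem _ ε) hu) ?_
  calc (ε : E) * u * τ ((ε : E) * u) = (ε : E) * ((u * τ u) * τ (ε : E)) := by rw [hG.anti.map_mul]; noncomm_ring
    _ = 1 := by rw [huu, one_mul, hεE, ← Int.cast_mul, hε, Int.cast_one]

end Cfsg.Agent.Lib.FormConj
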