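import Mathlib
import Cfsg.Prelude.Def_LieClassical
import Cfsg.Agent.Lib.Forms.Bridge
import Cfsg.Agent.Lib.FieldDescent.Norm
import Cfsg.Agent.Lib.FieldDescent.Unitary
import Cfsg.Agent.Lib.FormConj.Intertwine

/-!
In `GU_n(q)` two elements are conjugate as soon as they are conjugate in `GL_n(q²)`; a matrix similar to its
conjugate inverse transpose is similar to a unitary one.
-/

set_option autoImplicit false

namespace Cfsg.Agent.Lib.FormConj

open Matrix
open scoped MatrixGroups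

variable {K : Type*} [Field K] [Fintype K] {q n : ℕ}

/-- The twisted adjoint `x ↦ k⁻¹ (x̄)ᵀ k`. -/
def twist {ι : Type*} [Fintype ι] [DecidableEq ι] {F : Type*} [Field F] (σ : F →+* F) (k : GL ι F)
    (x : Matrix ι ι F) : Matrix ι ι F :=
  ((k⁻¹ : GL ι F) : Matrix ι ι F) * (x.map σ)ᵀ * (k : Matrix ι ι F)

theorem twist_antiHom {ι : Type*} [Fintype ι] [DecidableEq ι] {F : Type*} [Field F] (σ : F →+* F) (k : GL ι F) :
    IsAntiHom (twist σ k) where
  map_add x y := by
    simp only [twist, Matrix.map_add _ (map_add σ), transpose_add, mul_add, add_mul]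
  map_mul x y := by
    simp only [twist, Matrix.map_mul, transpose_mul, mul_assoc, Units.mul_inv_cancel_left]
  map_one := by
    simp only [twist, Matrix.map_one _ (map_zero σ) (map_one σ), transpose_one, mul_one, Units.inv_mul]

theorem twist_scalar {ι : Type*} [Fintype ι] [DecidableEq ι] {F : Type*} [Field F] (σ : F →+* F) (k : GL ι F)
    (a : F) : twist σ k (Matrix.scalar ι a) = Matrix.scalar ι (σ a) := by
  rw [twist, scalar_apply, diagonal_map (map_zero σ), diagonal_transpose, ← scalar_apply,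
    ← scalar_commute, mul_assoc, Units.inv_mul, mul_one]
  exact fun r => mul_comm _ r

/-- Twisting twice. -/
theorem twist_twist {ι : Type*} [Fintype ι] [DecidableEq ι] {F : Type*} [Field F] (σ : F →+* F)
    (hσ : ∀ a, σ (σ a) = a) (k : GL ι F) (x : Matrix ι ι F) :
    twist σ k (twist σ k x) = (((k⁻¹ : GL ι F) : Matrix ι ι F) * ((k : Matrix ι ι F).map σ)ᵀ) * x
      * ((((k⁻¹ : GL ι F) : Matrix ι ι F).map σ)ᵀ * (k : Matrix ι ι F)) := by
  have hx : (x.map σ).map σ = x := by ext i j; exact hσ _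
  simp only [twist, Matrix.map_mul, ← transpose_map, transpose_mul, transpose_transpose, hx, mul_assoc]

variable (hK : Fintype.card K = q ^ 2)
include hK

theorem mem_GU_iff_twist (g : GL (Fin n) K) :
    g ∈ Cfsg.GU n K q ↔ twist (Forms.qPowHom hK) 1 (g : Matrix (Fin n) (Fin n) K) * g = 1 := by
  rw [PSLAut.mem_GU_iff (FieldDescent.barEquiv hK) (FieldDescent.barEquiv_apply hK)]
  simp only [twist, inv_one, Units.val_one, one_mul, mul_one]
  rfl

theorem twist_one_twist (x : Matrix (Fin n) (Fin n) K) :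
    twist (Forms.qPowHom hK) 1 (twist (Forms.qPowHom hK) 1 x) = x := by
  rw [twist_twist _ (Forms.qPowHom_qPowHom hK)]
  simp [Matrix.map_one _ (map_zero (Forms.qPowHom hK)) (map_one (Forms.qPowHom hK))]

/-- A scalar moved by the involution. -/
theorem exists_scalar_moved (ι : Type*) [Fintype ι] [DecidableEq ι] (k : GL ι K) :
    ∃ a : K, IsUnit (Matrix.scalar ι a - twist (Forms.qPowHom hK) k (Matrix.scalar ι a)) := by
  obtain ⟨a, ha⟩ : ∃ a : K, Forms.qPowHom hK a ≠ a := by
    by_contra hne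
    push Not at hne
    exact Forms.qPowHom_ne_id hK (RingHom.ext hne)
  refine ⟨a, ?_⟩
  rw [twist_scalar, ← map_sub]
  exact ((isUnit_iff_ne_zero.2 (sub_ne_zero.2 ha.symm))).map _

/-- In `GU_n(q)` conjugacy is conjugacy in `GL_n(q²)`. -/
theorem isConj_GU_iff (g g' : Cfsg.GU n K q) : IsConj g g' ↔ IsConj (g : GL (Fin n) K) (g' : GL (Fin n) K) := by
  refine ⟨fun h => ?_, fun h => ?_⟩
  · obtain ⟨c, hc⟩ := isConj_iff.1 h
    exact isConj_iff.2 ⟨c, congrArg Subtype.val hc⟩
  obtain ⟨c, hc⟩ := isConj_iff.1 h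
  obtain ⟨a, ha⟩ := exists_scalar_moved hK (Fin n) 1
  obtain ⟨k, hk, hkA⟩ := exists_unitary_intertwine (twist_antiHom _ 1) (twist_one_twist hK)
    (fun x => scalar_commute a (fun r => mul_comm _ r) x) ha ((mem_GU_iff_twist hK _).1 g.2)
    ((mem_GU_iff_twist hK _).1 g'.2) c.isUnit
    (by rw [← hc, Units.val_mul, Units.val_mul, Units.inv_mul_cancel_right])
  obtain ⟨u, hu⟩ : ∃ u : GL (Fin n) K, (u : Matrix (Fin n) (Fin n) K) = k :=
    ⟨⟨k, twist (Forms.qPowHom hK) 1 k, mul_eq_one_comm.mp hk, hk⟩, rfl⟩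
  refine isConj_iff.2 ⟨⟨u, (mem_GU_iff_twist hK u).2 (by rw [hu]; exact hk)⟩, ?_⟩
  rw [mul_inv_eq_iff_eq_mul]
  exact Subtype.ext (Units.ext (by simpa [hu] using hkA))

/-- A matrix similar to its conjugate inverse transpose is similar to a unitary matrix. -/
theorem exists_GU_isConj (A : GL (Fin n) K) (k : GL (Fin n) K)
    (hk : ((A : Matrix (Fin n) (Fin n) K).map (Forms.qPowHom hK))ᵀ * (k : Matrix (Fin n) (Fin n) K) * A
      = (k : Matrix (Fin n) (Fin n) K)) :
    ∃ g : Cfsg.GU n K q, IsConj A (g : GL (Fin n) K) := by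
  classical
  set σ := Forms.qPowHom hK
  have hσσ := Forms.qPowHom_qPowHom hK
  set τ := twist σ k
  have hτ : IsAntiHom τ := twist_antiHom σ k
  have hA : τ A * (A : Matrix (Fin n) (Fin n) K) = 1 := by
    simp only [τ, twist]
    rw [mul_assoc, mul_assoc, ← mul_assoc ((A : Matrix (Fin n) (Fin n) K).map σ)ᵀ, hk, Units.inv_mul]
  set u : Matrix (Fin n) (Fin n) K := ((k⁻¹ : GL (Fin n) K) : Matrix (Fin n) (Fin n) K) * ((k : Matrix (Fin n) (Fin n) K).map σ)ᵀ with hu
  set v : Matrix (Fin n) (Fin n) K := (((k⁻¹ : GL (Fin n) K) : Matrix (Fin n) (Fin n) K).map σ)ᵀ * (k : Matrix (Fin n) (Fin n) K) with hv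
  have hkσ : ((k : Matrix (Fin n) (Fin n) K).map σ).map σ = (k : Matrix (Fin n) (Fin n) K) := by ext i j; exact hσσ _
  have hτu : τ u = v := by
    simp only [τ, twist, hu, hv, Matrix.map_mul, ← transpose_map, hkσ, transpose_mul, transpose_transpose]
    rw [← mul_assoc, Units.inv_mul, one_mul]
  have huv : u * v = 1 := by
    simp only [hu, hv]
    rw [mul_assoc, ← mul_assoc _ _ (k : Matrix (Fin n) (Fin n) K), ← transpose_mul, ← Matrix.map_mul, Units.inv_mul,
      Matrix.map_one _ (map_zero σ) (map_one σ), transpose_one, one_mul, Units.inv_mul]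
  have hττ : ∀ x, τ (τ x) = u * x * v := twist_twist σ hσσ k
  have hvu : v * u = 1 := mul_eq_one_comm.mp huv
  have huA : Commute u (A : Matrix (Fin n) (Fin n) K) := by
    have h := (hττ A).symm.trans (hτ.apply_apply_unitary hA)
    calc u * A = u * A * (v * u) := by rw [hvu, mul_one]
      _ = (u * A * v) * u := by rw [mul_assoc (u * (A : Matrix (Fin n) (Fin n) K))]
      _ = A * u := by rw [h]
  obtain ⟨a, ha⟩ := exists_scalar_moved hK (Fin n) k
  set s := Matrix.scalar (Fin n) a with hsdef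
  set s' := Matrix.scalar (Fin n) (σ a) with hs'def
  have hsc : ∀ (b : K) x, Commute (Matrix.scalar (Fin n) b) x := fun b x =>
    scalar_commute b (fun r => mul_comm _ r) x
  have hG := isTwistSet_gen hτ (A := (A : Matrix (Fin n) (Fin n) K)) rfl hA huA huv hτu (hsc a) (hsc (σ a))
    (twist_scalar σ k a) ((twist_scalar σ k _).trans (by rw [hσσ]))
  obtain ⟨c, hc, hcu, hceq⟩ := exists_symmetriser hG (u := u) (s := s)
    (Subring.subset_closure (by simp)) (Subring.subset_closure (by simp [hsdef])) ha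
    (by rw [hτu, huv]) 1 (one_mul 1)
  rw [Int.cast_one, one_mul] at hceq
  have hcA : Commute c (A : Matrix (Fin n) (Fin n) K) := hG.commute hc (Subring.subset_closure (by simp))
  have hcomm : Commute u (τ c) := hG.commute (Subring.subset_closure (by simp)) (hτ.mem_closure hG.mem hc)
  set H : GL (Fin n) K := k * hcu.unit
  have hH : ((H : Matrix (Fin n) (Fin n) K).map σ)ᵀ = (H : Matrix (Fin n) (Fin n) K) := by
    show (((k : Matrix (Fin n) (Fin n) K) * c).map σ)ᵀ = (k : Matrix (Fin n) (Fin n) K) * c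
    conv_rhs => rw [hceq, hcomm.eq]
    simp only [τ, twist, hu, Matrix.map_mul, transpose_mul, mul_assoc, Units.mul_inv_cancel_left]
  obtain ⟨h, hh⟩ := FieldDescent.exists_mul_map_transpose (FieldDescent.barEquiv hK)
    (FieldDescent.orderOf_barEquiv hK) H hH
  have hHA : ((A : Matrix (Fin n) (Fin n) K).map σ)ᵀ * (H : Matrix (Fin n) (Fin n) K) * A = (H : Matrix (Fin n) (Fin n) K) := by
    show _ * ((k : Matrix (Fin n) (Fin n) K) * c) * _ = (k : Matrix (Fin n) (Fin n) K) * c
    rw [mul_assoc, mul_assoc, hcA.eq, ← mul_assoc _ _ c, ← mul_assoc, ← mul_assoc, hk]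
  set m : Matrix (Fin n) (Fin n) K := ((h : Matrix (Fin n) (Fin n) K).map σ)ᵀ
  set b : GL (Fin n) K := ⟨m, (((h⁻¹ : GL (Fin n) K) : Matrix (Fin n) (Fin n) K).map σ)ᵀ,
    by rw [← transpose_mul, ← Matrix.map_mul, Units.inv_mul, Matrix.map_one _ (map_zero σ) (map_one σ), transpose_one],
    by rw [← transpose_mul, ← Matrix.map_mul, Units.mul_inv, Matrix.map_one _ (map_zero σ) (map_one σ),
      transpose_one]⟩
  refine ⟨⟨b * A * b⁻¹, (mem_GU_iff_twist hK _).2 ?_⟩, isConj_iff.2 ⟨b, rfl⟩⟩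
  have hhH : (h : Matrix (Fin n) (Fin n) K) = (m.map σ)ᵀ := by
    simp only [m, ← transpose_map, transpose_transpose]
    ext i j
    exact (hσσ _).symm
  have hbH : (((b : Matrix (Fin n) (Fin n) K)).map σ)ᵀ * (b : Matrix (Fin n) (Fin n) K) = (H : Matrix (Fin n) (Fin n) K) := by
    rw [hh]
    show (m.map σ)ᵀ * m = _
    rw [← hhH]
    rfl
  simp only [twist, inv_one, Units.val_one, one_mul, mul_one, Units.val_mul, Matrix.map_mul, transpose_mul]
  set bi : Matrix (Fin n) (Fin n) K := ((b⁻¹ : GL (Fin n) K) : Matrix (Fin n) (Fin n) K)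
  set B : Matrix (Fin n) (Fin n) K := (b : Matrix (Fin n) (Fin n) K)
  calc _ = (bi.map σ)ᵀ * (((A : Matrix (Fin n) (Fin n) K).map σ)ᵀ * ((B.map σ)ᵀ * B)
        * (A : Matrix (Fin n) (Fin n) K)) * bi := by simp only [mul_assoc]; rfl
    _ = (bi.map σ)ᵀ * ((B.map σ)ᵀ * B) * bi := by rw [hbH, hHA]
    _ = (bi.map σ)ᵀ * (B.map σ)ᵀ := by simp only [mul_assoc, bi, B, Units.mul_inv, mul_one]
    _ = 1 := by
      rw [← transpose_mul, ← Matrix.map_mul]
      simp only [bi, B, Units.mul_inv, Matrix.map_one _ (map_zero σ) (map_one σ), transpose_one]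

end Cfsg.Agent.Lib.FormConj
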