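import Mathlib
import Cfsg.Agent.Lib.FormConj.Unitary
import Cfsg.Agent.Lib.Similarity.Jordan

/-!
Every unipotent Jordan type occurs in `GU_n(q)`.
-/

set_option autoImplicit false

namespace Cfsg.Agent.Lib.FormConj

open Matrix
open scoped MatrixGroups

/-- Rank is invariant under field automorphisms, for finite fields. -/
theorem rank_map_hom {F : Type*} [Field F] [Finite F] {ι : Type*} [Fintype ι] (σ : F →+* F) (M : Matrix ι ι F) :
    (M.map σ).rank = M.rank := by
  classical
  have hσ : Function.Bijective σ := σ.injective.bijective_of_finite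
  have hset : ((LinearMap.range (M.map σ).mulVecLin : Submodule F (ι → F)) : Set (ι → F))
      = (fun y => σ ∘ y) '' (LinearMap.range M.mulVecLin : Submodule F (ι → F)) := by
    ext y
    simp only [SetLike.mem_coe, LinearMap.mem_range, Matrix.mulVecLin_apply, Set.mem_image]
    constructor
    · rintro ⟨x, rfl⟩
      obtain ⟨x', rfl⟩ : ∃ x', σ ∘ x' = x := ⟨_, funext fun i => Function.surjInv_eq hσ.2 (x i)⟩
      exact ⟨M *ᵥ x', ⟨x', rfl⟩, funext fun i => RingHom.map_mulVec σ M x' i⟩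
    · rintro ⟨_, ⟨x, rfl⟩, rfl⟩
      exact ⟨σ ∘ x, funext fun i => (RingHom.map_mulVec σ M x i).symm⟩
  have h1 : Nat.card ↥(LinearMap.range (M.map σ).mulVecLin) = Nat.card ↥(LinearMap.range M.mulVecLin) := by
    exact (Nat.card_congr (Equiv.setCongr hset)).trans
      (Nat.card_image_of_injective (fun a b h => funext fun i => σ.injective (congrFun h i)) _)
  have e := fun W : Submodule F (ι → F) => Module.natCard_eq_pow_finrank (K := F) (V := ↥W)
  rw [e, e] at h1
  exact Nat.pow_right_injective Finite.one_lt_card h1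

variable {K : Type*} [Field K] [Fintype K] {q n : ℕ}

/-- A unipotent matrix is similar to a unitary one. -/
theorem exists_GU_isConj_unipotent (hK : Fintype.card K = q ^ 2) (A : GL (Fin n) K)
    (hA : IsNilpotent ((A : Matrix (Fin n) (Fin n) K) - 1)) :
    ∃ g : Cfsg.GU n K q, IsConj A (g : GL (Fin n) K) := by
  classical
  set σ := Forms.qPowHom hK
  let B : GL (Fin n) K := ⟨(((A⁻¹ : GL (Fin n) K) : Matrix (Fin n) (Fin n) K).map σ)ᵀ,
    ((A : Matrix (Fin n) (Fin n) K).map σ)ᵀ,
    by rw [← transpose_mul, ← Matrix.map_mul, Units.mul_inv, Matrix.map_one _ (map_zero σ) (map_one σ),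
      transpose_one],
    by rw [← transpose_mul, ← Matrix.map_mul, Units.inv_mul, Matrix.map_one _ (map_zero σ) (map_one σ),
      transpose_one]⟩
  have hsub : ∀ j, ((B : Matrix (Fin n) (Fin n) K) - 1) ^ j
      = ((((((A⁻¹ : GL (Fin n) K) : Matrix (Fin n) (Fin n) K)) - 1) ^ j).map σ)ᵀ := fun j => by
    show ((((A⁻¹ : GL (Fin n) K) : Matrix (Fin n) (Fin n) K).map σ)ᵀ - 1) ^ j = _
    rw [← RingHom.mapMatrix_apply, ← RingHom.mapMatrix_apply σ, map_pow, map_sub, map_one, transpose_pow,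
      transpose_sub, transpose_one]
  have hinv : ∀ j, ((((A⁻¹ : GL (Fin n) K) : Matrix (Fin n) (Fin n) K)) - 1) ^ j
      = (-((A⁻¹ : GL (Fin n) K) : Matrix (Fin n) (Fin n) K)) ^ j * ((A : Matrix (Fin n) (Fin n) K) - 1) ^ j := fun j => by
    have hc : Commute (-((A⁻¹ : GL (Fin n) K) : Matrix (Fin n) (Fin n) K)) ((A : Matrix (Fin n) (Fin n) K) - 1) :=
      (((Commute.refl A).inv_left.map (Units.coeHom _)).sub_right (Commute.one_right _)).neg_left
    rw [← hc.mul_pow, neg_mul, mul_sub, Units.inv_mul, mul_one, neg_sub]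
  have hrank : ∀ j, (((B : Matrix (Fin n) (Fin n) K) - 1) ^ j).rank
      = (((A : Matrix (Fin n) (Fin n) K) - 1) ^ j).rank := fun j => by
    rw [hsub, rank_transpose, rank_map_hom, hinv,
      rank_mul_eq_right_of_isUnit_det _ _ ((isUnit_iff_isUnit_det _).1 ((A⁻¹).isUnit.neg.pow j))]
  have hB : IsNilpotent ((B : Matrix (Fin n) (Fin n) K) - 1) := by
    obtain ⟨N, hN⟩ := hA
    refine ⟨N, ?_⟩
    rw [hsub, hinv, hN, mul_zero, Matrix.map_zero _ (map_zero σ), transpose_zero]
  obtain ⟨c, hc⟩ := Similarity.isConj_of_unipotent hA hB fun j => (hrank j).symm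
  refine exists_GU_isConj hK A c ?_
  rw [mul_assoc, hc, ← mul_assoc]
  show (((A : Matrix (Fin n) (Fin n) K).map σ)ᵀ * (((A⁻¹ : GL (Fin n) K) : Matrix (Fin n) (Fin n) K).map σ)ᵀ) * _ = _
  rw [← transpose_mul, ← Matrix.map_mul, Units.inv_mul, Matrix.map_one _ (map_zero σ) (map_one σ),
    transpose_one, one_mul]

end Cfsg.Agent.Lib.FormConj
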