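import Mathlib

/-!
The values `a² + a` in a finite field of characteristic two, and a Gauss sum argument: if
`Q(k⁻¹ y) = Q(y) + B(y, v)²` for an isometry `k`, then `Q v` is such a value.
-/

set_option autoImplicit false

namespace Cfsg.Agent.Lib.FormConj.CharTwoGauss

variable {F : Type*} [Field F] [CharP F 2]

/-- `a ↦ a² + a` -/
def sqAdd : F →+ F where
  toFun a := a * a + a
  map_zero' := by simp
  map_add' a b := by linear_combination (a * b) * (CharTwo.two_eq_zero (R := F))

theorem sq_self_injective : Function.Injective (fun a : F => a * a) := by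
  intro a b (h : a * a = b * b)
  have h2 : (a + b) * (a + b) = 0 := by
    linear_combination h + (a * b + b * b) * (CharTwo.two_eq_zero (R := F))
  rw [← sub_eq_zero, CharTwo.sub_eq_add]
  exact mul_self_eq_zero.1 h2

theorem exists_sqrt [Finite F] (a : F) : ∃ b : F, b * b = a :=
  (Finite.injective_iff_surjective.1 sq_self_injective) a

/-- a square root -/
noncomputable def sqrtVal [Finite F] (a : F) : F := (exists_sqrt a).choose

theorem sqrtVal_spec [Finite F] (a : F) : sqrtVal a * sqrtVal a = a := (exists_sqrt a).choose_spec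

theorem sqrtVal_eq [Finite F] {a b : F} (h : b * b = a) : sqrtVal a = b :=
  sq_self_injective ((sqrtVal_spec a).trans h.symm)

theorem sqAdd_apply (a : F) : sqAdd a = a * a + a := rfl

theorem natCard_sqAdd_eq {a : F} (ha : a ∈ (sqAdd (F := F)).range) :
    Nat.card {z : F // z * z + z = a} = 2 := by
  classical
  obtain ⟨z₀, hz₀⟩ := ha
  rw [sqAdd_apply] at hz₀
  have hne : z₀ ≠ z₀ + 1 := fun h => one_ne_zero (α := F) (by linear_combination -h)
  have hset : ∀ z : F, z * z + z = a ↔ z ∈ ({z₀, z₀ + 1} : Finset F) := fun z => by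
    rw [Finset.mem_insert, Finset.mem_singleton]
    constructor
    · intro h
      have : (z - z₀) * (z - (z₀ + 1)) = 0 := by
        linear_combination h - hz₀ + (z₀ * z₀ + z₀ - z * z₀ - z) * (CharTwo.two_eq_zero (R := F))
      rcases mul_eq_zero.1 this with e | e
      · exact Or.inl (sub_eq_zero.1 e)
      · exact Or.inr (sub_eq_zero.1 e)
    · rintro (rfl | rfl)
      · exact hz₀
      · linear_combination hz₀ + (z₀ + 1) * (CharTwo.two_eq_zero (R := F))
  rw [Nat.card_congr (Equiv.subtypeEquivRight hset), Nat.card_eq_fintype_card, Fintype.card_coe,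
    Finset.card_pair hne]

theorem index_sqAdd [Finite F] : (sqAdd (F := F)).range.index = 2 := by
  classical
  have := Fintype.ofFinite F
  have hk : Nat.card (sqAdd (F := F)).ker = 2 := by
    rw [← natCard_sqAdd_eq (a := (0 : F)) ⟨0, map_zero _⟩]
    rfl
  have h1 := (sqAdd (F := F)).ker.card_mul_index
  have h2 := (sqAdd (F := F)).range.card_mul_index
  have h3 := AddSubgroup.index_ker (sqAdd (F := F))
  rw [hk, h3] at h1
  rw [mul_comm 2] at h1
  exact Nat.eq_of_mul_eq_mul_left (Nat.card_pos (α := (sqAdd (F := F)).range)) (h2.trans h1.symm)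

/-- the sign with kernel the values `a² + a` -/
noncomputable def asSign (a : F) : ℤ :=
  @ite _ (a ∈ (sqAdd (F := F)).range) (Classical.dec _) 1 (-1)

theorem asSign_zero : asSign (0 : F) = 1 := if_pos (zero_mem _)

theorem asSign_eq_one {a : F} (h : asSign a = 1) : a ∈ (sqAdd (F := F)).range := by
  by_contra hne
  rw [asSign, if_neg hne] at h
  norm_num at h

theorem asSign_add [Finite F] (a b : F) : asSign (a + b) = asSign a * asSign b := by
  have h := AddSubgroup.add_mem_iff_of_index_two (index_sqAdd (F := F)) (a := a) (b := b)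
  by_cases ha : a ∈ (sqAdd (F := F)).range <;> by_cases hb : b ∈ (sqAdd (F := F)).range <;>
    simp [asSign, ha, hb] at h ⊢ <;> simp [h]

theorem asSign_sq [Finite F] (a : F) : asSign (a * a) = asSign a := by
  have h : asSign (a * a + a) = 1 := if_pos ⟨a, rfl⟩
  rw [asSign_add] at h
  have ha : asSign a * asSign a = 1 := by
    unfold asSign; split_ifs <;> norm_num
  calc asSign (a * a) = asSign (a * a) * (asSign a * asSign a) := by rw [ha, mul_one]
    _ = asSign a := by rw [← mul_assoc, h, one_mul]

theorem exists_asSign_neg [Finite F] : ∃ a : F, asSign a = -1 := by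
  by_contra hne
  push Not at hne
  have : (sqAdd (F := F)).range = ⊤ := eq_top_iff.2 fun a _ => by
    by_contra ha
    exact hne a (if_neg ha)
  have h := index_sqAdd (F := F)
  rw [this, AddSubgroup.index_top] at h
  exact absurd h (by norm_num)

variable [Finite F] {W : Type*} [AddCommGroup W] [Module F W] {Q : W → F}
  {B : LinearMap.BilinForm F W}

theorem sum_asSign_bilin [Fintype W] {z : W} (hz : ∃ x, B x z ≠ 0) :
    ∑ x, asSign (B x z) = 0 := by
  obtain ⟨a, ha⟩ := exists_asSign_neg (F := F)
  obtain ⟨x, hx⟩ := hz
  have h := Equiv.sum_comp (Equiv.addLeft ((a / B x z) • x)) (fun y => asSign (B y z))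
  simp only [Equiv.coe_addLeft, map_add, LinearMap.add_apply, map_smul, LinearMap.smul_apply,
    smul_eq_mul, div_mul_cancel₀ _ hx, asSign_add, ha, neg_one_mul, Finset.sum_neg_distrib] at h
  omega

/-- an isometry moving `Q` to `Q + B(·, v)²` forces `Q v = a² + a` -/
theorem mem_range_of_twist (hQ : ∀ x y, Q (x + y) = Q x + Q y + B x y)
    (hB : ∀ z, (∀ x, B x z = 0) → z = 0) [Finite W] (k : W ≃ₗ[F] W) {v : W}
    (hk : ∀ y, Q y + Q (k.symm y) = B y v * B y v) : Q v ∈ (sqAdd (F := F)).range := by
  classical
  have := Fintype.ofFinite W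
  refine asSign_eq_one ?_
  set S := ∑ y, asSign (Q y) with hS
  have h1 : S = asSign (Q v) * S := by
    calc S = ∑ y, asSign (Q (k.symm y)) := (Equiv.sum_comp k.symm.toEquiv fun y => asSign (Q y)).symm
      _ = ∑ y, asSign (Q (y + v) + Q v) := by
        refine Finset.sum_congr rfl fun y _ => ?_
        have e : Q (k.symm y) = Q y + B y v * B y v := by
          rw [← hk y, ← add_assoc, CharTwo.add_self_eq_zero, zero_add]
        rw [e, asSign_add, asSign_sq, ← asSign_add]
        congr 1
        rw [hQ]
        linear_combination -(Q v) * (CharTwo.two_eq_zero (R := F))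
      _ = asSign (Q v) * ∑ y, asSign (Q (y + v)) := by
        rw [Finset.mul_sum]
        exact Finset.sum_congr rfl fun y _ => by rw [asSign_add, mul_comm]
      _ = asSign (Q v) * S := by
        rw [hS, ← Equiv.sum_comp (Equiv.addRight v) (fun y => asSign (Q y))]
        rfl
  have hSS : S * S = Fintype.card W := by
    have hQ0 : Q 0 = 0 := by
      have := hQ 0 0
      simp only [add_zero, map_zero, LinearMap.zero_apply] at this
      exact left_eq_add.1 this
    calc S * S = ∑ x, ∑ z, asSign (Q x + Q (x + z)) := by
          rw [hS, Finset.sum_mul]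
          refine Finset.sum_congr rfl fun x _ => ?_
          rw [Finset.mul_sum, ← Equiv.sum_comp (Equiv.addLeft x) (fun y => asSign (Q x) * asSign (Q y))]
          exact Finset.sum_congr rfl fun z _ => (asSign_add _ _).symm
      _ = ∑ z, asSign (Q z) * ∑ x, asSign (B x z) := by
          rw [Finset.sum_comm]
          refine Finset.sum_congr rfl fun z _ => ?_
          rw [Finset.mul_sum]
          refine Finset.sum_congr rfl fun x _ => ?_
          rw [← asSign_add, hQ]
          congr 1
          linear_combination Q x * (CharTwo.two_eq_zero (R := F))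
      _ = Fintype.card W := by
          rw [Finset.sum_eq_single (0 : W)]
          · simp [hQ0, asSign_zero]
          · intro z _ hz
            rw [sum_asSign_bilin, mul_zero]
            by_contra hne
            push Not at hne
            exact hz (hB z hne)
          · simp
  have hS0 : S ≠ 0 := fun h0 => by
    rw [h0, mul_zero] at hSS
    exact Fintype.card_ne_zero (α := W) (by exact_mod_cast hSS.symm)
  exact mul_right_cancel₀ hS0 ((one_mul S).trans h1).symm

end Cfsg.Agent.Lib.FormConj.CharTwoGauss
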