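import Mathlib
import Cfsg.Agent.S2623
import Cfsg.Agent.Lib.Forms.Bridge

/-!
Congruence of invertible symmetric matrices over finite fields of odd order, and transport of isometries.
-/

set_option autoImplicit false

namespace Cfsg.Agent.Lib.FormConj

open Matrix
open scoped MatrixGroups

variable {F : Type*} [Field F]

/-- Transport of an isometry along a congruence of forms. -/
theorem transport_isometry {ι : Type*} [Fintype ι] [DecidableEq ι] {A J : Matrix ι ι F} {K P : GL ι F} {c : F}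
    (hc : c ≠ 0) (hAK : Aᵀ * (K : Matrix ι ι F) * A = (K : Matrix ι ι F))
    (hP : (P : Matrix ι ι F)ᵀ * (K : Matrix ι ι F) * (P : Matrix ι ι F) = c • J) {r : ℕ} (hr : A ^ r = 1) :
    ∃ B : Matrix ι ι F, Bᵀ * J * B = J ∧ IsConj A B ∧ B ^ r = 1 := by
  refine ⟨((P⁻¹ : GL ι F) : Matrix ι ι F) * A * (P : Matrix ι ι F), ?_, ⟨P⁻¹, ?_⟩, ?_⟩
  · refine smul_right_injective _ hc ?_
    show c • _ = c • _
    calc _ = (P : Matrix ι ι F)ᵀ * (Aᵀ * ((((P⁻¹ : GL ι F) : Matrix ι ι F)ᵀ * (P : Matrix ι ι F)ᵀ)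
          * (K : Matrix ι ι F) * ((P : Matrix ι ι F) * ((P⁻¹ : GL ι F) : Matrix ι ι F))) * A) * (P : Matrix ι ι F) := by
          rw [← smul_mul_assoc, ← mul_smul_comm, ← hP]; simp only [transpose_mul, mul_assoc]
      _ = c • J := by rw [← transpose_mul, Units.mul_inv, transpose_one, one_mul, mul_one, hAK, hP]
  · show _ = _
    simp [mul_assoc]
  · rw [Units.conj_pow', hr, mul_one, Units.inv_mul]

/-- In odd dimension two invertible symmetric matrices are congruent up to a scalar. -/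
theorem exists_congr_scalar [Fintype F] (h2 : (2 : F) ≠ 0) {ι : Type*} [Fintype ι] [DecidableEq ι]
    (hodd : Odd (Fintype.card ι)) (K k : GL ι F) (hK : (K : Matrix ι ι F)ᵀ = (K : Matrix ι ι F))
    (hk : (k : Matrix ι ι F)ᵀ = (k : Matrix ι ι F)) :
    ∃ (P : GL ι F) (c : F), c ≠ 0 ∧
      (P : Matrix ι ι F)ᵀ * (K : Matrix ι ι F) * (P : Matrix ι ι F) = c • (k : Matrix ι ι F) := by
  classical
  obtain ⟨n, hn⟩ : ∃ n, Fintype.card ι = n := ⟨_, rfl⟩
  rw [hn] at hodd
  let R := Matrix.reindexAlgEquiv F F ((Fintype.equivFin ι).trans (finCongr hn))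
  have hRT : ∀ M, (R M)ᵀ = R Mᵀ := fun M => by simp [R]
  obtain ⟨K', hK'⟩ := K.isUnit.map R
  obtain ⟨k', hk'⟩ := k.isUnit.map R
  have hdK : (K' : Matrix (Fin n) (Fin n) F).det ≠ 0 := ((isUnit_iff_isUnit_det _).1 K'.isUnit).ne_zero
  have hdk : (k' : Matrix (Fin n) (Fin n) F).det ≠ 0 := ((isUnit_iff_isUnit_det _).1 k'.isUnit).ne_zero
  set c := (K' : Matrix (Fin n) (Fin n) F).det * (k' : Matrix (Fin n) (Fin n) F).det with hcdef
  have hc : c ≠ 0 := mul_ne_zero hdK hdk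
  -- quadratic forms with Gram matrices `K'` and `c • k'`
  let Qf : Matrix (Fin n) (Fin n) F → QuadraticForm F (Fin n → F) := fun M =>
    (Matrix.toBilin' ((2 : F)⁻¹ • M)).toQuadraticMap
  have hpolar : ∀ M : Matrix (Fin n) (Fin n) F, Mᵀ = M → ∀ u v,
      QuadraticMap.polar (Qf M) u v = Matrix.toBilin' M u v := fun M hM u v => by
    rw [LinearMap.BilinMap.polar_toQuadraticMap]
    have hsymm : Matrix.toBilin' M v u = Matrix.toBilin' M u v := by
      rw [Matrix.toBilin'_apply', Matrix.toBilin'_apply', dotProduct_mulVec, ← mulVec_transpose, hM, dotProduct_comm]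
    simp only [map_smul, LinearMap.smul_apply, hsymm, smul_eq_mul, ← add_mul]
    rw [← two_mul, mul_inv_cancel₀ h2, one_mul]
  have hgram : ∀ M : Matrix (Fin n) (Fin n) F, Mᵀ = M →
      Matrix.of (fun i j : Fin n => QuadraticMap.polar ⇑(Qf M) (Pi.single i 1) (Pi.single j 1)) = M := fun M hM => by
    ext i j
    rw [Matrix.of_apply, hpolar M hM, Matrix.toBilin'_single]
  have hsK : (K' : Matrix (Fin n) (Fin n) F)ᵀ = (K' : Matrix (Fin n) (Fin n) F) := by rw [hK', hRT, hK]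
  have hsk : (c • (k' : Matrix (Fin n) (Fin n) F))ᵀ = c • (k' : Matrix (Fin n) (Fin n) F) := by
    rw [transpose_smul, hk', hRT, hk]
  have hnd : ∀ M : Matrix (Fin n) (Fin n) F, Mᵀ = M → M.det ≠ 0 →
      (QuadraticMap.polarBilin (Qf M)).Nondegenerate := fun M hM hd => by
    have : QuadraticMap.polarBilin (Qf M) = Matrix.toBilin' M := LinearMap.ext₂ (hpolar M hM)
    rw [this]
    exact LinearMap.BilinForm.nondegenerate_toBilin'_iff_det_ne_zero.2 hd
  have hdc : (c • (k' : Matrix (Fin n) (Fin n) F)).det ≠ 0 := by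
    rw [det_smul]; exact mul_ne_zero (pow_ne_zero _ hc) hdk
  obtain ⟨g, hg⟩ := (Cfsg.Agent.S2623.result h2 (Qf (K' : Matrix (Fin n) (Fin n) F)) (Qf (c • (k' : Matrix (Fin n) (Fin n) F)))
    (hnd _ hsK hdK) (hnd _ hsk hdc)).2 (by
      rw [hgram _ hsK, hgram _ hsk, det_smul, Fintype.card_fin]
      obtain ⟨s, hs⟩ := hodd
      refine ⟨c ^ (s + 1), ?_⟩
      obtain rfl : n = 2 * s + 1 := by omega
      rw [← pow_add, show s + 1 + (s + 1) = 2 * s + 1 + 1 by omega, pow_succ]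
      rw [hcdef]
      ring)
  obtain ⟨G, hG⟩ : ∃ G : GL (Fin n) F, ∀ v, (G : Matrix (Fin n) (Fin n) F) *ᵥ v = g v :=
    ⟨(Forms.glEquiv _ F).symm g, fun v => Forms.glEquiv_symm_mulVec g v⟩
  have hGK : (G : Matrix (Fin n) (Fin n) F)ᵀ * (c • (k' : Matrix (Fin n) (Fin n) F)) * (G : Matrix (Fin n) (Fin n) F)
      = (K' : Matrix (Fin n) (Fin n) F) := by
    refine Matrix.toBilin'.injective (LinearMap.ext₂ fun u v => ?_)
    have h1 : QuadraticMap.polar (Qf (c • (k' : Matrix (Fin n) (Fin n) F))) (g u) (g v)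
        = QuadraticMap.polar (Qf (K' : Matrix (Fin n) (Fin n) F)) u v := by
      simp only [QuadraticMap.polar, ← map_add, hg]
    rw [hpolar _ hsk, hpolar _ hsK, ← hG, ← hG] at h1
    rw [← h1]
    simp only [Matrix.toBilin'_apply', ← mulVec_mulVec]
    rw [mulVec_transpose, dotProduct_comm, ← dotProduct_mulVec, dotProduct_comm]
  set Gi : Matrix (Fin n) (Fin n) F := ((G⁻¹ : GL (Fin n) F) : Matrix (Fin n) (Fin n) F)
  obtain ⟨P, hP⟩ := (G⁻¹).isUnit.map R.symm
  refine ⟨P, c, hc, R.injective ?_⟩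
  rw [map_mul, map_mul, ← hRT, map_smul, hP, AlgEquiv.apply_symm_apply, ← hK', ← hk']
  change Giᵀ * (K' : Matrix (Fin n) (Fin n) F) * Gi = _
  rw [← hGK, ← mul_assoc, ← mul_assoc, ← transpose_mul]
  simp [Gi, mul_assoc]

end Cfsg.Agent.Lib.FormConj
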