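import Mathlib
import Cfsg.Agent.Lib.GUEmbed.Basic
import Cfsg.Agent.Lib.Semisimple.Classes

/-!
Matrices `A` with `A ^ r = 1` over a finite field, described by the multiplicities of the `r`-th roots of unity
among their eigenvalues in an algebraically closed field.
-/

set_option autoImplicit false

namespace Cfsg.Agent.Lib.FormConj

open Matrix Polynomial
open scoped Classical

variable {F L : Type*} [Field F] [Field L] (j : F →+* L) {r : ℕ} [NeZero r] (ζ : L)

/-- The `a`-th power of `ζ`. -/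
def rootAt (a : ZMod r) : L := ζ ^ a.val

/-- The split polynomial with the given multiplicities. -/
noncomputable def polyOf (m : ZMod r → ℕ) : L[X] := ∏ a, (X - C (rootAt ζ a)) ^ m a

/-- `A` has the eigenvalue multiplicities `m`. -/
def HasMult {ι : Type*} [Fintype ι] [DecidableEq ι] (A : Matrix ι ι F) (m : ZMod r → ℕ) : Prop :=
  A.charpoly.map j = polyOf ζ m

variable {ζ} (hζ : IsPrimitiveRoot ζ r)
include hζ

theorem rootAt_mul (k a : ZMod r) : rootAt ζ a ^ k.val = rootAt ζ (k * a) := by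
  rw [rootAt, rootAt, ← pow_mul]
  refine pow_eq_pow_of_modEq ?_ hζ.pow_eq_one
  rw [ZMod.val_mul, mul_comm]
  exact (Nat.mod_modEq _ _).symm

theorem rootAt_pow (k : ℕ) (a : ZMod r) : rootAt ζ a ^ k = rootAt ζ ((k : ZMod r) * a) := by
  rw [← rootAt_mul hζ, ZMod.val_natCast, rootAt, ← pow_mul, ← pow_mul]
  refine pow_eq_pow_of_modEq ?_ hζ.pow_eq_one
  exact (Nat.ModEq.mul_left _ (Nat.mod_modEq k r)).symm

theorem rootAt_injective : Function.Injective (rootAt ζ : ZMod r → L) := fun a b h =>
  ZMod.val_injective r (hζ.pow_inj (ZMod.val_lt a) (ZMod.val_lt b) h)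

theorem roots_polyOf (m : ZMod r → ℕ) (a : ZMod r) :
    ((polyOf ζ m).roots.count (rootAt ζ a)) = m a := by
  classical
  rw [polyOf, roots_prod _ _ (Finset.prod_ne_zero_iff.2 fun b _ => pow_ne_zero _ (X_sub_C_ne_zero _)),
    Multiset.count_bind]
  simp only [roots_pow, roots_X_sub_C, Multiset.count_nsmul, Multiset.count_singleton]
  change ∑ b : ZMod r, m b * (if rootAt ζ a = rootAt ζ b then 1 else 0) = m a
  simp [(rootAt_injective hζ).eq_iff]

theorem polyOf_injective : Function.Injective (polyOf ζ : (ZMod r → ℕ) → L[X]) := fun m m' h =>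
  funext fun a => by rw [← roots_polyOf hζ m a, h, roots_polyOf hζ]

omit hζ in
theorem natDegree_polyOf (m : ZMod r → ℕ) : (polyOf ζ m).natDegree = ∑ a, m a := by
  rw [polyOf, natDegree_prod _ _ fun b _ => pow_ne_zero _ (X_sub_C_ne_zero _)]
  simp

omit hζ in
theorem monic_polyOf (m : ZMod r → ℕ) : (polyOf ζ m).Monic :=
  monic_prod_of_monic _ _ fun _ _ => (monic_X_sub_C _).pow _

/-- Ring maps acting on the roots as multiplication by a unit `k` act on the multiplicities. -/
theorem polyOf_map (σ : L →+* L) (k : (ZMod r)ˣ) (hσ : σ ζ = rootAt ζ (k : ZMod r)) (m : ZMod r → ℕ) :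
    (polyOf ζ m).map σ = polyOf ζ (fun a => m ((↑k⁻¹ : ZMod r) * a)) := by
  rw [polyOf, Polynomial.map_prod, polyOf]
  refine Fintype.prod_equiv (Units.mulLeft k) _ _ fun a => ?_
  rw [Polynomial.map_pow, Polynomial.map_sub, map_X, map_C, Units.mulLeft_apply, Units.inv_mul_cancel_left]
  congr 3
  show σ (ζ ^ a.val) = _
  rw [map_pow, hσ, rootAt_mul hζ, mul_comm]

variable {ι : Type*} [Fintype ι] [DecidableEq ι]

omit hζ in
theorem HasMult.sum_eq {A : Matrix ι ι F} {m : ZMod r → ℕ} (h : HasMult j ζ A m) : ∑ a, m a = Fintype.card ι := by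
  rw [← natDegree_polyOf (ζ := ζ) m, ← h, natDegree_map, Matrix.charpoly_natDegree_eq_dim]

theorem HasMult.unique {A : Matrix ι ι F} {m m' : ZMod r → ℕ} (h : HasMult j ζ A m) (h' : HasMult j ζ A m') :
    m = m' :=
  polyOf_injective hζ (h.symm.trans h')

omit hζ in
theorem hasMult_congr {A B : Matrix ι ι F} (h : IsConj A B) {m : ZMod r → ℕ} (hA : HasMult j ζ A m) :
    HasMult j ζ B m := by
  obtain ⟨P, hP⟩ := h
  rw [HasMult, ← hA, ← Matrix.charpoly_units_conj P A, hP.eq, mul_assoc, ← Matrix.coe_units_inv, Units.mul_inv,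
    mul_one]

/-- Multiplicities of a diagonal matrix of roots of unity. -/
theorem charpoly_diag (b : ι → ZMod r) :
    (diagonal fun i => rootAt ζ (b i)).charpoly = polyOf ζ (fun a => (Finset.univ.filter (fun i => b i = a)).card) := by
  rw [Matrix.charpoly_diagonal, polyOf, ← Finset.prod_fiberwise Finset.univ b]
  refine Finset.prod_congr rfl fun a _ => ?_
  rw [Finset.prod_congr rfl (fun i hi => by rw [(Finset.mem_filter.1 hi).2]), Finset.prod_const]

/-- Every matrix of order dividing `r` has multiplicities. -/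
theorem exists_hasMult [IsAlgClosed L] {A : Matrix ι ι F} (hA : A ^ r = 1) : ∃ m : ZMod r → ℕ, HasMult j ζ A m := by
  classical
  set P := A.charpoly.map j
  have hsplit : P.Splits := IsAlgClosed.splits P
  have hroot : ∀ α ∈ P.roots, ∃ a : ZMod r, rootAt ζ a = α := by
    intro α hα
    have hα' : IsRoot (A.map j).charpoly α := by rw [Matrix.charpoly_map]; exact isRoot_of_mem_roots hα
    have h1 := spectrum.subset_polynomial_aeval (A.map j) ((X : L[X]) ^ r - 1)
      ⟨α, Matrix.mem_spectrum_iff_isRoot_charpoly.2 hα', rfl⟩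
    have h2 : aeval (A.map j) ((X : L[X]) ^ r - 1) = 0 := by
      rw [map_sub, map_pow, aeval_X, map_one, ← RingHom.mapMatrix_apply, ← map_pow, hA, map_one, sub_self]
    rw [h2] at h1
    by_cases hι : Nonempty ι
    · rw [spectrum.zero_eq] at h1
      simp only [eval_sub, eval_pow, eval_X, eval_one, Set.mem_singleton_iff] at h1
      obtain ⟨i, hi, rfl⟩ := hζ.eq_pow_of_pow_eq_one (sub_eq_zero.1 h1)
      exact ⟨(i : ZMod r), by rw [rootAt, ZMod.val_natCast, Nat.mod_eq_of_lt hi]⟩
    · haveI : IsEmpty ι := not_nonempty_iff.1 hι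
      rw [Matrix.charpoly_isEmpty] at hα'
      simp at hα'
  refine ⟨fun a => P.roots.count (rootAt ζ a), ?_⟩
  have hroots : P.roots = ∑ a : ZMod r, Multiset.replicate (P.roots.count (rootAt ζ a)) (rootAt ζ a) := by
    refine Multiset.ext.2 fun α => ?_
    simp only [Multiset.count_sum', Multiset.count_replicate]
    by_cases hα : α ∈ P.roots
    · obtain ⟨a, rfl⟩ := hroot α hα
      simp [(rootAt_injective hζ).eq_iff]
    · rw [Multiset.count_eq_zero_of_notMem hα, eq_comm]
      refine Finset.sum_eq_zero fun a _ => ?_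
      split_ifs with h
      · subst h; exact Multiset.count_eq_zero_of_notMem hα
      · rfl
  have hP : P = (P.roots.map fun α => X - C α).prod := hsplit.eq_prod_roots_of_monic (A.charpoly_monic.map j)
  show P = _
  conv_lhs => rw [hP, hroots]
  rw [← Multiset.coe_mapAddMonoidHom, map_sum, Multiset.prod_sum, polyOf]
  simp [Multiset.map_replicate]

omit hζ in
/-- Over `L` a semisimple matrix is conjugate to the diagonal matrix of its eigenvalues. -/
theorem exists_conj_diag (hζ : IsPrimitiveRoot ζ r) {A : Matrix ι ι F} (P : F[X]) (hP : P.Separable)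
    (hA : aeval A P = 0) {m : ZMod r → ℕ} (hm : HasMult j ζ A m) (hr : (r : L) ≠ 0) :
    ∃ b : ι → ZMod r, (∀ a, (Finset.univ.filter fun i => b i = a).card = m a) ∧
      IsConj (A.map j) (diagonal fun i => rootAt ζ (b i)) := by
  classical
  have hcard : Fintype.card (Σ a : ZMod r, Fin (m a)) = Fintype.card ι := by
    rw [Fintype.card_sigma]; simpa using HasMult.sum_eq j hm
  obtain ⟨e⟩ : Nonempty (ι ≃ Σ a : ZMod r, Fin (m a)) := ⟨Fintype.equivOfCardEq hcard.symm⟩
  have hb : ∀ a, (Finset.univ.filter fun i => (e i).1 = a).card = m a := fun a => by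
    rw [← Fintype.card_subtype, ← Fintype.card_fin (m a)]
    exact Fintype.card_congr ((e.subtypeEquivOfSubtype (p := fun x => x.1 = a)).trans (Equiv.sigmaSubtype a))
  refine ⟨fun i => (e i).1, hb, ?_⟩
  refine Semisimple.isConj_of_charpoly _ _ (P.map j) ((X : L[X]) ^ r - 1) (hP.map.squarefree) ?_
    (Semisimple.squarefree_pow_sub_one hr) ?_ ?_
  · rw [← RingHom.mapMatrix_apply, ← Polynomial.map_aeval_eq_aeval_map (φ := j) (ψ := j.mapMatrix)
      (RingHom.ext fun x => by
        ext a b
        simp [Matrix.algebraMap_matrix_apply, apply_ite j]) P A, hA, map_zero]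
  · rw [map_sub, map_pow, aeval_X, map_one, diagonal_pow, sub_eq_zero]
    refine (congrArg diagonal (funext fun i => ?_)).trans diagonal_one
    rw [Pi.pow_apply, rootAt, ← pow_mul, mul_comm, pow_mul, hζ.pow_eq_one, one_pow]
  · rw [Matrix.charpoly_map, hm, charpoly_diag hζ]
    exact congrArg (polyOf ζ) (funext fun a => (hb a).symm)

/-- Powers act on multiplicities. -/
theorem HasMult.pow {A : Matrix ι ι F} (hA : A ^ r = 1) (hr : (r : F) ≠ 0) {m : ZMod r → ℕ} (hm : HasMult j ζ A m)
    (k : ℕ) (u : (ZMod r)ˣ) (hu : (u : ZMod r) = (k : ZMod r)) :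
    HasMult j ζ (A ^ k) (fun a => m ((↑u⁻¹ : ZMod r) * a)) := by
  classical
  have hrL : (r : L) ≠ 0 := by rw [← map_natCast j]; exact (map_ne_zero j).2 hr
  obtain ⟨b, hb, hconj⟩ := exists_conj_diag j hζ ((X : F[X]) ^ r - 1)
    (by rw [← C_1]; exact separable_X_pow_sub_C 1 hr one_ne_zero) (by simp [hA]) hm hrL
  obtain ⟨P, hP⟩ := hconj
  have h : IsConj ((A ^ k).map j) (diagonal fun i => rootAt ζ ((k : ZMod r) * b i)) := by
    refine ⟨P, ?_⟩
    rw [← RingHom.mapMatrix_apply, map_pow, RingHom.mapMatrix_apply]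
    refine (show SemiconjBy _ _ _ from hP).pow_right k |> fun h => ?_
    rw [diagonal_pow] at h
    convert h using 2
    funext i
    exact (rootAt_pow hζ k (b i)).symm
  obtain ⟨Q, hQ⟩ := h
  rw [HasMult, ← Matrix.charpoly_map, ← Matrix.charpoly_units_conj Q, hQ.eq, mul_assoc, ← Matrix.coe_units_inv,
    Units.mul_inv, mul_one, charpoly_diag hζ]
  refine congrArg (polyOf ζ) (funext fun a => ?_)
  rw [← hb]
  congr 1
  ext i
  simp only [Finset.mem_filter, Finset.mem_univ, true_and, ← hu]
  exact ⟨fun h => by rw [← h, Units.inv_mul_cancel_left], fun h => by rw [h, Units.mul_inv_cancel_left]⟩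

/-- Field maps act on multiplicities. -/
theorem HasMult.map {A : Matrix ι ι F} {m : ZMod r → ℕ} (hm : HasMult j ζ A m) (s : F →+* F) (σ : L →+* L)
    (hs : ∀ x, j (s x) = σ (j x)) (k : (ZMod r)ˣ) (hσ : σ ζ = rootAt ζ (k : ZMod r)) :
    HasMult j ζ (A.map s) (fun a => m ((↑k⁻¹ : ZMod r) * a)) := by
  rw [HasMult, Matrix.charpoly_map, Polynomial.map_map, ← polyOf_map hζ σ k hσ, ← hm, Polynomial.map_map]
  exact congrArg (fun φ => A.charpoly.map φ) (RingHom.ext hs)

omit hζ in
theorem HasMult.transpose {A : Matrix ι ι F} {m : ZMod r → ℕ} (hm : HasMult j ζ A m) : HasMult j ζ Aᵀ m := by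
  rwa [HasMult, Matrix.charpoly_transpose]

/-- Matrices with `A ^ r = 1` and the same multiplicities are similar. -/
theorem isConj_of_hasMult {A B : Matrix ι ι F} (hr : (r : F) ≠ 0) (hA : A ^ r = 1) (hB : B ^ r = 1)
    {m : ZMod r → ℕ} (hmA : HasMult j ζ A m) (hmB : HasMult j ζ B m) : IsConj A B := by
  have _ := hζ
  exact Semisimple.isConj_of_charpoly A B _ _ (Semisimple.squarefree_pow_sub_one hr) (by simp [hA])
    (Semisimple.squarefree_pow_sub_one hr) (by simp [hB]) (Polynomial.map_injective j j.injective (hmA.trans hmB.symm))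

/-- `A = 1` iff all multiplicity sits at `0`. -/
theorem eq_one_iff_hasMult {A : Matrix ι ι F} (hr : (r : F) ≠ 0) (hA : A ^ r = 1) {m : ZMod r → ℕ}
    (hm : HasMult j ζ A m) : A = 1 ↔ ∀ a, a ≠ 0 → m a = 0 := by
  classical
  have hrL : (r : L) ≠ 0 := by rw [← map_natCast j]; exact (map_ne_zero j).2 hr
  obtain ⟨b, hb, P, hP⟩ := exists_conj_diag j hζ ((X : F[X]) ^ r - 1)
    (by rw [← C_1]; exact separable_X_pow_sub_C 1 hr one_ne_zero) (by simp [hA]) hm hrL
  constructor
  · intro h a ha
    subst h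
    rw [← hb, Finset.card_eq_zero, Finset.filter_eq_empty_iff]
    intro i _ hi
    have h1 : (diagonal fun i => rootAt ζ (b i)) = (1 : Matrix ι ι L) := by
      have h2 := (show SemiconjBy _ _ _ from hP).eq
      rw [Matrix.map_one _ (map_zero j) (map_one j), mul_one] at h2
      exact P.isUnit.mul_right_cancel (h2.symm.trans (one_mul _).symm)
    have h3 := congrFun (congrFun h1 i) i
    rw [diagonal_apply_eq, one_apply_eq, hi] at h3
    refine ha (rootAt_injective hζ (h3.trans ?_))
    rw [rootAt, ZMod.val_zero, pow_zero]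
  · intro h
    have hb0 : ∀ i, b i = 0 := fun i => by
      by_contra hi
      have := hb (b i)
      rw [h _ hi, Finset.card_eq_zero, Finset.filter_eq_empty_iff] at this
      exact this (Finset.mem_univ i) rfl
    have h2 := (show SemiconjBy _ _ _ from hP).eq
    rw [show (diagonal fun i => rootAt ζ (b i)) = (1 : Matrix ι ι L) from
      (congrArg diagonal (funext fun i => by rw [hb0 i, rootAt, ZMod.val_zero, pow_zero])).trans diagonal_one,
      one_mul] at h2
    exact Matrix.map_injective j.injective ((P.isUnit.mul_left_cancel (h2.trans (mul_one _).symm)).trans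
      (Matrix.map_one _ (map_zero j) (map_one j)).symm)

/-- Without fixed vectors `A - A⁻¹` is invertible, for odd `r`. -/
theorem isUnit_sub_inv {A : (Matrix ι ι F)ˣ} (hr : (r : F) ≠ 0) (hr2 : IsUnit (2 : ZMod r))
    (hA : (A : Matrix ι ι F) ^ r = 1) {m : ZMod r → ℕ} (hm : HasMult j ζ (A : Matrix ι ι F) m) (h0 : m 0 = 0) :
    IsUnit ((A : Matrix ι ι F) - ((A⁻¹ : (Matrix ι ι F)ˣ) : Matrix ι ι F)) := by
  classical
  have hrL : (r : L) ≠ 0 := by rw [← map_natCast j]; exact (map_ne_zero j).2 hr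
  obtain ⟨b, hb, P, hP⟩ := exists_conj_diag j hζ ((X : F[X]) ^ r - 1)
    (by rw [← C_1]; exact separable_X_pow_sub_C 1 hr one_ne_zero) (by simp [hA]) hm hrL
  have hb0 : ∀ i, b i ≠ 0 := fun i hi => by
    have := hb 0
    rw [h0, Finset.card_eq_zero, Finset.filter_eq_empty_iff] at this
    exact this (Finset.mem_univ i) hi
  have hsq : IsUnit ((A : Matrix ι ι F) ^ 2 - 1) := by
    rw [Matrix.isUnit_iff_isUnit_det, isUnit_iff_ne_zero]
    intro hdet
    have h1 := congrArg j hdet
    rw [map_zero, RingHom.map_det, map_sub, map_pow, map_one, RingHom.mapMatrix_apply] at h1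
    have h2 := ((show SemiconjBy _ _ _ from hP).pow_right 2).sub_right (SemiconjBy.one_right _)
    have h3 := congrArg Matrix.det h2.eq
    rw [det_mul, det_mul, h1, mul_zero, diagonal_pow, ← diagonal_one, diagonal_sub, det_diagonal] at h3
    rcases mul_eq_zero.1 h3.symm with h | h
    · obtain ⟨i, -, hi⟩ := Finset.prod_eq_zero_iff.1 h
      have h4 : rootAt ζ (((2 : ℕ) : ZMod r) * b i) = rootAt ζ (0 : ZMod r) := by
        rw [← rootAt_pow hζ, show rootAt ζ (0 : ZMod r) = 1 by rw [rootAt, ZMod.val_zero, pow_zero]]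
        exact sub_eq_zero.1 hi
      exact hb0 i (hr2.mul_right_eq_zero.1 (by simpa using rootAt_injective hζ h4))
    · exact ((Matrix.isUnit_iff_isUnit_det _).1 P.isUnit).ne_zero h
  have : (A : Matrix ι ι F) - ((A⁻¹ : (Matrix ι ι F)ˣ) : Matrix ι ι F)
      = ((A⁻¹ : (Matrix ι ι F)ˣ) : Matrix ι ι F) * ((A : Matrix ι ι F) ^ 2 - 1) := by
    rw [mul_sub, sq, Units.inv_mul_cancel_left, mul_one]
  rw [this]
  exact A⁻¹.isUnit.mul hsq

omit [Fintype ι] [DecidableEq ι] in
/-- Every `Q`-invariant multiplicity function comes from a matrix with `A ^ r = 1`. -/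
theorem exists_of_mult [Fintype F] {n : ℕ} (hr : (r : F) ≠ 0) (m : ZMod r → ℕ) (hm : ∑ a, m a = n)
    (hinv : ∀ a, m ((Fintype.card F : ZMod r) * a) = m a) (hQ : IsUnit (Fintype.card F : ZMod r)) :
    ∃ A : Matrix (Fin n) (Fin n) F, A ^ r = 1 ∧ HasMult j ζ A m := by
  classical
  obtain ⟨p, hp⟩ := CharP.exists F
  haveI := Fact.mk (CharP.char_is_prime F p)
  haveI := charP_of_injective_ringHom j.injective p
  obtain ⟨f, -, hf⟩ := FiniteField.card F p
  set σ : L →+* L := iterateFrobenius L p f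
  have hσ : ∀ x, σ x = x ^ Fintype.card F := fun x => by rw [hf]; exact iterateFrobenius_def _ _ x
  have hfix : (polyOf ζ m).map σ = polyOf ζ m := by
    rw [polyOf_map hζ σ hQ.unit (by rw [hσ, IsUnit.unit_spec, rootAt, ZMod.val_natCast]
                                    exact pow_eq_pow_of_modEq (Nat.mod_modEq _ _).symm hζ.pow_eq_one)]
    refine congrArg (polyOf ζ) (funext fun a => ?_)
    conv_lhs => rw [← hinv]
    rw [← mul_assoc, hQ.mul_val_inv, one_mul]
  have hlift : polyOf ζ m ∈ Polynomial.lifts j := by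
    rw [Polynomial.lifts_iff_coeff_lifts]
    intro i
    refine GUEmbed.mem_range_of_pow j rfl ?_
    rw [← hσ, ← coeff_map, hfix]
  obtain ⟨g, hg, hdeg, hgm⟩ := lifts_and_natDegree_eq_and_monic hlift (monic_polyOf m)
  have h0 : g.coeff 0 ≠ 0 := by
    intro h
    have h1 : (polyOf ζ m).coeff 0 = 0 := by rw [← hg, coeff_map, h, map_zero]
    rw [coeff_zero_eq_eval_zero, polyOf, eval_prod, Finset.prod_eq_zero_iff] at h1
    obtain ⟨a, -, ha⟩ := h1
    rw [eval_pow, eval_sub, eval_X, eval_C, zero_sub] at ha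
    exact pow_ne_zero _ (hζ.ne_zero (NeZero.ne r)) (neg_eq_zero.1 (eq_zero_of_pow_eq_zero ha))
  obtain ⟨A, hA, ⟨o, ho, hAo⟩, -⟩ := Semisimple.exists_model (p := p) n g
    (by rw [hdeg, natDegree_polyOf, hm]) hgm h0
  have hmA : HasMult j ζ A m := by rw [HasMult, hA, hg]
  refine ⟨A, ?_, hmA⟩
  have hrL : (r : L) ≠ 0 := by rw [← map_natCast j]; exact (map_ne_zero j).2 hr
  obtain ⟨b, -, P, hP⟩ := exists_conj_diag j hζ ((X : F[X]) ^ o - 1)
    (by rw [← C_1]; exact separable_X_pow_sub_C 1 (Semisimple.natCast_ne_zero_of_coprime ho) one_ne_zero)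
    (by simp [hAo]) hmA hrL
  have h1 := ((show SemiconjBy _ _ _ from hP).pow_right r).eq
  rw [diagonal_pow, show (fun i => rootAt ζ (b i)) ^ r = 1 from funext fun i => by
      rw [Pi.pow_apply, rootAt, ← pow_mul, mul_comm, pow_mul, hζ.pow_eq_one, one_pow, Pi.one_apply],
    show diagonal (1 : Fin n → L) = diagonal 1 from rfl] at h1
  refine Matrix.map_injective j.injective ?_
  beta_reduce
  rw [Matrix.map_one _ (map_zero j) (map_one j), ← RingHom.mapMatrix_apply, map_pow, RingHom.mapMatrix_apply]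
  exact P.isUnit.mul_left_cancel (h1.trans (by rw [mul_one, show diagonal (1 : Fin n → L) = 1 from diagonal_one, one_mul]))

end Cfsg.Agent.Lib.FormConj
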