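import Mathlib
import Cfsg.Agent.Lib.FormConj.Spectrum
import Cfsg.Agent.Lib.FormConj.Unitary

/-!
Counting classes of elements of prime order `r` through multiplicity functions invariant under a subgroup of
`(ZMod r)ˣ`; the invariance forced by (and sufficient for) an invariant form.
-/

set_option autoImplicit false

namespace Cfsg.Agent.Lib.FormConj

open Matrix

/-- Tuples with bounded sum. -/
theorem natCard_tuples (α : Type*) [Fintype α] (N : ℕ) :
    Nat.card {c : α → ℕ // ∑ x, c x ≤ N} = Nat.choose (N + Fintype.card α) (Fintype.card α) := by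
  classical
  let e : {c : α → ℕ // ∑ x, c x ≤ N} ≃ {P : Option α → ℕ // ∑ x, P x = N} :=
    { toFun := fun c => ⟨fun x => x.elim (N - ∑ x, c.1 x) c.1, by
        rw [Fintype.sum_option]
        exact Nat.sub_add_cancel c.2⟩
      invFun := fun P => ⟨fun x => P.1 (some x), by
        have h := P.2
        rw [Fintype.sum_option] at h
        exact le_trans (Nat.le_add_left _ _) h.le⟩
      left_inv := fun c => rfl
      right_inv := fun P => by
        refine Subtype.ext (funext fun x => ?_)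
        cases x with
        | some x => rfl
        | none =>
          have h := P.2
          rw [Fintype.sum_option] at h
          simp only [Option.elim_none]
          exact Nat.sub_eq_of_eq_add h.symm }
  rw [Nat.card_congr (e.trans (Sym.equivNatSumOfFintype _ N).symm), Nat.card_eq_fintype_card,
    Sym.card_sym_eq_choose, Fintype.card_option, show Fintype.card α + 1 + N - 1 = N + Fintype.card α by omega]
  exact (Nat.choose_symm_add (a := N) (b := Fintype.card α))

variable {r : ℕ} [Fact r.Prime] (H : Subgroup (ZMod r)ˣ)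

/-- Invariance of a multiplicity function. -/
def IsInv (m : ZMod r → ℕ) : Prop := ∀ u ∈ H, ∀ a, m ((u : ZMod r) * a) = m a

/-- Invariance under generators suffices. -/
theorem isInv_closure {s : Set (ZMod r)ˣ} {m : ZMod r → ℕ} (h : ∀ u ∈ s, ∀ a, m ((u : ZMod r) * a) = m a) :
    IsInv (Subgroup.closure s) m := by
  intro u hu
  induction hu using Subgroup.closure_induction with
  | mem x hx => exact h x hx
  | one => intro a; rw [Units.val_one, one_mul]
  | mul x y _ _ hx hy => intro a; rw [Units.val_mul, mul_assoc, hx, hy]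
  | inv x _ hx => intro a; rw [← hx, Units.mul_inv_cancel_left]

theorem sum_zmod (f : ZMod r → ℕ) : ∑ a, f a = f 0 + ∑ u : (ZMod r)ˣ, f u := by
  classical
  rw [← Finset.add_sum_erase _ _ (Finset.mem_univ (0 : ZMod r))]
  congr 1
  rw [Finset.sum_subtype (p := fun a : ZMod r => a ≠ 0) (Finset.univ.erase 0) (by simp)]
  exact (Fintype.sum_equiv (unitsEquivNeZero) _ _ fun u => rfl).symm

theorem sum_units_quotient (c : (ZMod r)ˣ ⧸ H → ℕ) [Fintype ((ZMod r)ˣ ⧸ H)] :
    ∑ u : (ZMod r)ˣ, c (QuotientGroup.mk u) = Nat.card H * ∑ x, c x := by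
  classical
  have e : ∀ x : (ZMod r)ˣ ⧸ H, (Finset.univ.filter fun u : (ZMod r)ˣ => (u : (ZMod r)ˣ ⧸ H) = x).card = Nat.card H := by
    intro x
    obtain ⟨v, rfl⟩ := QuotientGroup.mk_surjective x
    rw [← Fintype.card_subtype, Nat.card_eq_fintype_card]
    exact Fintype.card_congr ((Equiv.mulLeft v⁻¹).subtypeEquiv fun u => by
      show _ ↔ v⁻¹ * u ∈ H
      rw [eq_comm, QuotientGroup.eq])
  rw [← Finset.sum_fiberwise Finset.univ (fun u : (ZMod r)ˣ => (u : (ZMod r)ˣ ⧸ H)), Finset.mul_sum]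
  refine Finset.sum_congr rfl fun x _ => ?_
  rw [Finset.sum_congr rfl (fun u hu => by rw [(Finset.mem_filter.1 hu).2]), Finset.sum_const, e, smul_eq_mul]

/-- The number of non-trivial invariant multiplicity functions of total `n`. -/
theorem natCard_invariant (n : ℕ) :
    Nat.card {m : ZMod r → ℕ // IsInv H m ∧ ∑ a, m a = n ∧ ∃ a, a ≠ 0 ∧ m a ≠ 0}
      = Nat.choose (n / Nat.card H + H.index) H.index - 1 := by
  classical
  haveI : Fintype ((ZMod r)ˣ ⧸ H) := Fintype.ofFinite _
  have hpos : 0 < Nat.card H := Nat.card_pos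
  let T := {c : (ZMod r)ˣ ⧸ H → ℕ // ∑ x, c x ≤ n / Nat.card H}
  have hk : Fintype.card ((ZMod r)ˣ ⧸ H) = H.index := by rw [Subgroup.index_eq_card, Nat.card_eq_fintype_card]
  let g : T → (ZMod r → ℕ) := fun c a =>
    if ha : a = 0 then n - Nat.card H * ∑ x, c.1 x else c.1 (QuotientGroup.mk (Units.mk0 a ha))
  have hgu : ∀ (c : T) (u : (ZMod r)ˣ), g c u = c.1 (QuotientGroup.mk u) := fun c u => by
    simp only [g, dif_neg u.ne_zero, Units.mk0_val]
  have hle : ∀ c : T, Nat.card H * ∑ x, c.1 x ≤ n := fun c =>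
    (Nat.mul_le_mul_left _ c.2).trans (Nat.mul_div_le n _)
  have hgsum : ∀ c : T, ∑ a, g c a = n := fun c => by
    rw [sum_zmod, Finset.sum_congr rfl fun u _ => hgu c u, sum_units_quotient]
    simp only [g, dite_true]
    exact Nat.sub_add_cancel (hle c)
  have hginv : ∀ c : T, IsInv H (g c) := by
    intro c u hu a
    by_cases ha : a = 0
    · rw [ha, mul_zero]
    · obtain ⟨v, rfl⟩ : ∃ v : (ZMod r)ˣ, (v : ZMod r) = a := ⟨Units.mk0 a ha, rfl⟩
      rw [← Units.val_mul, hgu, hgu]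
      refine congrArg c.1 (QuotientGroup.eq.2 ?_)
      rw [_root_.mul_inv_rev, mul_assoc, mul_comm v⁻¹, mul_assoc, mul_inv_cancel, mul_one]
      exact inv_mem hu
  let z : T := ⟨fun _ => 0, by simp⟩
  have key : Nat.card {m : ZMod r → ℕ // IsInv H m ∧ ∑ a, m a = n ∧ ∃ a, a ≠ 0 ∧ m a ≠ 0}
      = Nat.card {c : T // c ≠ z} := by
    have hne : ∀ c : {c : T // c ≠ z}, ∃ a, a ≠ 0 ∧ g c.1 a ≠ 0 := ?_
    refine (Nat.card_congr (Equiv.ofBijective (fun c : {c : T // c ≠ z} =>
      (⟨g c.1, hginv _, hgsum _, hne c⟩ : {m : ZMod r → ℕ // IsInv H m ∧ ∑ a, m a = n ∧ ∃ a, a ≠ 0 ∧ m a ≠ 0})) ⟨?_, ?_⟩)).symm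
    rotate_left 2
    intro c
    · by_contra hne
      push Not at hne
      refine c.2 (Subtype.ext (funext fun x => ?_))
      obtain ⟨u, rfl⟩ := QuotientGroup.mk_surjective x
      rw [← hgu]
      exact hne u u.ne_zero
    · intro c d h
      refine Subtype.ext (Subtype.ext (funext fun x => ?_))
      obtain ⟨u, rfl⟩ := QuotientGroup.mk_surjective x
      rw [← hgu, ← hgu]
      exact congrFun (congrArg Subtype.val h) u
    · rintro ⟨m, hinv, hsum, a, ha, hma⟩
      have hlift : ∀ u v : (ZMod r)ˣ, QuotientGroup.leftRel H u v → m u = m v := fun u v h => by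
        rw [QuotientGroup.leftRel_apply] at h
        rw [show v = (u⁻¹ * v) * u by rw [mul_comm, mul_inv_cancel_left], Units.val_mul, hinv _ h]
      let c : (ZMod r)ˣ ⧸ H → ℕ := fun x => Quotient.liftOn' x (fun u => m u) hlift
      have hc : ∀ u : (ZMod r)ˣ, c (QuotientGroup.mk u) = m u := fun u => rfl
      have hsum' : m 0 + Nat.card H * ∑ x, c x = n := by
        rw [← sum_units_quotient, ← hsum, sum_zmod]
        exact congrArg _ (Finset.sum_congr rfl fun u _ => hc u)
      refine ⟨⟨⟨c, (Nat.le_div_iff_mul_le hpos).2 (by rw [mul_comm]; omega)⟩, fun h => hma ?_⟩, ?_⟩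
      · have h2 := congrFun (congrArg Subtype.val h) (QuotientGroup.mk (Units.mk0 a ha))
        simpa [hc, z] using h2
      · refine Subtype.ext (funext fun b => ?_)
        by_cases hb : b = 0
        · subst hb
          simp only [g, dite_true]
          omega
        · obtain ⟨v, rfl⟩ : ∃ v : (ZMod r)ˣ, (v : ZMod r) = b := ⟨Units.mk0 b hb, rfl⟩
          exact (hgu _ v).trans (hc v)
  haveI : Finite T := Nat.finite_of_card_ne_zero (by
    rw [natCard_tuples]; exact (Nat.choose_pos (Nat.le_add_left _ _)).ne')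
  haveI : Fintype T := Fintype.ofFinite _
  rw [key, Nat.card_eq_fintype_card, Fintype.card_subtype_compl, Fintype.card_subtype_eq,
    ← Nat.card_eq_fintype_card, natCard_tuples, hk]

variable {F L : Type*} [Field F] [Field L] [IsAlgClosed L] (j : F →+* L) {ζ : L} (hζ : IsPrimitiveRoot ζ r)
include hζ

/-- Classes of elements of order `r` correspond to invariant multiplicity functions. -/
theorem natCard_classes {G : Type*} [Group G] {n : ℕ} (φ : G →* Matrix (Fin n) (Fin n) F)
    (hφ : Function.Injective φ) (hr : (r : F) ≠ 0)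
    (hinj : ∀ g g' : G, g ^ r = 1 → g' ^ r = 1 → IsConj (φ g) (φ g') → IsConj g g')
    (hinto : ∀ g : G, g ^ r = 1 → ∀ m : ZMod r → ℕ, HasMult j ζ (φ g) m → IsInv H m)
    (honto : ∀ m : ZMod r → ℕ, IsInv H m → ∑ a, m a = n → ∃ g : G, g ^ r = 1 ∧ HasMult j ζ (φ g) m) :
    Nat.card {C : ConjClasses G // ∃ g : G, ConjClasses.mk g = C ∧ orderOf g = r}
      = Nat.choose (n / Nat.card H + H.index) H.index - 1 := by
  classical
  rw [← natCard_invariant H n]
  have hord : ∀ g : G, orderOf g = r ↔ g ^ r = 1 ∧ g ≠ 1 := fun g => orderOf_eq_prime_iff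
  have hmult : ∀ g : G, g ^ r = 1 → ∃ m : ZMod r → ℕ, HasMult j ζ (φ g) m := fun g hg =>
    exists_hasMult j hζ (by rw [← map_pow, hg, map_one])
  choose μ hμ using hmult
  have hgood : ∀ g : G, ∀ h : orderOf g = r,
      IsInv H (μ g ((hord g).1 h).1) ∧ ∑ a, μ g ((hord g).1 h).1 a = n ∧
        ∃ a, a ≠ 0 ∧ μ g ((hord g).1 h).1 a ≠ 0 := by
    intro g h
    refine ⟨hinto g ((hord g).1 h).1 _ (hμ _ _), (HasMult.sum_eq j (hμ _ _)).trans (Fintype.card_fin n), ?_⟩
    by_contra hne
    push Not at hne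
    refine ((hord g).1 h).2 (hφ ?_)
    rw [map_one]
    exact (eq_one_iff_hasMult j hζ hr (by rw [← map_pow, ((hord g).1 h).1, map_one]) (hμ _ _)).2 hne
  let f : {C : ConjClasses G // ∃ g : G, ConjClasses.mk g = C ∧ orderOf g = r} →
      {m : ZMod r → ℕ // IsInv H m ∧ ∑ a, m a = n ∧ ∃ a, a ≠ 0 ∧ m a ≠ 0} :=
    fun C => ⟨_, hgood C.2.choose C.2.choose_spec.2⟩
  refine Nat.card_congr (Equiv.ofBijective f ⟨?_, ?_⟩)
  · intro C D h
    refine Subtype.ext ?_
    rw [← C.2.choose_spec.1, ← D.2.choose_spec.1, ConjClasses.mk_eq_mk_iff_isConj]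
    have hC := ((hord _).1 C.2.choose_spec.2).1
    have hD := ((hord _).1 D.2.choose_spec.2).1
    refine hinj _ _ hC hD (isConj_of_hasMult j hζ hr (by rw [← map_pow, hC, map_one])
      (by rw [← map_pow, hD, map_one]) (hμ _ hC) ?_)
    have h' := congrArg Subtype.val h
    rw [show μ _ hC = μ _ hD from h']
    exact hμ _ hD
  · rintro ⟨m, hm, hsum, a, ha, hma⟩
    obtain ⟨g, hg, hgm⟩ := honto m hm hsum
    have hg1 : g ≠ 1 := fun h => hma (((eq_one_iff_hasMult j hζ hr (by rw [← map_pow, hg, map_one]) hgm).1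
      (by rw [h, map_one])) a ha)
    have hex : ∃ g' : G, ConjClasses.mk g' = ConjClasses.mk g ∧ orderOf g' = r :=
      ⟨g, rfl, (hord g).2 ⟨hg, hg1⟩⟩
    refine ⟨⟨ConjClasses.mk g, hex⟩, Subtype.ext (HasMult.unique j hζ (hμ _ _) ?_)⟩
    exact hasMult_congr j (φ.map_isConj (ConjClasses.mk_eq_mk_iff_isConj.1 hex.choose_spec.1).symm) hgm

omit [IsAlgClosed L] in
/-- An invariant form forces invariance under `-q`. -/
theorem mult_neg_mul {ι : Type*} [Fintype ι] [DecidableEq ι] (hr : (r : F) ≠ 0) (s : F →+* F) (σ : L →+* L)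
    (hs : ∀ x, j (s x) = σ (j x)) (u : (ZMod r)ˣ) (hσ : σ ζ = rootAt ζ (u : ZMod r)) (k : GL ι F)
    {A : Matrix ι ι F} (hA : A ^ r = 1) (hτ : twist s k A * A = 1) {m : ZMod r → ℕ} (hm : HasMult j ζ A m)
    (a : ZMod r) : m (-(u : ZMod r) * a) = m a := by
  have hr1 : 1 ≤ r := (Fact.out : r.Prime).one_le
  have hinv : twist s k A = A ^ (r - 1) :=
    left_inv_eq_right_inv hτ (by rw [← pow_succ', Nat.sub_add_cancel hr1, hA])
  have h1 : HasMult j ζ (twist s k A) (fun a => m ((↑u⁻¹ : ZMod r) * a)) := by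
    refine hasMult_congr j ?_ (HasMult.transpose j (HasMult.map j hζ hm s σ hs u hσ))
    exact ⟨k⁻¹, by show _ = _; simp [twist, mul_assoc]⟩
  have h2 := HasMult.pow j hζ hA hr hm (r - 1) (-1)
    (by rw [Units.val_neg, Units.val_one, Nat.cast_sub hr1, ZMod.natCast_self, Nat.cast_one, zero_sub])
  rw [← hinv] at h2
  have h3 := congrFun (HasMult.unique j hζ h1 h2) ((u : ZMod r) * a)
  simp only [Units.inv_mul_cancel_left, inv_neg, inv_one, Units.val_neg, Units.val_one, neg_one_mul] at h3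
  rw [neg_mul]
  exact h3.symm

omit [IsAlgClosed L] in
/-- Invariance under `-q` gives an invariant form. -/
theorem exists_invariant_form {ι : Type*} [Fintype ι] [DecidableEq ι] (hr : (r : F) ≠ 0) (s : F →+* F)
    (σ : L →+* L) (hs : ∀ x, j (s x) = σ (j x)) (u : (ZMod r)ˣ) (hσ : σ ζ = rootAt ζ (u : ZMod r))
    {A : Matrix ι ι F} (hA : A ^ r = 1) {m : ZMod r → ℕ} (hm : HasMult j ζ A m)
    (hinv : ∀ a : ZMod r, m (-(u : ZMod r) * a) = m a) :
    ∃ k : GL ι F, (A.map s)ᵀ * (k : Matrix ι ι F) * A = (k : Matrix ι ι F) := by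
  have hr1 : 1 ≤ r := (Fact.out : r.Prime).one_le
  have h1 := HasMult.transpose j (HasMult.map j hζ hm s σ hs u hσ)
  have h2 := HasMult.pow j hζ hA hr hm (r - 1) (-1)
    (by rw [Units.val_neg, Units.val_one, Nat.cast_sub hr1, ZMod.natCast_self, Nat.cast_one, zero_sub])
  have hAinv : (A ^ (r - 1)) ^ r = 1 := by rw [← pow_mul, mul_comm, pow_mul, hA, one_pow]
  have hBinv : ((A.map s)ᵀ) ^ r = 1 := by
    rw [← transpose_pow, ← RingHom.mapMatrix_apply, ← map_pow, hA, map_one, transpose_one]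
  obtain ⟨k, hk⟩ : IsConj (A ^ (r - 1)) ((A.map s)ᵀ) := by
    refine isConj_of_hasMult j hζ hr hAinv hBinv h2 ?_
    convert h1 using 1
    funext a
    have h := hinv ((↑u⁻¹ : ZMod r) * a)
    rw [neg_mul, Units.mul_inv_cancel_left] at h
    first | (rw [inv_neg, inv_one, Units.val_neg, Units.val_one, neg_one_mul]; exact h) | (rw [inv_neg, inv_one, Units.val_neg, Units.val_one, neg_one_mul]; exact h.symm)
  refine ⟨k, ?_⟩
  rw [← hk.eq, mul_assoc, ← pow_succ, Nat.sub_add_cancel hr1, hA, mul_one]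

end Cfsg.Agent.Lib.FormConj
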