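import Mathlib
import Cfsg.Agent.Lib.FormConj.Intertwine
import Cfsg.Agent.Lib.FormConj.Unitary
import Cfsg.Agent.Lib.Forms.Witt

/-!
Isometry groups of non-degenerate bilinear forms `ε`-symmetric (alternating when `ε = -1`): elements of odd prime
order `r` different from the characteristic are conjugate as soon as they are conjugate in `GL`; an element of order
`r` without fixed vectors which is similar to its inverse transpose preserves a symmetric and an alternating form.
-/

set_option autoImplicit false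

namespace Cfsg.Agent.Lib.FormConj

open Matrix
open scoped MatrixGroups

section Ring

variable {E : Type*} [Ring E] {τ : E → E}

/-- For `x ^ r = 1`: `(x - 1) * ∑ j x^j` is `r` minus the sum of all powers. -/
theorem sub_one_mul_sum_smul (x : E) {r : ℕ} (hx : x ^ r = 1) :
    (x - 1) * (∑ j ∈ Finset.range r, (j : E) * x ^ j) = (r : E) - ∑ j ∈ Finset.range r, x ^ j := by
  have key : ∀ N : ℕ, (x - 1) * (∑ j ∈ Finset.range N, (j : E) * x ^ j)
      = (N : E) * x ^ N - x * ∑ j ∈ Finset.range N, x ^ j := by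
    intro N
    induction N with
    | zero => simp
    | succ N ih =>
      rw [Finset.sum_range_succ, Finset.sum_range_succ, mul_add, ih, mul_add, Nat.cast_succ, add_mul, one_mul,
        sub_mul, one_mul, ← mul_assoc, ← (Nat.cast_commute N x).eq, mul_assoc, ← pow_succ']
      abel
  rw [key, hx, mul_one]
  congr 1
  rw [← sub_eq_zero, ← sub_one_mul, mul_geom_sum, hx, sub_self]

/-- The data of the moved part of a `τ`-unitary element of odd order `r`. -/
structure MovedPart (τ : E → E) (A e w : E) : Prop where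
  idem : e * e = e
  symm : τ e = e
  apply : (A - τ A) * w * e = e
  mem : e ∈ Subring.closure ({A, τ A} : Set E)
  memw : w ∈ Subring.closure ({A, τ A} : Set E)
  fix : A * (1 - e) = 1 - e

theorem exists_movedPart [Finite E] (hτ : IsAntiHom τ) {A : E} (hA : τ A * A = 1) {r : ℕ} (hr : Odd r)
    (hAr : A ^ r = 1) (hrE : IsUnit (r : E)) :
    ∃ e w, MovedPart τ A e w ∧ ∀ {A' g : E}, τ A' * A' = 1 → IsUnit g → g * A = A' * g →
      ∃ e', g * e = e' * g ∧ τ e' = e' ∧ A' * (1 - e') = 1 - e' := by
  obtain ⟨v, hv⟩ := hrE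
  set i : E := ((v⁻¹ : Eˣ) : E) with hi
  have hir : i * (r : E) = 1 := by rw [← hv, hi, Units.inv_mul]
  have hri : (r : E) * i = 1 := by rw [← hv, hi, Units.mul_inv]
  have hic : ∀ x, Commute i x := fun x => by
    have h : Commute (v : E) x := by rw [hv]; exact Nat.cast_commute r x
    exact h.units_inv_left
  have hτr : τ (r : E) = (r : E) := by
    have h : ∀ N : ℕ, τ (N : E) = (N : E) := fun N => by
      induction N with
      | zero => simpa using hτ.map_zero
      | succ N ih => rw [Nat.cast_succ, hτ.map_add, ih, hτ.map_one]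
    exact h r
  have hτi : τ i = i := by
    have h := congrArg τ hir
    rw [hτ.map_mul, hτr, hτ.map_one] at h
    exact (left_inv_eq_right_inv hir h).symm
  -- the fixed idempotent of a unitary element of order dividing `r`
  have hf : ∀ B : E, τ B * B = 1 → B ^ r = 1 → ∀ f, f = i * ∑ j ∈ Finset.range r, (B ^ 2) ^ j →
      f * f = f ∧ τ f = f ∧ B * f = f := by
    intro B hB hBr f hfdef
    set x := B ^ 2 with hx
    have hxr : x ^ r = 1 := by rw [hx, ← pow_mul, mul_comm, pow_mul, hBr, one_pow]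
    set S := ∑ j ∈ Finset.range r, x ^ j with hS
    have hxS : x * S = S := by
      rw [← sub_eq_zero, ← sub_one_mul, mul_geom_sum, hxr, sub_self]
    have hpow : ∀ j : ℕ, x ^ j * S = S := fun j => by
      induction j with
      | zero => rw [pow_zero, one_mul]
      | succ j ih => rw [pow_succ, mul_assoc, hxS, ih]
    have hxf : ∀ j : ℕ, x ^ j * f = f := fun j => by
      rw [hfdef, ← mul_assoc, ← (hic _).eq, mul_assoc, hpow]
    have hBf : B * f = f := by
      obtain ⟨k, hk⟩ := hr
      have h : B = x ^ (k + 1) := by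
        rw [hx, ← pow_mul, show 2 * (k + 1) = r + 1 by omega, pow_succ, hBr, one_mul]
      rw [h, hxf]
    have hff : f * f = f := by
      conv_lhs => arg 1; rw [hfdef]
      rw [mul_assoc, Finset.sum_mul, Finset.sum_congr rfl fun j _ => hxf j, Finset.sum_const, Finset.card_range,
        nsmul_eq_mul, ← mul_assoc, hir, one_mul]
    have hτS : τ S = ∑ j ∈ Finset.range r, τ x ^ j := by
      rw [hS]
      induction (Finset.range r) using Finset.induction_on with
      | empty => simpa using hτ.map_zero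
      | insert a s ha ih => rw [Finset.sum_insert ha, Finset.sum_insert ha, hτ.map_add, ih, hτ.map_pow]
    have hτf : τ f = i * τ S := by rw [hfdef, hτ.map_mul, hτi, (hic _).eq]
    have hτxx : τ x * x = 1 := by
      rw [hx, sq, hτ.map_mul, mul_assoc, ← mul_assoc (τ B) B B, hB, one_mul, hB]
    have hτxf : ∀ j : ℕ, τ x ^ j * f = f := fun j => by
      conv_lhs => rw [← hxf j]
      rw [← mul_assoc, ← (show Commute (τ x) x from hτxx.trans (mul_eq_one_comm.mp hτxx).symm).mul_pow, hτxx,
        one_pow, one_mul]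
    have h1 : τ f * f = f := by
      rw [hτf, hτS, mul_assoc, Finset.sum_mul, Finset.sum_congr rfl fun j _ => hτxf j, Finset.sum_const,
        Finset.card_range, nsmul_eq_mul, ← mul_assoc, hir, one_mul]
    have hττ : τ (τ f) = f := by
      rw [hτf, hτ.map_mul, hτi, ← (hic _).eq, hτS, hfdef]
      congr 1
      rw [hS]
      induction (Finset.range r) using Finset.induction_on with
      | empty => simpa using hτ.map_zero
      | insert a s ha ih =>
        rw [Finset.sum_insert ha, Finset.sum_insert ha, hτ.map_add, ih, hτ.map_pow, hx, hτ.map_pow, hτ.map_pow,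
          hτ.apply_apply_unitary hB]
    have h2 : τ f = f := by
      have h := congrArg τ h1
      rw [hτ.map_mul, hττ, h1] at h
      exact h.symm
    exact ⟨hff, h2, hBf⟩
  obtain ⟨hff, hτf, hAf⟩ := hf A hA hAr _ rfl
  set f := i * ∑ j ∈ Finset.range r, (A ^ 2) ^ j with hfdef
  have hmemA : A ∈ Subring.closure ({A, τ A} : Set E) := Subring.subset_closure (by simp)
  have himem : i ∈ Subring.closure ({A, τ A} : Set E) := by
    obtain ⟨y, hy, -, hy'⟩ := exists_inv_mem (natCast_mem (Subring.closure ({A, τ A} : Set E)) r) (hv ▸ v.isUnit)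
    rwa [show i = y from (left_inv_eq_right_inv hy' hri).symm]
  have hfmem : f ∈ Subring.closure ({A, τ A} : Set E) :=
    mul_mem himem (sum_mem fun j _ => pow_mem (pow_mem hmemA 2) j)
  refine ⟨1 - f, i * (∑ j ∈ Finset.range r, (j : E) * (A ^ 2) ^ j) * A,
    ⟨?_, ?_, ?_, sub_mem (one_mem _) hfmem,
      mul_mem (mul_mem himem (sum_mem fun j _ => mul_mem (natCast_mem _ j) (pow_mem (pow_mem hmemA 2) j))) hmemA,
      by rw [sub_sub_cancel, hAf]⟩, ?_⟩
  · rw [mul_sub, sub_mul, sub_mul, one_mul, mul_one, one_mul, hff, sub_self, sub_zero]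
  · rw [hτ.map_sub, hτ.map_one, hτf]
  · set T := ∑ j ∈ Finset.range r, (j : E) * (A ^ 2) ^ j
    have hTA : Commute T A := Commute.sum_left _ _ _ fun j _ =>
      (Nat.cast_commute j A).mul_left (((Commute.refl A).pow_left 2).pow_left j)
    have h1 : (A - τ A) * A = A ^ 2 - 1 := by rw [sub_mul, hA, sq]
    have h2 : (A - τ A) * (i * T * A) = i * ((A - τ A) * A * T) := by
      rw [mul_assoc i T A, hTA.eq, ← mul_assoc i, ← mul_assoc (A - τ A), ← mul_assoc (A - τ A) i, ← (hic _).eq,
        mul_assoc i, mul_assoc]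
    rw [h2, h1, sub_one_mul_sum_smul (A ^ 2) (by rw [← pow_mul, mul_comm, pow_mul, hAr, one_pow]), mul_sub i, hir,
      ← hfdef]
    simp only [sub_mul, mul_sub, one_mul, mul_one, hff, sub_self, sub_zero]
  · intro A' g hA' hg hgA
    have hs : SemiconjBy g A A' := hgA
    have hA'r : A' ^ r = 1 := by
      have h : g * A ^ r = A' ^ r * g := (hs.pow_right r).eq
      rw [hAr, mul_one] at h
      exact hg.mul_right_cancel (h.symm.trans (one_mul g).symm)
    obtain ⟨-, hτf', hAf'⟩ := hf A' hA' hA'r _ rfl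
    refine ⟨1 - i * ∑ j ∈ Finset.range r, (A' ^ 2) ^ j, ?_, ?_, ?_⟩
    · have hsum : g * ∑ j ∈ Finset.range r, (A ^ 2) ^ j = (∑ j ∈ Finset.range r, (A' ^ 2) ^ j) * g := by
        rw [Finset.mul_sum, Finset.sum_mul]
        exact Finset.sum_congr rfl fun j _ => ((hs.pow_right 2).pow_right j).eq
      rw [mul_sub, sub_mul, mul_one, one_mul, hfdef, ← mul_assoc, ← (hic g).eq, mul_assoc i, hsum, ← mul_assoc]
    · rw [hτ.map_sub, hτ.map_one, hτf']
    · rw [sub_sub_cancel, hAf']

end Ring

section Bilinear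

variable {F : Type*} [Field F] [Finite F] {ι : Type*} [Fintype ι] [DecidableEq ι]

/-- The adjoint `x ↦ k⁻¹ xᵀ k` with respect to the Gram matrix `k`. -/
abbrev adj (k : GL ι F) : Matrix ι ι F → Matrix ι ι F := twist (RingHom.id F) k

omit [Finite F] in
theorem adj_apply (k : GL ι F) (x : Matrix ι ι F) :
    adj k x = ((k⁻¹ : GL ι F) : Matrix ι ι F) * xᵀ * (k : Matrix ι ι F) := by
  simp [adj, twist]

omit [Finite F] in
theorem adj_adj {k : GL ι F} {ε : F} (hε : ε * ε = 1) (hk : (k : Matrix ι ι F)ᵀ = ε • (k : Matrix ι ι F))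
    (x : Matrix ι ι F) : adj k (adj k x) = x := by
  have hki : ((k⁻¹ : GL ι F) : Matrix ι ι F)ᵀ = ε • ((k⁻¹ : GL ι F) : Matrix ι ι F) := by
    refine left_inv_eq_right_inv (a := (k : Matrix ι ι F)ᵀ) ?_ ?_
    · rw [← transpose_mul, Units.mul_inv, transpose_one]
    · rw [hk, smul_mul_smul_comm, hε, Units.mul_inv, one_smul]
  simp only [adj_apply, transpose_mul, transpose_transpose, hk, hki]
  simp only [smul_mul_assoc, mul_smul_comm, smul_smul, hε, one_smul, mul_assoc]
  rw [Units.inv_mul_cancel_left, Units.inv_mul, mul_one]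

omit [Finite F] in
theorem transpose_of_goodForm {k : GL ι F} {ε : F}
    (hB : Forms.IsGoodForm (σ := RingHom.id F) (Matrix.toBilin' (k : Matrix ι ι F)) ε) :
    (k : Matrix ι ι F)ᵀ = ε • (k : Matrix ι ι F) := by
  ext a b
  have h := hB.herm (Pi.single a 1) (Pi.single b 1)
  simpa [Matrix.toBilin'_single] using h

omit [Finite F] in
theorem adj_mul_self_iff (k : GL ι F) (H : Matrix ι ι F) :
    adj k H * H = 1 ↔ Hᵀ * (k : Matrix ι ι F) * H = (k : Matrix ι ι F) := by
  rw [adj_apply, mul_assoc, mul_assoc, Units.inv_mul_eq_iff_eq_mul, mul_one, mul_assoc]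

omit [Finite F] in
theorem adj_mul_self_iff_preserves (k : GL ι F) (H : Matrix ι ι F) :
    adj k H * H = 1 ↔ ∀ u v, Matrix.toBilin' (k : Matrix ι ι F) (H *ᵥ u) (H *ᵥ v)
      = Matrix.toBilin' (k : Matrix ι ι F) u v := by
  rw [adj_mul_self_iff]
  have key : ∀ u v, Matrix.toBilin' (k : Matrix ι ι F) (H *ᵥ u) (H *ᵥ v)
      = Matrix.toBilin' (Hᵀ * (k : Matrix ι ι F) * H) u v := fun u v => by
    simp only [Matrix.toBilin'_apply', dotProduct_mulVec, ← vecMul_vecMul, vecMul_transpose]
  constructor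
  · intro h u v
    rw [key, h]
  · intro h
    exact Matrix.toBilin'.injective (LinearMap.ext₂ fun u v => (key u v).symm.trans (h u v))

/-- Isometries of odd order `r` prime to the characteristic, related by an invertible intertwiner, are related by an
isometric one. -/
theorem exists_isometry_intertwine (k : GL ι F) {ε : F}
    (hB : Forms.IsGoodForm (σ := RingHom.id F) (Matrix.toBilin' (k : Matrix ι ι F)) ε) {r : ℕ} (hr : Odd r)
    (hrF : (r : F) ≠ 0) {A A' g : Matrix ι ι F} (hA : adj k A * A = 1) (hA' : adj k A' * A' = 1)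
    (hAr : A ^ r = 1) (hg : IsUnit g) (hgA : g * A = A' * g) :
    ∃ H : Matrix ι ι F, adj k H * H = 1 ∧ H * A = A' * H := by
  classical
  have hτ : IsAntiHom (adj k) := twist_antiHom _ k
  have hττ : ∀ x, adj k (adj k x) = x := adj_adj hB.eps_sq (transpose_of_goodForm hB)
  have hrE : IsUnit (r : Matrix ι ι F) := by
    rw [← map_natCast (Matrix.scalar ι)]
    exact (isUnit_iff_ne_zero.2 hrF).map _
  obtain ⟨e, w, hP, hmove⟩ := exists_movedPart hτ hA hr hAr hrE
  set τ := adj k
  set T := τ g * g with hT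
  have hTA : Commute T A := commute_gram hτ hA hA' hgA
  have hτT : τ T = T := by rw [hT, hτ.map_mul, hττ]
  have hAA' : Commute A (τ A) := (hτ.unitary_mul_symm hA).trans hA.symm
  have hTA' : Commute T (τ A) := commute_of_inverse hTA hA
  let G : Set (Matrix ι ι F) := {A, τ A, T}
  have hsub : Subring.closure ({A, τ A} : Set (Matrix ι ι F)) ≤ Subring.closure G :=
    Subring.closure_mono (by intro x hx; rcases hx with rfl | rfl <;> simp [G])
  have hG : IsTwistSet τ G := by
    refine ⟨hτ, ?_, ?_, fun x _ => hττ x⟩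
    · intro x hx y hy
      simp only [G, Set.mem_insert_iff, Set.mem_singleton_iff] at hx hy
      rcases hx with rfl | rfl | rfl <;> rcases hy with rfl | rfl | rfl <;>
        first
          | exact Commute.refl _
          | exact hTA
          | exact hTA.symm
          | exact hAA'
          | exact hAA'.symm
          | exact hTA'
          | exact hTA'.symm
    · intro x hx
      simp only [G, Set.mem_insert_iff, Set.mem_singleton_iff] at hx
      rcases hx with rfl | rfl | rfl
      · exact Subring.subset_closure (by simp [G])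
      · rw [hττ]; exact Subring.subset_closure (by simp [G])
      · rw [hτT]; exact Subring.subset_closure (by simp [G])
  obtain ⟨c, hc, hcu, hcT⟩ := hG.exists_norm_eq_idem (e := e) (s := A) (w := w) (t := T) (hsub hP.mem)
    (Subring.subset_closure (by simp [G])) (hsub hP.memw) (Subring.subset_closure (by simp [G])) hP.idem hP.symm
    hP.apply ((hτ.isUnit_map hg).mul hg) hτT
  obtain ⟨d, hd, hcd, hdc⟩ := exists_inv_mem hc hcu
  have hAm : A ∈ Subring.closure G := Subring.subset_closure (by simp [G])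
  have hem : e ∈ Subring.closure G := hsub hP.mem
  have hτd : τ d ∈ Subring.closure G := hτ.mem_closure hG.mem hd
  have hτc : τ c ∈ Subring.closure G := hτ.mem_closure hG.mem hc
  set g₀ := g * d with hg₀
  have hg₀u : IsUnit g₀ := hg.mul (IsUnit.of_mul_eq_one c hdc)
  have hg₀e : τ g₀ * g₀ * e = e := by
    calc τ g₀ * g₀ * e = τ d * T * d * e := by rw [hg₀, hτ.map_mul, hT]; noncomm_ring
      _ = τ d * d * (T * e) := by rw [mul_assoc (τ d), (hG.commute (Subring.subset_closure (by simp [G])) hd).eq]; noncomm_ring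
      _ = τ d * (d * c) * (τ c * e) := by rw [← hcT]; noncomm_ring
      _ = τ (c * d) * e := by rw [hdc, mul_one, hτ.map_mul, mul_assoc]
      _ = e := by rw [hcd, hτ.map_one, one_mul]
  have hg₀A : g₀ * A = A' * g₀ := by
    rw [hg₀, mul_assoc, (hG.commute hd hAm).eq, ← mul_assoc, hgA, mul_assoc]
  obtain ⟨e', he', hτe', hfix'⟩ := hmove hA' hg₀u hg₀A
  -- Witt's theorem on the moved space
  set B := Matrix.toBilin' (k : Matrix ι ι F)
  let X : Submodule F (ι → F) := LinearMap.range e.mulVecLin
  let φ : X →ₗ[F] (ι → F) := g₀.mulVecLin ∘ₗ X.subtype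
  have hφ : Function.Injective φ :=
    (Matrix.mulVec_injective_iff_isUnit.2 hg₀u).comp Subtype.val_injective
  have hpres : ∀ a b : X, B (φ a) (φ b) = B (a : ι → F) (b : ι → F) := by
    rintro a ⟨_, y, rfl⟩
    show B (g₀ *ᵥ (a : ι → F)) (g₀ *ᵥ (e *ᵥ y)) = B (a : ι → F) (e *ᵥ y)
    have key : g₀ᵀ * (k : Matrix ι ι F) * g₀ * e = (k : Matrix ι ι F) * e := by
      conv_rhs => rw [← hg₀e]
      simp only [τ, adj_apply, ← mul_assoc, Units.mul_inv, one_mul]
    rw [Matrix.toBilin'_apply', Matrix.toBilin'_apply', dotProduct_comm, dotProduct_mulVec]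
    rw [← dotProduct_mulVec, dotProduct_comm, ← vecMul_transpose, ← dotProduct_mulVec, mulVec_mulVec, mulVec_mulVec,
      mulVec_mulVec, mulVec_mulVec, key]
  obtain ⟨h, hh, hhX⟩ := hB.witt φ hφ hpres
  set H := LinearMap.toMatrix' (h : (ι → F) →ₗ[F] ι → F) with hH
  have hHv : ∀ v, H *ᵥ v = h v := fun v => by rw [hH, LinearMap.toMatrix'_mulVec]; rfl
  have hHu : τ H * H = 1 := (adj_mul_self_iff_preserves k H).2 fun u v => by rw [hHv, hHv]; exact hh u v
  have hHe : H * e = g₀ * e := Matrix.ext_iff_mulVec.2 fun v => by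
    rw [← mulVec_mulVec, ← mulVec_mulVec, hHv]
    exact hhX ⟨e *ᵥ v, v, rfl⟩
  refine ⟨H, hHu, ?_⟩
  have hAe : A * e = e * A := (hG.commute hAm hem).eq
  have h1 : H * A * e = A' * H * e := by
    rw [mul_assoc, hAe, ← mul_assoc, hHe, mul_assoc, ← hAe, ← mul_assoc, hg₀A, mul_assoc, ← hHe, ← mul_assoc]
  have h2 : τ g₀ * (e' * (H * (1 - e))) = 0 := by
    calc τ g₀ * (e' * (H * (1 - e))) = τ (H * e) * (H * (1 - e)) := by
          rw [hHe, he', hτ.map_mul e' g₀, hτe', mul_assoc]
      _ = e * (τ H * H) * (1 - e) := by rw [hτ.map_mul, hP.symm]; noncomm_ring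
      _ = 0 := by rw [hHu, mul_one, mul_sub, mul_one, hP.idem, sub_self]
  have h3 : e' * (H * (1 - e)) = 0 := (hτ.isUnit_map hg₀u).mul_right_eq_zero.mp h2
  have h4 : A' * (H * (1 - e)) = H * (1 - e) := by
    have h5 : H * (1 - e) = (1 - e') * (H * (1 - e)) := by rw [sub_mul, one_mul, h3, sub_zero]
    conv_lhs => rw [h5]
    rw [← mul_assoc, hfix', ← h5]
  have h6 : H * A * (1 - e) = A' * H * (1 - e) := by
    rw [mul_assoc, hP.fix, mul_assoc, h4]
  calc H * A = H * A * e + H * A * (1 - e) := by noncomm_ring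
    _ = A' * H * e + A' * H * (1 - e) := by rw [h1, h6]
    _ = A' * H := by noncomm_ring

/-- An element without eigenvalues `±1` that is similar to its inverse transpose (through `k`) preserves an
invertible form `Q + ε Qᵀ`. -/
theorem exists_form (A k : GL ι F) (hk : (A : Matrix ι ι F)ᵀ * (k : Matrix ι ι F) * A = (k : Matrix ι ι F))
    (hu : IsUnit ((A : Matrix ι ι F) - ((A⁻¹ : GL ι F) : Matrix ι ι F))) (ε : ℤ) (hε : ε * ε = 1) :
    ∃ (Q : Matrix ι ι F) (H : GL ι F), (H : Matrix ι ι F) = Q + (ε : Matrix ι ι F) * Qᵀ ∧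
      (A : Matrix ι ι F)ᵀ * (H : Matrix ι ι F) * A = (H : Matrix ι ι F) := by
  classical
  set τ := adj k
  have hτ : IsAntiHom τ := twist_antiHom _ k
  have hA : τ (A : Matrix ι ι F) * A = 1 := (adj_mul_self_iff k _).2 hk
  have hτA : τ (A : Matrix ι ι F) = ((A⁻¹ : GL ι F) : Matrix ι ι F) := left_inv_eq_right_inv hA (Units.mul_inv A)
  set u : Matrix ι ι F := ((k⁻¹ : GL ι F) : Matrix ι ι F) * (k : Matrix ι ι F)ᵀ with hudef
  set v : Matrix ι ι F := ((k⁻¹ : GL ι F) : Matrix ι ι F)ᵀ * (k : Matrix ι ι F) with hvdef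
  have huv : u * v = 1 := by
    simp only [hudef, hvdef]
    rw [mul_assoc, ← mul_assoc _ _ (k : Matrix ι ι F), ← transpose_mul, Units.inv_mul, transpose_one, one_mul,
      Units.inv_mul]
  have hτu : τ u = v := by
    simp only [τ, adj_apply, hudef, hvdef, transpose_mul, transpose_transpose]
    rw [← mul_assoc, Units.inv_mul, one_mul]
  have hττ : ∀ x, τ (τ x) = u * x * v := fun x => by
    simp only [τ, adj_apply, hudef, hvdef, transpose_mul, transpose_transpose, mul_assoc]
  have hvu : v * u = 1 := mul_eq_one_comm.mp huv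
  have huA : Commute u (A : Matrix ι ι F) := by
    have h := (hττ A).symm.trans (hτ.apply_apply_unitary hA)
    calc u * A = u * A * (v * u) := by rw [hvu, mul_one]
      _ = (u * A * v) * u := by rw [mul_assoc (u * (A : Matrix ι ι F))]
      _ = A * u := by rw [h]
  have hG := isTwistSet_gen hτ (A := (A : Matrix ι ι F)) rfl hA huA huv hτu (s := 1) (s' := 1)
    (fun x => Commute.one_left x) (fun x => Commute.one_left x) hτ.map_one hτ.map_one
  set G : Set (Matrix ι ι F) := {(A : Matrix ι ι F), τ (A : Matrix ι ι F), u, v, 1, 1}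
  have hu' : IsUnit ((A : Matrix ι ι F) - τ (A : Matrix ι ι F)) := by rwa [hτA]
  have hAm : (A : Matrix ι ι F) ∈ Subring.closure G := Subring.subset_closure (by simp [G])
  have hum : u ∈ Subring.closure G := Subring.subset_closure (by simp [G])
  have hdm : (A : Matrix ι ι F) - τ (A : Matrix ι ι F) ∈ Subring.closure G :=
    sub_mem hAm (hτ.mem_closure hG.mem hAm)
  obtain ⟨y, hy, hy1, hy2⟩ := exists_inv_mem hdm hu'
  obtain ⟨c, hc, hcu, hceq⟩ := exists_symmetriser hG hum hAm hu' (by rw [hτu, huv]) ε hε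
  have hτy : τ y = -y := by
    have h := congrArg τ hy1
    rw [hτ.map_mul, hτ.map_sub, hτ.apply_apply_unitary hA, hτ.map_one] at h
    exact left_inv_eq_right_inv h (by rw [mul_neg, ← neg_mul, neg_sub, hy1])
  set w := (A : Matrix ι ι F) * y with hw
  have hwm : w ∈ Subring.closure G := mul_mem hAm hy
  have hw1 : w + τ w = 1 := by
    rw [hw, hτ.map_mul, hτy, neg_mul, ← sub_eq_add_neg, (hG.commute hAm hy).eq, ← mul_sub, hy2]
  set Q := (k : Matrix ι ι F) * (c * w) with hQ
  have hQt : Qᵀ = (k : Matrix ι ι F) * (τ (c * w) * u) := by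
    simp only [hQ, τ, adj_apply, hudef, transpose_mul, mul_assoc, Units.mul_inv_cancel_left]
  have hsum : Q + (ε : Matrix ι ι F) * Qᵀ = (k : Matrix ι ι F) * c := by
    have e1 : τ (c * w) * u = τ w * (u * τ c) := by
      rw [hτ.map_mul, mul_assoc, (hG.commute (hτ.mem_closure hG.mem hc) hum).eq]
    have e2 : (ε : Matrix ι ι F) * (τ (c * w) * u) = τ w * c := by
      rw [e1, ← mul_assoc, (Int.cast_commute ε (τ w)).eq, mul_assoc, ← mul_assoc _ u, ← hceq]
    rw [hQt, ← mul_assoc _ (k : Matrix ι ι F), (Int.cast_commute ε (k : Matrix ι ι F)).eq, mul_assoc, e2, hQ,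
      ← mul_add, (hG.commute (hτ.mem_closure hG.mem hwm) hc).eq, ← mul_add, hw1, mul_one]
  refine ⟨Q, k * hcu.unit, by rw [hsum, Units.val_mul, IsUnit.unit_spec], ?_⟩
  rw [Units.val_mul, IsUnit.unit_spec, mul_assoc, mul_assoc, (hG.commute hc hAm).eq, ← mul_assoc, ← mul_assoc,
    hk]


end Bilinear


end Cfsg.Agent.Lib.FormConj
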