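import Mathlib
import Cfsg.Agent.Lib.FormConj.PrimeOrder
import Cfsg.Agent.Lib.FormConj.Count

/-!
Set-up for counting classes of prime order elements in classical groups, and the realisation of an invariant
multiplicity function in a group of isometries.
-/

set_option autoImplicit false

namespace Cfsg.Agent.Lib.FormConj

open Matrix
open scoped MatrixGroups

/-- A primitive `r`-th root of unity in an algebraic closure. -/
theorem exists_root (F : Type*) [Field F] {r : ℕ} [NeZero r] (hr : (r : F) ≠ 0) :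
    ∃ ζ : AlgebraicClosure F, IsPrimitiveRoot ζ r := by
  haveI : NeZero (r : AlgebraicClosure F) :=
    ⟨by rw [← map_natCast (algebraMap F (AlgebraicClosure F))]; exact (map_ne_zero _).2 hr⟩
  obtain ⟨ζ, hζ⟩ := IsAlgClosed.exists_root (Polynomial.cyclotomic r (AlgebraicClosure F))
    (by rw [Polynomial.degree_cyclotomic]
        exact_mod_cast (Nat.totient_pos.2 (NeZero.pos r)).ne')
  exact ⟨ζ, Polynomial.isRoot_cyclotomic_iff.1 hζ⟩

/-- `x ↦ x ^ p ^ f` on the algebraic closure, and its effect on the roots of unity. -/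
theorem exists_powHom (F : Type*) [Field F] (p : ℕ) [Fact p.Prime] [CharP F p] (f : ℕ) {r : ℕ} [NeZero r]
    {ζ : AlgebraicClosure F} (hζ : IsPrimitiveRoot ζ r) :
    ∃ σ : AlgebraicClosure F →+* AlgebraicClosure F,
      (∀ x, σ x = x ^ p ^ f) ∧ σ ζ = rootAt ζ ((p ^ f : ℕ) : ZMod r) := by
  haveI := charP_of_injective_ringHom (algebraMap F (AlgebraicClosure F)).injective p
  refine ⟨iterateFrobenius _ p f, iterateFrobenius_def _ _, ?_⟩
  rw [iterateFrobenius_def, rootAt, ZMod.val_natCast]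
  exact pow_eq_pow_of_modEq (Nat.mod_modEq _ _).symm hζ.pow_eq_one

/-- `(p ^ f : ZMod r)` as a unit. -/
theorem exists_unit_natCast {r p : ℕ} [Fact r.Prime] (hp : p.Prime) (hrp : r ≠ p) (f : ℕ) :
    ∃ u : (ZMod r)ˣ, (u : ZMod r) = ((p ^ f : ℕ) : ZMod r) :=
  ⟨(ZMod.unitOfCoprime (p ^ f) (Nat.Coprime.pow_left _ ((Nat.coprime_primes hp Fact.out).2 hrp.symm))), rfl⟩

section Bilinear

variable {F L : Type*} [Field F] [Fintype F] [Field L] [IsAlgClosed L] (j : F →+* L) {r : ℕ} [Fact r.Prime]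
  {ζ : L} (hζ : IsPrimitiveRoot ζ r) (H : Subgroup (ZMod r)ˣ)
include hζ

/-- The moved part of an invariant multiplicity function has total divisible by `#H`. -/
theorem dvd_sum_units {m : ZMod r → ℕ} (hm : IsInv H m) : Nat.card H ∣ ∑ u : (ZMod r)ˣ, m u := by
  have _ := hζ
  haveI : Fintype ((ZMod r)ˣ ⧸ H) := Fintype.ofFinite _
  have hlift : ∀ u v : (ZMod r)ˣ, QuotientGroup.leftRel H u v → m u = m v := fun u v h => by
    rw [QuotientGroup.leftRel_apply] at h
    rw [show v = (u⁻¹ * v) * u by rw [mul_comm, mul_inv_cancel_left], Units.val_mul, hm _ h]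
  refine ⟨_, Eq.trans ?_ (sum_units_quotient H (fun x => Quotient.liftOn' x (fun u => m u) hlift))⟩
  rfl

/-- Realisation: an `H`-invariant multiplicity function, `-1 ∈ H`, `q ∈ H`, comes from a matrix preserving a form
`Q + ε Qᵀ`, as soon as such a form exists on every space of dimension `n - (multiple of #H)`. -/
theorem exists_form_of_mult {ι : Type*} [Fintype ι] [DecidableEq ι] (hr : (r : F) ≠ 0) (hr2 : r ≠ 2) (ε : ℤ)
    (hε : ε * ε = 1) (hneg : (-1 : (ZMod r)ˣ) ∈ H) (hq : ∃ u ∈ H, ((u : (ZMod r)ˣ) : ZMod r) = (Fintype.card F : ZMod r))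
    (hstd : ∀ d : ℕ, (∃ c, d + Nat.card H * c = Fintype.card ι) → ∃ (Q : Matrix (Fin d) (Fin d) F) (K : GL (Fin d) F),
      (K : Matrix (Fin d) (Fin d) F) = Q + (ε : Matrix (Fin d) (Fin d) F) * Qᵀ)
    {m : ZMod r → ℕ} (hm : IsInv H m) (hsum : ∑ a, m a = Fintype.card ι) :
    ∃ (A Q : Matrix ι ι F) (K : GL ι F), (K : Matrix ι ι F) = Q + (ε : Matrix ι ι F) * Qᵀ ∧
      Aᵀ * (K : Matrix ι ι F) * A = (K : Matrix ι ι F) ∧ A ^ r = 1 ∧ HasMult j ζ A m := by
  classical
  obtain ⟨uq, huq, huq'⟩ := hq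
  set m' : ZMod r → ℕ := Function.update m 0 0 with hm'def
  have hm'0 : m' 0 = 0 := Function.update_self _ _ _
  have hm'ne : ∀ a, a ≠ 0 → m' a = m a := fun a ha => Function.update_of_ne ha _ _
  have hm'inv : IsInv H m' := fun u hu a => by
    rcases eq_or_ne a 0 with rfl | ha
    · rw [mul_zero]
    · rw [hm'ne _ (mul_ne_zero u.ne_zero ha), hm'ne _ ha, hm u hu]
  obtain ⟨c, hc⟩ := dvd_sum_units hζ H hm'inv
  have hn1 : ∑ a, m' a = Nat.card H * c := by rw [sum_zmod, hm'0, zero_add, hc]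
  have hn : m 0 + Nat.card H * c = Fintype.card ι := by
    rw [← hsum, sum_zmod m, ← hc]
    exact congrArg _ (Finset.sum_congr rfl fun u _ => hm'ne _ u.ne_zero)
  obtain ⟨A₁, hA₁, hmA₁⟩ := exists_of_mult j hζ (n := Nat.card H * c) hr m' hn1
    (fun a => by rw [← huq']; exact hm'inv uq huq a) (huq' ▸ uq.isUnit)
  obtain ⟨k₁, hk₁⟩ := exists_invariant_form j hζ hr (RingHom.id F) (RingHom.id L) (fun _ => rfl) 1
    (by rw [RingHom.id_apply, Units.val_one, rootAt,
      ZMod.val_one, pow_one]) hA₁ hmA₁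
    (fun a => by rw [Units.val_one]; exact hm'inv (-1) hneg a)
  obtain ⟨G₁, hG₁⟩ : ∃ G : GL (Fin (Nat.card H * c)) F, (G : Matrix _ _ F) = A₁ :=
    (IsUnit.of_pow_eq_one hA₁ (Fact.out : r.Prime).ne_zero)
  subst hG₁
  obtain ⟨Q₁, K₁, hK₁, hinv₁⟩ := exists_form G₁ k₁ (by simpa using hk₁)
    (isUnit_sub_inv j hζ hr (isUnit_iff_ne_zero.2 fun h2 => hr2 ((Nat.prime_dvd_prime_iff_eq Fact.out
      Nat.prime_two).1 ((ZMod.natCast_eq_zero_iff 2 r).1 (by exact_mod_cast h2)))) hA₁ hmA₁ hm'0) ε hε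
  obtain ⟨Q₀, K₀, hK₀⟩ := hstd (m 0) ⟨c, hn⟩
  obtain ⟨e⟩ : Nonempty (Fin (Nat.card H * c) ⊕ Fin (m 0) ≃ ι) :=
    ⟨Fintype.equivOfCardEq (by rw [Fintype.card_sum, Fintype.card_fin, Fintype.card_fin, add_comm, hn])⟩
  set R := Matrix.reindexAlgEquiv F F e
  let A : Matrix ι ι F := R (fromBlocks (G₁ : Matrix _ _ F) 0 0 1)
  let Q : Matrix ι ι F := R (fromBlocks Q₁ 0 0 Q₀)
  have hRT : ∀ M, (R M)ᵀ = R Mᵀ := fun M => by simp [R]
  have hsumK : Q + (ε : Matrix ι ι F) * Qᵀ = R (fromBlocks (K₁ : Matrix _ _ F) 0 0 (K₀ : Matrix _ _ F)) := by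
    rw [hRT, ← map_intCast R ε, ← map_mul, ← map_add, hK₁, hK₀]
    refine congrArg R ?_
    rw [fromBlocks_transpose, transpose_zero, transpose_zero, ← zsmul_eq_mul, ← zsmul_eq_mul, ← zsmul_eq_mul,
      fromBlocks_smul, smul_zero, smul_zero, fromBlocks_add, add_zero, add_zero]
  have hu : IsUnit (R (fromBlocks (K₁ : Matrix _ _ F) 0 0 (K₀ : Matrix _ _ F))) :=
    ((isUnit_iff_isUnit_det _).2 (by
      rw [det_fromBlocks_zero₂₁]
      exact ((isUnit_iff_isUnit_det _).1 K₁.isUnit).mul ((isUnit_iff_isUnit_det _).1 K₀.isUnit))).map R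
  obtain ⟨K, hK⟩ := hu
  refine ⟨A, Q, K, hK.trans hsumK.symm, ?_, ?_, ?_⟩
  · rw [hK, hRT, ← map_mul, ← map_mul, fromBlocks_transpose, fromBlocks_multiply, fromBlocks_multiply]
    simp [hinv₁]
  · rw [← map_pow]
    have hpow : ∀ i : ℕ, (fromBlocks (G₁ : Matrix (Fin (Nat.card H * c)) (Fin (Nat.card H * c)) F) 0 0
        (1 : Matrix (Fin (m 0)) (Fin (m 0)) F)) ^ i
        = fromBlocks ((G₁ : Matrix (Fin (Nat.card H * c)) (Fin (Nat.card H * c)) F) ^ i) 0 0 1 := fun i => by
      induction i with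
      | zero => simp [fromBlocks_one]
      | succ i ih => rw [pow_succ, ih, fromBlocks_multiply, pow_succ]; simp
    rw [hpow, hA₁, fromBlocks_one, map_one]
  · show (Matrix.reindex e e _).charpoly.map j = _
    rw [Matrix.charpoly_reindex, Matrix.charpoly_fromBlocks_zero₂₁, Polynomial.map_mul, hmA₁, Matrix.charpoly_one,
      Fintype.card_fin, Polynomial.map_pow, Polynomial.map_sub, Polynomial.map_X, Polynomial.map_one]
    rw [polyOf, polyOf, ← Finset.mul_prod_erase _ _ (Finset.mem_univ (0 : ZMod r)),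
      ← Finset.mul_prod_erase _ _ (Finset.mem_univ (0 : ZMod r)), hm'0, pow_zero, one_mul, mul_comm,
      show rootAt ζ (0 : ZMod r) = 1 by rw [rootAt, ZMod.val_zero, pow_zero], Polynomial.C_1]
    exact congrArg _ (Finset.prod_congr rfl fun a ha => by rw [hm'ne a (Finset.ne_of_mem_erase ha)])

omit [Fintype F] [IsAlgClosed L] in
/-- An isometry of order dividing `r` has multiplicities invariant under negation. -/
theorem mult_neg {ι : Type*} [Fintype ι] [DecidableEq ι] (hr : (r : F) ≠ 0) (k : GL ι F) {A : Matrix ι ι F}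
    (hA : A ^ r = 1) (hτ : adj k A * A = 1) {m : ZMod r → ℕ} (hm : HasMult j ζ A m) (a : ZMod r) :
    m (-a) = m a := by
  have h := mult_neg_mul j hζ hr (RingHom.id F) (RingHom.id L) (fun _ => rfl) 1
    (by rw [RingHom.id_apply, Units.val_one, rootAt, ZMod.val_one, pow_one]) k hA hτ hm a
  rwa [Units.val_one, neg_one_mul] at h

omit [IsAlgClosed L] in
/-- Multiplicities of matrices over `F` are invariant under `#F`. -/
theorem mult_card_mul {ι : Type*} [Fintype ι] [DecidableEq ι] {A : Matrix ι ι F} {m : ZMod r → ℕ}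
    (hm : HasMult j ζ A m) (u : (ZMod r)ˣ) (hu : (u : ZMod r) = (Fintype.card F : ZMod r)) (a : ZMod r) :
    m ((u : ZMod r) * a) = m a := by
  obtain ⟨p, hp⟩ := CharP.exists F
  haveI := Fact.mk (CharP.char_is_prime F p)
  haveI := charP_of_injective_ringHom j.injective p
  obtain ⟨f, -, hf⟩ := FiniteField.card F p
  have hσ : ∀ x : L, iterateFrobenius L p f x = x ^ Fintype.card F := fun x => by
    rw [hf]; exact iterateFrobenius_def _ _ x
  have h : HasMult j ζ (A.map (RingHom.id F)) (fun a => m ((↑u⁻¹ : ZMod r) * a)) :=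
    HasMult.map j hζ hm (RingHom.id F) (iterateFrobenius L p f)
      (fun x => by rw [RingHom.id_apply, hσ, ← map_pow, FiniteField.pow_card]) u
      (by rw [hσ, hu, rootAt, ZMod.val_natCast]
          exact pow_eq_pow_of_modEq (Nat.mod_modEq _ _).symm hζ.pow_eq_one)
  rw [show A.map (RingHom.id F) = A from Matrix.map_id A] at h
  have := congrFun (HasMult.unique j hζ h hm) ((u : ZMod r) * a)
  simp only [Units.inv_mul_cancel_left] at this
  exact this.symm

end Bilinear

section Arith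

variable {r : ℕ} [Fact r.Prime]

theorem two_le_orderOf_neg_one (hr2 : r ≠ 2) : orderOf (-1 : (ZMod r)ˣ) = 2 := by
  refine orderOf_eq_prime (by rw [neg_one_sq]) fun h => hr2 ?_
  have h' : ((2 : ℕ) : ZMod r) = 0 := by
    have := congrArg Units.val h
    rw [Units.val_neg, Units.val_one] at this
    push_cast
    linear_combination -this
  exact (Nat.prime_dvd_prime_iff_eq Fact.out Nat.prime_two).1 ((ZMod.natCast_eq_zero_iff 2 r).1 h')

/-- The half power of an element of even order. -/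
theorem pow_half_eq_neg_one (u : (ZMod r)ˣ) (h : Even (orderOf u)) : u ^ (orderOf u / 2) = -1 := by
  obtain ⟨k, hk⟩ := h
  have hpos := orderOf_pos u
  have h1 : (u ^ (orderOf u / 2)) ^ 2 = 1 := by
    rw [← pow_mul, show orderOf u / 2 * 2 = orderOf u by omega, pow_orderOf_eq_one]
  have h2 : ((u ^ (orderOf u / 2) : (ZMod r)ˣ) : ZMod r) ^ 2 = 1 := by
    rw [← Units.val_pow_eq_pow_val, h1, Units.val_one]
  rcases sq_eq_one_iff.1 h2 with h3 | h3
  · exact absurd (orderOf_dvd_of_pow_eq_one (Units.ext h3 : u ^ (orderOf u / 2) = 1))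
      (fun h4 => by have := Nat.le_of_dvd (by omega) h4; omega)
  · exact Units.ext h3

/-- The order of `⟨u, -1⟩`. -/
theorem card_closure_neg_one (hr2 : r ≠ 2) (u : (ZMod r)ˣ) :
    Nat.card (Subgroup.closure ({u, -1} : Set (ZMod r)ˣ)) = if Odd (orderOf u) then 2 * orderOf u else orderOf u := by
  have hn := two_le_orderOf_neg_one hr2
  split_ifs with h
  · have hle : Subgroup.closure ({u, -1} : Set (ZMod r)ˣ) = Subgroup.zpowers (-1 * u) := by
      refine le_antisymm ((Subgroup.closure_le _).2 ?_) (Subgroup.zpowers_le.2 (mul_mem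
        (Subgroup.subset_closure (by simp)) (Subgroup.subset_closure (by simp))))
      have h1 : (-1 * u) ^ orderOf u = -1 := by
        rw [mul_pow, h.neg_one_pow, pow_orderOf_eq_one, mul_one]
      have hm : (-1 : (ZMod r)ˣ) ∈ Subgroup.zpowers (-1 * u) := by
        have := Subgroup.npow_mem_zpowers (-1 * u) (orderOf u)
        rwa [h1] at this
      have hmu : u ∈ Subgroup.zpowers (-1 * u) := by
        have := mul_mem hm (Subgroup.mem_zpowers (-1 * u))
        rwa [← mul_assoc, neg_one_mul (-1 : (ZMod r)ˣ), neg_neg, one_mul] at this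
      intro x hx
      rcases hx with rfl | rfl
      · exact hmu
      · exact hm
    rw [hle, Nat.card_zpowers, (Commute.all (-1) u).orderOf_mul_eq_mul_orderOf_of_coprime, hn]
    rw [hn]
    exact (Nat.coprime_two_left).2 h
  · have hle : Subgroup.closure ({u, -1} : Set (ZMod r)ˣ) = Subgroup.zpowers u := by
      refine le_antisymm ((Subgroup.closure_le _).2 ?_) (Subgroup.zpowers_le.2 (Subgroup.subset_closure (by simp)))
      intro x hx
      rcases hx with rfl | rfl
      · exact Subgroup.mem_zpowers _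
      · rw [← pow_half_eq_neg_one u (Nat.not_odd_iff_even.1 h)]
        exact Subgroup.npow_mem_zpowers _ _
    rw [hle, Nat.card_zpowers]

theorem index_eq_div (H : Subgroup (ZMod r)ˣ) : H.index = (r - 1) / Nat.card H := by
  rw [← ZMod.card_units r, ← Nat.card_eq_fintype_card, ← H.card_mul_index,
    Nat.mul_div_cancel_left _ Nat.card_pos]

end Arith

end Cfsg.Agent.Lib.FormConj
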