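import Mathlib
import Cfsg.Agent.Lib.FormConj.QuadType
import Cfsg.Agent.Lib.FormConj.Realise

/-!
Classes of elements of odd prime order in orthogonal groups in even dimension, any characteristic.
-/

set_option autoImplicit false

namespace Cfsg.Agent.Lib.FormConj

open Matrix QuadraticMap
open scoped MatrixGroups

variable {F : Type*} [Field F]

/-- A linear equivalence of prime-to-the-characteristic period splits the space as fixed points plus moved part. -/
theorem exists_fixed_add {V : Type*} [AddCommGroup V] [Module F V] (T : V ≃ₗ[F] V) {r : ℕ} (hT : T ^ r = 1)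
    (hr : (r : F) ≠ 0) (v : V) : ∃ f x, T f = f ∧ x ∈ LinearMap.range (T.toLinearMap - 1) ∧ v = f + x := by
  refine ⟨(r : F)⁻¹ • ∑ i ∈ Finset.range r, (T ^ i) v, v - (r : F)⁻¹ • ∑ i ∈ Finset.range r, (T ^ i) v,
    ?_, ?_, (add_sub_cancel _ _).symm⟩
  · rw [map_smul, map_sum]
    refine congrArg _ ?_
    have h1 := Finset.sum_range_succ' (fun i => (T ^ i) v) r
    rw [Finset.sum_range_succ, hT, pow_zero] at h1
    refine (Finset.sum_congr rfl fun i _ => ?_).trans (add_right_cancel h1).symm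
    rw [pow_succ', LinearEquiv.mul_apply]
  · have h2 : v - (r : F)⁻¹ • ∑ i ∈ Finset.range r, (T ^ i) v
        = (r : F)⁻¹ • ∑ i ∈ Finset.range r, (v - (T ^ i) v) := by
      rw [Finset.sum_sub_distrib, Finset.sum_const, Finset.card_range, smul_sub, ← Nat.cast_smul_eq_nsmul F,
        inv_smul_smul₀ hr]
    rw [h2]
    refine Submodule.smul_mem _ _ (Submodule.sum_mem _ fun i hi => ?_)
    clear hi
    induction i with
    | zero => simp
    | succ i ih =>
      rw [show v - (T ^ (i + 1)) v = (v - (T ^ i) v) + -((T ^ (i + 1)) v - (T ^ i) v) by abel]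
      refine Submodule.add_mem _ ih (Submodule.neg_mem _ ⟨(T ^ i) v, ?_⟩)
      rw [pow_succ', LinearEquiv.mul_apply]
      rfl

/-- An intertwiner preserving the polar form can be replaced by an isometry. -/
theorem exists_isometry_conj {V : Type*} [AddCommGroup V] [Module F V] [FiniteDimensional F V]
    {Q : QuadraticForm F V} (hQ : (polarBilin Q).Nondegenerate) (T T' H : V ≃ₗ[F] V) (hT : ∀ v, Q (T v) = Q v)
    (hT' : ∀ v, Q (T' v) = Q v) {r : ℕ} (hTr : T ^ r = 1) (hr : (r : F) ≠ 0)
    (hH : ∀ u v, polar ⇑Q (H u) (H v) = polar ⇑Q u v) (hHT : ∀ v, H (T v) = T' (H v)) :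
    ∃ h : V ≃ₗ[F] V, (∀ v, Q (h v) = Q v) ∧ ∀ v, h (T v) = T' (h v) := by
  let X := LinearMap.range (T.toLinearMap - 1)
  have hQX : ∀ x ∈ X, Q (H x) = Q x := by
    rintro _ ⟨y, rfl⟩
    show Q (H (T y - y)) = Q (T y - y)
    have hadd : ∀ a b, Q (H (a + b)) - Q (a + b) = (Q (H a) - Q a) + (Q (H b) - Q b) := fun a b => by
      have := hH a b
      simp only [polar, ← map_add] at this
      linear_combination this
    have h1 := hadd (T y - y) y
    rw [sub_add_cancel, hHT, hT', hT] at h1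
    linear_combination -h1
  obtain ⟨h, hh, hhX⟩ := Forms.witt_quad hQ (H.toLinearMap ∘ₗ X.subtype)
    (H.injective.comp X.injective_subtype) fun a => hQX a a.2
  refine ⟨h, hh, fun v => ?_⟩
  have hpol : ∀ {g : V ≃ₗ[F] V}, (∀ v, Q (g v) = Q v) → ∀ a b, polar ⇑Q (g a) (g b) = polar ⇑Q a b :=
    fun hg a b => by simp only [polar, ← map_add, hg]
  obtain ⟨f, x, hf, hx, rfl⟩ := exists_fixed_add T hTr hr v
  have hx' : h (T x) = T' (h x) := by
    have hTx : T x ∈ X := by
      obtain ⟨y, rfl⟩ := hx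
      exact ⟨T y, (map_sub T (T y) y).symm⟩
    rw [show h (T x) = H (T x) from hhX ⟨_, hTx⟩, hHT, show h x = H x from hhX ⟨x, hx⟩]
  have hf' : T' (h f) = h f := by
    refine sub_eq_zero.1 (hQ.1 _ fun z => ?_)
    rw [polarBilin_apply_apply, sub_eq_add_neg, polar_add_left, polar_neg_left, ← sub_eq_add_neg]
    obtain ⟨w, rfl⟩ := T'.surjective z
    rw [hpol hT', ← sub_eq_zero]
    obtain ⟨y, rfl⟩ := H.surjective w
    have hm : T y - y ∈ X := ⟨y, rfl⟩
    have h1 : polar ⇑Q (h f) (T' (H y) - H y) = 0 := by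
      rw [← hHT, ← map_sub, ← show h (T y - y) = H (T y - y) from hhX ⟨_, hm⟩, hpol hh, sub_eq_add_neg,
        polar_add_right, polar_neg_right, ← sub_eq_add_neg]
      conv_lhs => arg 1; arg 2; rw [← hf]
      rw [hpol hT, sub_self]
    rw [sub_eq_add_neg, polar_add_right, polar_neg_right, ← sub_eq_add_neg] at h1
    linear_combination -h1
  rw [map_add, map_add, map_add, map_add, hf, hx', hf']

/-- Tuples with a given sum. -/
theorem natCard_tuples_eq (α : Type*) [Fintype α] [Nonempty α] (N : ℕ) :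
    Nat.card {c : α → ℕ // ∑ x, c x = N} = Nat.choose (N + Fintype.card α - 1) (Fintype.card α - 1) := by
  classical
  rw [Nat.card_congr (Sym.equivNatSumOfFintype α N).symm, Nat.card_eq_fintype_card, Sym.card_sym_eq_choose,
    add_comm (Fintype.card α) N]
  have h : 0 < Fintype.card α := Fintype.card_pos
  rw [← Nat.choose_symm (by omega), show N + Fintype.card α - 1 - N = Fintype.card α - 1 by omega]

variable {r : ℕ} [Fact r.Prime] (H : Subgroup (ZMod r)ˣ)

/-- Invariant multiplicity functions vanishing at `0`. -/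
theorem natCard_invariant_zero (n : ℕ) :
    Nat.card {m : ZMod r → ℕ // IsInv H m ∧ ∑ a, m a = n ∧ m 0 = 0}
      = if Nat.card H ∣ n then Nat.choose (n / Nat.card H + H.index - 1) (H.index - 1) else 0 := by
  classical
  haveI : Fintype ((ZMod r)ˣ ⧸ H) := Fintype.ofFinite _
  have hk : Fintype.card ((ZMod r)ˣ ⧸ H) = H.index := by rw [Subgroup.index_eq_card, Nat.card_eq_fintype_card]
  have hlift : ∀ (m : ZMod r → ℕ), IsInv H m → ∀ u v : (ZMod r)ˣ, QuotientGroup.leftRel H u v → m u = m v := by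
    intro m hm u v h
    rw [QuotientGroup.leftRel_apply] at h
    rw [show v = (u⁻¹ * v) * u by rw [mul_comm, mul_inv_cancel_left], Units.val_mul, hm _ h]
  let g : ((ZMod r)ˣ ⧸ H → ℕ) → ZMod r → ℕ := fun c a =>
    if ha : a = 0 then 0 else c (QuotientGroup.mk (Units.mk0 a ha))
  have hgu : ∀ c (u : (ZMod r)ˣ), g c u = c (QuotientGroup.mk u) := fun c u => by
    simp only [g, dif_neg u.ne_zero, Units.mk0_val]
  have hg0 : ∀ c, g c 0 = 0 := fun c => by simp [g]
  have e : {m : ZMod r → ℕ // IsInv H m ∧ ∑ a, m a = n ∧ m 0 = 0}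
      ≃ {c : (ZMod r)ˣ ⧸ H → ℕ // Nat.card H * ∑ x, c x = n} :=
    { toFun := fun m => ⟨fun x => Quotient.liftOn' x (fun u => m.1 u) (hlift _ m.2.1), by
        rw [← sum_units_quotient]
        refine Eq.trans (Eq.trans ?_ (show 0 + ∑ u : (ZMod r)ˣ, m.1 u = ∑ a, m.1 a by rw [sum_zmod, m.2.2.2])) m.2.2.1
        rw [zero_add]
        exact Finset.sum_congr rfl fun u _ => rfl⟩
      invFun := fun c => ⟨g c.1, fun u hu a => by
          by_cases ha : a = 0
          · rw [ha, mul_zero]
          · obtain ⟨v, rfl⟩ : ∃ v : (ZMod r)ˣ, (v : ZMod r) = a := ⟨Units.mk0 a ha, rfl⟩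
            rw [← Units.val_mul, hgu, hgu]
            refine congrArg c.1 (QuotientGroup.eq.2 ?_)
            rw [_root_.mul_inv_rev, mul_assoc, mul_comm v⁻¹, mul_assoc, mul_inv_cancel, mul_one]
            exact inv_mem hu,
        by rw [sum_zmod, hg0, zero_add, Finset.sum_congr rfl fun u _ => hgu c.1 u, sum_units_quotient]; exact c.2,
        hg0 _⟩
      left_inv := fun m => Subtype.ext (funext fun a => by
        by_cases ha : a = 0
        · subst ha; exact (hg0 _).trans m.2.2.2.symm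
        · obtain ⟨v, rfl⟩ : ∃ v : (ZMod r)ˣ, (v : ZMod r) = a := ⟨Units.mk0 a ha, rfl⟩
          exact hgu _ v)
      right_inv := fun c => Subtype.ext (funext fun x => by
        obtain ⟨u, rfl⟩ := QuotientGroup.mk_surjective x
        exact hgu _ u) }
  rw [Nat.card_congr e]
  split_ifs with hd
  · obtain ⟨d, rfl⟩ := hd
    rw [Nat.mul_div_cancel_left _ Nat.card_pos, ← hk, ← natCard_tuples_eq]
    exact Nat.card_congr (Equiv.subtypeEquivRight fun c => Nat.mul_right_inj Nat.card_pos.ne')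
  · exact Nat.card_eq_zero.2 (Or.inl ⟨fun c => hd ⟨_, c.2.symm⟩⟩)

section Count

variable {L : Type*} [Field L] [IsAlgClosed L] (j : F →+* L) {ζ : L} (hζ : IsPrimitiveRoot ζ r)
include hζ

/-- Classes of elements of order `r` when the realised functions are the invariant ones with a property `P`. -/
theorem natCard_classes_subset {G : Type*} [Group G] {n : ℕ} (φ : G →* Matrix (Fin n) (Fin n) F)
    (hφ : Function.Injective φ) (hr : (r : F) ≠ 0) (P : (ZMod r → ℕ) → Prop)
    (hinj : ∀ g g' : G, g ^ r = 1 → g' ^ r = 1 → IsConj (φ g) (φ g') → IsConj g g')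
    (hinto : ∀ g : G, g ^ r = 1 → ∀ m : ZMod r → ℕ, HasMult j ζ (φ g) m → IsInv H m ∧ P m)
    (honto : ∀ m : ZMod r → ℕ, IsInv H m → ∑ a, m a = n → P m → ∃ g : G, g ^ r = 1 ∧ HasMult j ζ (φ g) m) :
    Nat.card {C : ConjClasses G // ∃ g : G, ConjClasses.mk g = C ∧ orderOf g = r}
      = Nat.card {m : ZMod r → ℕ // IsInv H m ∧ ∑ a, m a = n ∧ (∃ a, a ≠ 0 ∧ m a ≠ 0) ∧ P m} := by
  classical
  have hord : ∀ g : G, orderOf g = r ↔ g ^ r = 1 ∧ g ≠ 1 := fun g => orderOf_eq_prime_iff
  have hmult : ∀ g : G, g ^ r = 1 → ∃ m : ZMod r → ℕ, HasMult j ζ (φ g) m := fun g hg =>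
    exists_hasMult j hζ (by rw [← map_pow, hg, map_one])
  choose μ hμ using hmult
  have hgood : ∀ g : G, ∀ h : orderOf g = r,
      IsInv H (μ g ((hord g).1 h).1) ∧ ∑ a, μ g ((hord g).1 h).1 a = n ∧
        (∃ a, a ≠ 0 ∧ μ g ((hord g).1 h).1 a ≠ 0) ∧ P (μ g ((hord g).1 h).1) := by
    intro g h
    refine ⟨(hinto g ((hord g).1 h).1 _ (hμ _ _)).1, (HasMult.sum_eq j (hμ _ _)).trans (Fintype.card_fin n), ?_,
      (hinto g ((hord g).1 h).1 _ (hμ _ _)).2⟩
    by_contra hne
    push Not at hne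
    refine ((hord g).1 h).2 (hφ ?_)
    rw [map_one]
    exact (eq_one_iff_hasMult j hζ hr (by rw [← map_pow, ((hord g).1 h).1, map_one]) (hμ _ _)).2 hne
  let f : {C : ConjClasses G // ∃ g : G, ConjClasses.mk g = C ∧ orderOf g = r} →
      {m : ZMod r → ℕ // IsInv H m ∧ ∑ a, m a = n ∧ (∃ a, a ≠ 0 ∧ m a ≠ 0) ∧ P m} :=
    fun C => ⟨_, hgood C.2.choose C.2.choose_spec.2⟩
  refine Nat.card_congr (Equiv.ofBijective f ⟨?_, ?_⟩)
  · intro C D h
    refine Subtype.ext ?_
    rw [← C.2.choose_spec.1, ← D.2.choose_spec.1, ConjClasses.mk_eq_mk_iff_isConj]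
    have hC := ((hord _).1 C.2.choose_spec.2).1
    have hD := ((hord _).1 D.2.choose_spec.2).1
    refine hinj _ _ hC hD (isConj_of_hasMult j hζ hr (by rw [← map_pow, hC, map_one])
      (by rw [← map_pow, hD, map_one]) (hμ _ hC) ?_)
    have h' := congrArg Subtype.val h
    rw [show μ _ hC = μ _ hD from h']
    exact hμ _ hD
  · rintro ⟨m, hm, hsum, ⟨a, ha, hma⟩, hP⟩
    obtain ⟨g, hg, hgm⟩ := honto m hm hsum hP
    have hg1 : g ≠ 1 := fun h => hma (((eq_one_iff_hasMult j hζ hr (by rw [← map_pow, hg, map_one]) hgm).1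
      (by rw [h, map_one])) a ha)
    have hex : ∃ g' : G, ConjClasses.mk g' = ConjClasses.mk g ∧ orderOf g' = r :=
      ⟨g, rfl, (hord g).2 ⟨hg, hg1⟩⟩
    refine ⟨⟨ConjClasses.mk g, hex⟩, Subtype.ext (HasMult.unique j hζ (hμ _ _) ?_)⟩
    exact hasMult_congr j (φ.map_isConj (ConjClasses.mk_eq_mk_iff_isConj.1 hex.choose_spec.1).symm) hgm

end Count

/-- Removing the functions that vanish at `0`. -/
theorem natCard_invariant_sdiff (n : ℕ) (hn : 1 ≤ n) (c : Prop) [Decidable c] :
    Nat.card {m : ZMod r → ℕ // IsInv H m ∧ ∑ a, m a = n ∧ (∃ a, a ≠ 0 ∧ m a ≠ 0) ∧ (m 0 = 0 → c)}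
      = Nat.choose (n / Nat.card H + H.index) H.index - 1
        - (if Nat.card H ∣ n ∧ ¬ c then Nat.choose (n / Nat.card H + H.index - 1) (H.index - 1) else 0) := by
  classical
  haveI hfin : Finite {m : ZMod r → ℕ // ∑ a, m a = n} := Finite.of_equiv _ (Sym.equivNatSumOfFintype (ZMod r) n)
  have hne : ∀ m : ZMod r → ℕ, ∑ a, m a = n → m 0 = 0 → ∃ a, a ≠ 0 ∧ m a ≠ 0 := fun m hm h0 => by
    by_contra h
    push Not at h
    rw [Finset.sum_eq_zero fun a _ => (em (a = 0)).elim (fun e => e ▸ h0) (h a)] at hm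
    omega
  by_cases hc : c
  · rw [if_neg (fun h => h.2 hc), Nat.sub_zero, ← natCard_invariant H n]
    exact Nat.card_congr (Equiv.subtypeEquivRight fun m => by simp [hc])
  · let p : (ZMod r → ℕ) → Prop := fun m => IsInv H m ∧ ∑ a, m a = n ∧ ∃ a, a ≠ 0 ∧ m a ≠ 0
    haveI : Finite {m // p m} := Finite.of_injective (fun m : {m // p m} => (⟨m.1, m.2.2.1⟩ : {m : ZMod r → ℕ // ∑ a, m a = n}))
      fun a b h => Subtype.ext (congrArg (fun x : {m : ZMod r → ℕ // ∑ a, m a = n} => x.1) h :)
    haveI : Fintype {m // p m} := Fintype.ofFinite _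
    have h1 : Nat.card {m : ZMod r → ℕ // IsInv H m ∧ ∑ a, m a = n ∧ (∃ a, a ≠ 0 ∧ m a ≠ 0) ∧ (m 0 = 0 → c)}
        = Nat.card {m : {m // p m} // ¬ m.1 0 = 0} :=
      Nat.card_congr ((Equiv.subtypeEquivRight fun m => by simp [p, hc, and_assoc]).trans
        (Equiv.subtypeSubtypeEquivSubtypeInter p fun m => ¬ m 0 = 0).symm)
    have h2 : Nat.card {m : ZMod r → ℕ // IsInv H m ∧ ∑ a, m a = n ∧ m 0 = 0}
        = Nat.card {m : {m // p m} // m.1 0 = 0} :=
      Nat.card_congr ((Equiv.subtypeEquivRight fun m => ⟨fun h => ⟨⟨h.1, h.2.1, hne m h.2.1 h.2.2⟩, h.2.2⟩,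
        fun h => ⟨h.1.1, h.1.2.1, h.2⟩⟩).trans
        (Equiv.subtypeSubtypeEquivSubtypeInter p fun m => m 0 = 0).symm)
    rw [h1, Nat.card_eq_fintype_card, Fintype.card_subtype_compl, ← Nat.card_eq_fintype_card,
      ← Nat.card_eq_fintype_card, ← h2, natCard_invariant_zero, show Nat.card {m // p m} = _ from natCard_invariant H n]
    refine congrArg _ ?_
    by_cases hd : Nat.card H ∣ n
    · rw [if_pos hd, if_pos ⟨hd, hc⟩]
    · rw [if_neg hd, if_neg (fun h => hd h.1)]

/-- An odd number of fixed points. -/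
theorem dvd_natCard_sub_one {α : Type*} [Finite α] (f : α → α) (hf : ∀ a, (f^[r]) a = a) (a₀ : α)
    (h : ∀ a, f a = a ↔ a = a₀) : Nat.card α ≡ 1 [MOD r] := by
  classical
  haveI : Fintype α := Fintype.ofFinite α
  let g : Function.End α := f
  have hg : g ^ r ^ 1 = 1 := by
    have hk : ∀ k : ℕ, (g ^ k : Function.End α) = f^[k] := fun k => by
      induction k with
      | zero => rfl
      | succ k ih => rw [pow_succ g, ih]; rfl
    rw [hk, pow_one]
    exact funext hf
  have h2 := Equiv.Perm.card_fixedPoints_modEq hg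
  have hgx : Fintype.card g.fixedPoints = 1 :=
    Fintype.card_eq_one_iff.2 ⟨⟨a₀, (h a₀).2 rfl⟩, fun v => Subtype.ext ((h _).1 v.2)⟩
  rw [hgx, ← Nat.card_eq_fintype_card] at h2
  exact h2

variable [Fintype F]

/-- The type of a form with a fixed-point-free isometry of order `r`. -/
theorem isHyp_iff_of_free {L : Type*} [Field L] [IsAlgClosed L] (j : F →+* L) {ζ : L} (hζ : IsPrimitiveRoot ζ r)
    (hr2 : r ≠ 2) (hr : (r : F) ≠ 0)
    {n m : ℕ} (hm : 1 ≤ m) (hn : n = 2 * m) {u : (ZMod r)ˣ} (hu : (u : ZMod r) = (Fintype.card F : ZMod r))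
    {Q : QuadraticForm F (Fin n → F)} (hQ : (polarBilin Q).Nondegenerate)
    {A : Matrix (Fin n) (Fin n) F} (hAQ : ∀ v, Q (A *ᵥ v) = Q v) (hAr : A ^ r = 1)
    {μ : ZMod r → ℕ} (hμ : HasMult j ζ A μ) (h0 : μ 0 = 0) (hneg : ∀ a, μ (-a) = μ a)
    (hH : (orderOf u) ∣ n ∧ (Odd (orderOf u) → 2 * orderOf u ∣ n)) :
    IsHyp Q ↔ Even (n / orderOf u) := by
  classical
  subst hn
  set q := Fintype.card F with hq
  have hu0 : 0 < orderOf u := orderOf_pos u
  have h2r : IsUnit (2 : ZMod r) := isUnit_iff_ne_zero.2 fun h2 => hr2 ((Nat.prime_dvd_prime_iff_eq Fact.out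
    Nat.prime_two).1 ((ZMod.natCast_eq_zero_iff 2 r).1 (by exact_mod_cast h2)))
  have hfree : ∀ v, A *ᵥ v = v → v = 0 := by
    intro v hv
    obtain ⟨G, hG⟩ := IsUnit.of_pow_eq_one hAr (Fact.out : r.Prime).ne_zero
    subst hG
    have hu' := isUnit_sub_inv j hζ hr h2r hAr hμ h0
    refine Matrix.mulVec_injective_iff_isUnit.2 hu' ?_
    rw [mulVec_zero, sub_mulVec, hv]
    conv_lhs => arg 2; arg 2; rw [← hv]
    rw [mulVec_mulVec, Units.inv_mul, one_mulVec, sub_self]
  -- the zero count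
  set N := Nat.card {v : Fin (2 * m) → F // Q v = 0}
  have hmod : N ≡ 1 [MOD r] := by
    refine dvd_natCard_sub_one (fun v => ⟨A *ᵥ v.1, by rw [hAQ]; exact v.2⟩) (fun v => ?_) ⟨0, map_zero Q⟩
      (fun v => ⟨fun h => Subtype.ext (hfree _ (congrArg Subtype.val h)), fun h => Subtype.ext (by subst h; exact mulVec_zero A)⟩)
    have hk : ∀ k : ℕ, (((fun v : {v : Fin (2 * m) → F // Q v = 0} =>
        (⟨A *ᵥ v.1, by rw [hAQ]; exact v.2⟩ : {v : Fin (2 * m) → F // Q v = 0})))^[k] v).1
        = A ^ k *ᵥ v.1 := fun k => by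
      induction k with
      | zero => simp
      | succ k ih => rw [Function.iterate_succ_apply', pow_succ', ← mulVec_mulVec, ← ih]
    exact Subtype.ext (by rw [hk, hAr, one_mulVec])
  obtain ⟨h1, h2⟩ := natCard_zeros (V := Fin (2 * m) → F) hm (by simp) hQ
  rw [Nat.card_eq_fintype_card (α := F), ← hq] at h1 h2
  have hN : (N : ZMod r) = 1 := by rw [← Nat.cast_one, (ZMod.natCast_eq_natCast_iff N 1 r)]; exact hmod
  set x : ZMod r := (u : ZMod r) with hx
  have hqx : (q : ZMod r) = x := hu.symm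
  have hx0 : x ≠ 0 := u.ne_zero
  obtain ⟨k, hk⟩ := hH.1
  have hdiv : 2 * m / orderOf u = k := by rw [hk, Nat.mul_div_cancel_left _ hu0]
  rw [hdiv]
  have hsq : x ^ (m - 1) * x = (-1) ^ k := by
    rw [← pow_succ, Nat.sub_add_cancel hm]
    rcases Nat.even_or_odd (orderOf u) with he | ho
    · obtain ⟨l, hl⟩ := he
      rw [show m = orderOf u / 2 * k by rw [hl] at hk ⊢; rw [show (l + l) / 2 = l by omega]; linarith, pow_mul, hx,
        ← Units.val_pow_eq_pow_val, pow_half_eq_neg_one u ⟨l, hl⟩, Units.val_neg, Units.val_one]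
    · obtain ⟨l, hl⟩ := hH.2 ho
      have hkl : k = 2 * l := Nat.eq_of_mul_eq_mul_left hu0 (by rw [← hk, hl]; ring)
      rw [show m = orderOf u * l by linarith, pow_mul, hx, ← Units.val_pow_eq_pow_val, pow_orderOf_eq_one,
        Units.val_one, one_pow, hkl, pow_mul, neg_one_sq, one_pow]
  have h1ne : (1 : ZMod r) ≠ -1 := fun h => h2r.ne_zero (by linear_combination h)
  -- from the count
  have hx1 : ∀ s e : ZMod r, s * s = 1 → e * e = 1 → x ^ (m - 1) * x = s → e ≠ s →
      (N : ZMod r) + e * x ^ (m - 1) = x ^ (2 * (m - 1) + 1) + e * (x ^ (m - 1) * x) → x = 1 := by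
    intro s e hs he hxs hes heq
    rw [hN, pow_succ, two_mul, pow_add, mul_assoc, hxs] at heq
    have h3 : (x ^ (m - 1) + e) * (s - e) = 0 := by linear_combination -heq - he
    have h4 : x ^ (m - 1) = -e := by
      rcases mul_eq_zero.1 h3 with h5 | h5
      · linear_combination h5
      · exact absurd (sub_eq_zero.1 h5).symm hes
    rw [h4] at hxs
    rcases mul_self_eq_one_iff.1 hs with rfl | rfl <;> rcases mul_self_eq_one_iff.1 he with rfl | rfl
    · exact absurd rfl hes
    · linear_combination hxs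
    · linear_combination -hxs
    · exact absurd rfl hes
  constructor
  · intro hhyp
    by_contra hk'
    rw [Nat.not_even_iff_odd] at hk'
    have hsq' := hsq
    rw [hk'.neg_one_pow] at hsq'
    have heq : (N : ZMod r) + 1 * x ^ (m - 1) = x ^ (2 * (m - 1) + 1) + 1 * (x ^ (m - 1) * x) := by
      have := congrArg (fun a : ℕ => (a : ZMod r)) (h1 hhyp)
      push_cast at this
      rw [hqx, pow_succ x (m - 1)] at this
      linear_combination this
    have hx1' := hx1 (-1) 1 (by ring) (one_mul 1) hsq' h1ne heq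
    rw [hx1', one_pow, one_mul] at hsq'
    exact h1ne hsq'
  · intro hk'
    by_contra hhyp
    have hsq' := hsq
    rw [hk'.neg_one_pow] at hsq'
    have heq : (N : ZMod r) + (-1) * x ^ (m - 1) = x ^ (2 * (m - 1) + 1) + (-1) * (x ^ (m - 1) * x) := by
      have := congrArg (fun a : ℕ => (a : ZMod r)) (h2 hhyp)
      push_cast at this
      rw [hqx, pow_succ x (m - 1)] at this
      linear_combination this
    have hx1' := hx1 1 (-1) (one_mul 1) (by ring) hsq' h1ne.symm heq
    -- `q ≡ 1`: half of the eigenvectors span a totally singular subspace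
    have hu1 : (u : ZMod r) = 1 := hx1'
    obtain ⟨ζ₀, hζ₀⟩ := GUEmbed.mem_range_of_pow j rfl (x := ζ) (by
      conv_rhs => rw [← pow_one ζ]
      refine pow_eq_pow_of_modEq ?_ hζ.pow_eq_one
      rw [← ZMod.natCast_eq_natCast_iff, hqx, hx1', Nat.cast_one])
    subst hζ₀
    obtain ⟨b, hb⟩ : ∃ b : Fin (2 * m) → ZMod r, ∀ a, (Finset.univ.filter fun i => b i = a).card = μ a := by
      have hrL : (r : L) ≠ 0 := by rw [← map_natCast j]; exact (map_ne_zero j).2 hr
      obtain ⟨b, hb, -⟩ := exists_conj_diag j hζ ((Polynomial.X : Polynomial F) ^ r - 1)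
        (by rw [← Polynomial.C_1]; exact Polynomial.separable_X_pow_sub_C 1 hr one_ne_zero) (by simp [hAr]) hμ hrL
      exact ⟨b, hb⟩
    let d : Fin (2 * m) → F := fun i => ζ₀ ^ (b i).val
    have hζp : IsPrimitiveRoot ζ₀ r := IsPrimitiveRoot.of_map_of_injective hζ j.injective
    have hdr : diagonal d ^ r = 1 := by
      rw [diagonal_pow, show d ^ r = 1 from funext fun i => by
        rw [Pi.pow_apply, ← pow_mul, mul_comm, pow_mul, hζp.pow_eq_one, one_pow, Pi.one_apply]]
      exact diagonal_one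
    have hDm : HasMult j (j ζ₀) (diagonal d) μ := by
      rw [HasMult, ← Matrix.charpoly_map, Matrix.diagonal_map (map_zero j),
        show (fun i => j (d i)) = fun i => rootAt (j ζ₀) (b i) from funext fun i => by rw [map_pow, rootAt],
        charpoly_diag hζ]
      exact congrArg (polyOf (j ζ₀)) (funext fun a => hb a)
    obtain ⟨c, hc⟩ := isConj_of_hasMult j hζ hr hdr hAr hDm hμ
    have hb0 : ∀ i, b i ≠ 0 := fun i hi => by
      have h3 : 0 < (Finset.univ.filter fun i => b i = 0).card := Finset.card_pos.2 ⟨i, by simp [hi]⟩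
      rw [hb, h0] at h3
      omega
    let S : Finset (Fin (2 * m)) := Finset.univ.filter fun i => 2 * (b i).val < r
    have hodd : Odd r := (Fact.out : r.Prime).odd_of_ne_two hr2
    have hS : S.card = m := by
      have hsplit := Finset.card_filter_add_card_filter_not (s := (Finset.univ : Finset (Fin (2 * m))))
        (fun i => 2 * (b i).val < r)
      rw [Finset.card_univ, Fintype.card_fin] at hsplit
      have e1 : ∀ p : ZMod r → Prop, ∀ [DecidablePred p], (Finset.univ.filter fun i => p (b i)).card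
          = ∑ a, if p a then μ a else 0 := fun p _ => by
        rw [Finset.card_eq_sum_card_fiberwise (f := b) (t := Finset.univ) fun i _ => Finset.mem_univ _]
        refine Finset.sum_congr rfl fun a _ => ?_
        rw [Finset.filter_filter]
        split_ifs with ha
        · rw [← hb a]; congr 1; ext i; simp only [Finset.mem_filter, Finset.mem_univ, true_and]
          exact ⟨fun h => h.2, fun h => ⟨h ▸ ha, h⟩⟩
        · rw [Finset.card_eq_zero, Finset.filter_eq_empty_iff]
          exact fun i _ h => ha (h.2 ▸ h.1)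
      have heqc : (Finset.univ.filter fun i => ¬ 2 * (b i).val < r).card = S.card := by
        rw [e1 (fun a => ¬ 2 * a.val < r), e1 (fun a => 2 * a.val < r)]
        refine Fintype.sum_equiv (Equiv.neg (ZMod r)) _ _ fun a => ?_
        rw [Equiv.neg_apply, hneg]
        rcases eq_or_ne a 0 with rfl | ha
        · simp [h0]
        · haveI : NeZero a := ⟨ha⟩
          have hv := ZMod.val_neg_of_ne_zero a
          have hv1 : a.val < r := ZMod.val_lt a
          obtain ⟨l, hl⟩ := hodd
          by_cases h : 2 * a.val < r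
          · rw [if_neg (not_not.2 h), if_neg (by omega)]
          · rw [if_pos h, if_pos (by omega)]
      have hS' : S.card = (Finset.univ.filter fun i => 2 * (b i).val < r).card := rfl
      omega
    let R := Q.comp (Matrix.mulVecLin (c : Matrix (Fin (2 * m)) (Fin (2 * m)) F))
    have hRD : ∀ v, R (diagonal d *ᵥ v) = R v := fun v => by
      simp only [R, QuadraticMap.comp_apply, Matrix.mulVecLin_apply, mulVec_mulVec, hc.eq]
      rw [← mulVec_mulVec, hAQ]
    have hd1 : ∀ i ∈ S, ∀ k ∈ S, d i * d k ≠ 1 := fun i hi k hk h => by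
      simp only [d, ← pow_add] at h
      have h1' := (hζp.pow_eq_one_iff_dvd _).1 h
      have hi' := (Finset.mem_filter.1 hi).2
      have hk' := (Finset.mem_filter.1 hk).2
      have hpos : 0 < (b i).val := Nat.pos_of_ne_zero fun h => hb0 i ((ZMod.val_eq_zero _).1 h)
      have := Nat.le_of_dvd (by omega) h1'
      omega
    have hDe : ∀ i, diagonal d *ᵥ Pi.single i (1 : F) = d i • Pi.single i (1 : F) := fun i => by
      funext k
      rw [mulVec_diagonal]
      rcases eq_or_ne k i with rfl | hki <;> simp [*]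
    have hRp : ∀ i ∈ S, ∀ k ∈ S, polar ⇑R (Pi.single i 1) (Pi.single k 1) = 0 := fun i hi k hk => by
      have h5 : polar ⇑R (diagonal d *ᵥ Pi.single i 1) (diagonal d *ᵥ Pi.single k 1)
          = polar ⇑R (Pi.single i 1) (Pi.single k 1) := by simp only [polar, ← mulVec_add, hRD]
      rw [hDe, hDe, polar_smul_left, polar_smul_right, smul_eq_mul, smul_eq_mul, ← mul_assoc] at h5
      by_contra hne
      exact hd1 i hi k hk (mul_left_eq_self₀.1 h5 |>.resolve_right hne)
    have hRe : ∀ i ∈ S, R (Pi.single i 1) = 0 := fun i hi => by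
      have h5 := hRD (Pi.single i 1)
      rw [hDe, QuadraticMap.map_smul, smul_eq_mul] at h5
      by_contra hne
      exact hd1 i hi i hi (mul_left_eq_self₀.1 h5 |>.resolve_right hne)
    have hRS : ∀ T ⊆ S, ∀ z : Fin (2 * m) → F, R (∑ i ∈ T, z i • Pi.single i (1 : F)) = 0 := by
      intro T
      induction T using Finset.induction_on with
      | empty => intro _ z; simp
      | insert a T ha ih =>
        intro hT z
        rw [Finset.sum_insert ha, QuadraticMap.map_add (⇑R), ih ((Finset.subset_insert a T).trans hT),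
          QuadraticMap.map_smul, hRe a (hT (Finset.mem_insert_self a T)), smul_zero, add_zero, zero_add,
          ← polarBilin_apply_apply, map_sum]
        refine Finset.sum_eq_zero fun i hi => ?_
        rw [map_smul, polarBilin_apply_apply, polar_smul_left,
          hRp a (hT (Finset.mem_insert_self a T)) i (hT (Finset.mem_insert_of_mem hi)), smul_zero, smul_zero]
    let φ : (↥S → F) →ₗ[F] (Fin (2 * m) → F) :=
      Matrix.mulVecLin (c : Matrix (Fin (2 * m)) (Fin (2 * m)) F) ∘ₗ
        ((Fintype.linearCombination F fun i : ↥S => Pi.single (i : Fin (2 * m)) (1 : F)) : (↥S → F) →ₗ[F] _)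
    have hφ : Function.Injective φ := by
      refine (Matrix.mulVec_injective_iff_isUnit.2 c.isUnit).comp fun z z' h => funext fun i => ?_
      have h6 := congrFun h (i : Fin (2 * m))
      simpa [Fintype.linearCombination_apply, Finset.sum_apply, Pi.single_apply] using h6
    refine hhyp ⟨LinearMap.range φ, ?_, ?_⟩
    · rw [LinearMap.finrank_range_of_inj hφ]
      simp [hS]
    · rintro _ ⟨z, rfl⟩
      have h7 := hRS S subset_rfl (fun i => if h : i ∈ S then z ⟨i, h⟩ else 0)
      rw [← Finset.sum_coe_sort] at h7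
      simpa [φ, R, Fintype.linearCombination_apply] using h7

end Cfsg.Agent.Lib.FormConj
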