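import Mathlib

/-!
Monomial matrices with `r`-th power a given scalar, and invariance of class counts under isomorphism.
-/

set_option autoImplicit false

namespace Cfsg.Agent.Lib.FormConj

open Matrix

variable {F : Type*} [Field F]

/-- The monomial matrix of a permutation and weights. -/
def monomial {ι : Type*} [DecidableEq ι] (σ : ι → ι) (w : ι → F) : Matrix ι ι F :=
  Matrix.of fun x y => if y = σ x then w x else 0

theorem monomial_apply {ι : Type*} [DecidableEq ι] (σ : ι → ι) (w : ι → F) (x y : ι) :
    monomial σ w x y = if y = σ x then w x else 0 := rfl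

theorem monomial_pow {ι : Type*} [Fintype ι] [DecidableEq ι] (σ : ι → ι) (w : ι → F) (m : ℕ) :
    monomial σ w ^ m = monomial (σ^[m]) (fun x => ∏ l ∈ Finset.range m, w (σ^[l] x)) := by
  induction m with
  | zero =>
    ext x y
    simp [monomial_apply, Matrix.one_apply, eq_comm]
  | succ m ih =>
    ext x y
    rw [pow_succ', ih, Matrix.mul_apply, Finset.sum_eq_single (σ x)]
    · rw [monomial_apply, monomial_apply, monomial_apply, Finset.prod_range_succ']
      show (if σ x = σ x then w x else 0) * (if y = σ^[m] (σ x) then _ else 0) = if y = σ^[m] (σ x) then _ else 0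
      rw [if_pos rfl, mul_ite, mul_zero]
      exact if_congr Iff.rfl (mul_comm _ _) rfl
    · intro z _ hz
      simp [monomial_apply, hz]
    · intro h
      exact absurd (Finset.mem_univ _) h

theorem monomial_id {ι : Type*} [DecidableEq ι] (a : F) : monomial (id : ι → ι) (fun _ => a) = a • 1 := by
  ext x y
  simp [monomial_apply, Matrix.one_apply, eq_comm]

/-- A monomial matrix on blocks of size `r` with `r`-th power `a`, its weights being `1` or `a`. -/
theorem exists_monomial_root (a : F) {n r : ℕ} [NeZero r] (h : r ∣ n) :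
    ∃ (σ : Equiv.Perm (Fin n)) (w : Fin n → F), (∀ x, w x = 1 ∨ w x = a) ∧
      monomial (⇑σ) w ^ r = a • (1 : Matrix (Fin n) (Fin n) F) := by
  classical
  obtain ⟨k, rfl⟩ := h
  obtain ⟨e⟩ : Nonempty (Fin (r * k) ≃ Fin k × ZMod r) :=
    ⟨Fintype.equivOfCardEq (by rw [Fintype.card_fin, Fintype.card_prod, Fintype.card_fin, ZMod.card, mul_comm])⟩
  let σ : Equiv.Perm (Fin (r * k)) := (e.trans ((Equiv.refl _).prodCongr (Equiv.addRight (1 : ZMod r)))).trans e.symm
  refine ⟨σ, fun x => if (e x).2 = 0 then a else 1, fun x => ?_, ?_⟩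
  · dsimp only
    split_ifs <;> simp
  have hit : ∀ (m : ℕ) (x : Fin (r * k)), e (σ^[m] x) = ((e x).1, (e x).2 + m) := fun m x => by
    induction m with
    | zero => simp
    | succ m ih =>
      rw [Function.iterate_succ_apply']
      simp only [σ, Equiv.trans_apply, Equiv.apply_symm_apply, ih]
      simp [Equiv.prodCongr_apply, add_assoc]
  rw [monomial_pow, show σ^[r] = id from funext fun x => e.injective (by simp [hit]), ← monomial_id]
  congr 1
  funext x
  rw [Finset.prod_eq_single (-(e x).2).val]
  · simp [hit]
  · intro l hl hne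
    rw [hit, if_neg]
    intro h0
    refine hne ?_
    rw [show -(e x).2 = (l : ZMod r) from (eq_neg_of_add_eq_zero_right h0).symm, ZMod.val_natCast,
      Nat.mod_eq_of_lt (Finset.mem_range.1 hl)]
  · intro h0
    exact absurd (Finset.mem_range.2 (ZMod.val_lt _)) h0

theorem natCard_classes_congr {G H : Type*} [Group G] [Group H] (e : G ≃* H) (r : ℕ) :
    Nat.card {C : ConjClasses G // ∃ g, ConjClasses.mk g = C ∧ orderOf g = r}
      = Nat.card {C : ConjClasses H // ∃ h, ConjClasses.mk h = C ∧ orderOf h = r} := by
  let E : ConjClasses G ≃ ConjClasses H :=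
    { toFun := ConjClasses.map e.toMonoidHom
      invFun := ConjClasses.map e.symm.toMonoidHom
      left_inv := fun C => by
        induction C using Quotient.inductionOn with
        | h g => exact congrArg ConjClasses.mk (e.symm_apply_apply g)
      right_inv := fun C => by
        induction C using Quotient.inductionOn with
        | h g => exact congrArg ConjClasses.mk (e.apply_symm_apply g) }
  refine Nat.card_congr (E.subtypeEquiv fun C => ?_)
  constructor
  · rintro ⟨g, rfl, hg⟩
    exact ⟨e g, rfl, (e.orderOf_eq g).trans hg⟩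
  · rintro ⟨h, hh, hr⟩
    exact ⟨e.symm h, (congrArg E.symm hh).trans (E.symm_apply_apply C), (e.symm.orderOf_eq h).trans hr⟩

end Cfsg.Agent.Lib.FormConj
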