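import Mathlib
import Cfsg.Agent.Lib.FormConj.EvenOrth
import Cfsg.Agent.Lib.FormConj.Monomial
import Cfsg.Agent.Lib.Classical.Isometry

/-!
The number of classes of elements of odd prime order in an orthogonal group in even dimension.
-/

set_option autoImplicit false

namespace Cfsg.Agent.Lib.FormConj

open Matrix QuadraticMap
open scoped MatrixGroups

variable {F : Type*} [Field F]

/-- A matrix with `A ^ r = 1` as a linear equivalence. -/
theorem exists_linearEquiv {n : ℕ} (A : Matrix (Fin n) (Fin n) F) {r : ℕ} (hr : r ≠ 0) (hA : A ^ r = 1) :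
    ∃ T : (Fin n → F) ≃ₗ[F] (Fin n → F), (∀ v, T v = A *ᵥ v) ∧ T ^ r = 1 := by
  obtain ⟨G, hG⟩ := IsUnit.of_pow_eq_one hA hr
  refine ⟨Forms.glEquiv _ F G, fun v => ?_, ?_⟩
  · rw [Forms.glEquiv_apply, hG]
  · rw [← map_pow, show G ^ r = 1 from Units.ext (by rw [Units.val_pow_eq_pow_val, hG, hA, Units.val_one]), map_one]

/-- The average of a quadratic form under an element of finite order. -/
theorem exists_invariant_quad {n : ℕ} (Q₀ : Matrix (Fin n) (Fin n) F) (A : Matrix (Fin n) (Fin n) F) {r : ℕ}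
    (hA : A ^ r = 1) (hr : (r : F) ≠ 0) (hK : IsUnit (Q₀ + Q₀ᵀ)) (hinv : Aᵀ * (Q₀ + Q₀ᵀ) * A = Q₀ + Q₀ᵀ) :
    ∃ q : QuadraticForm F (Fin n → F), (polarBilin q).Nondegenerate ∧ ∀ v, q (A *ᵥ v) = q v := by
  set K := Q₀ + Q₀ᵀ with hKdef
  let q₀ : QuadraticForm F (Fin n → F) := (Matrix.toBilin' Q₀).toQuadraticMap
  let q : QuadraticForm F (Fin n → F) := ∑ i ∈ Finset.range r, q₀.comp (Matrix.mulVecLin (A ^ i))
  have hq : ∀ v, q v = ∑ i ∈ Finset.range r, q₀ (A ^ i *ᵥ v) := fun v => by
    simp [q, QuadraticMap.sum_apply]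
  have hq₀ : ∀ u v, polar ⇑q₀ u v = Matrix.toBilin' K u v := fun u v => by
    rw [LinearMap.BilinMap.polar_toQuadraticMap, hKdef, map_add, LinearMap.add_apply, LinearMap.add_apply]
    congr 1
    rw [Matrix.toBilin'_apply', Matrix.toBilin'_apply', dotProduct_mulVec v, ← mulVec_transpose,
      dotProduct_comm (Q₀ᵀ *ᵥ v) u]
  have hpow : ∀ (i : ℕ) u v, Matrix.toBilin' K (A ^ i *ᵥ u) (A ^ i *ᵥ v) = Matrix.toBilin' K u v := fun i => by
    induction i with
    | zero => simp
    | succ i ih =>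
      intro u v
      have h1 : ∀ a b, Matrix.toBilin' K (A *ᵥ a) (A *ᵥ b) = Matrix.toBilin' (Aᵀ * K * A) a b := fun a b => by
        simp only [Matrix.toBilin'_apply', dotProduct_mulVec, ← vecMul_vecMul, vecMul_transpose]
      rw [pow_succ', ← mulVec_mulVec, ← mulVec_mulVec, h1, hinv, ih]
  refine ⟨q, StdForms.nondegenerate_of_left q fun u hu => ?_, fun v => ?_⟩
  · have hKd : (Matrix.toBilin' K).Nondegenerate := LinearMap.BilinForm.nondegenerate_toBilin'_iff_det_ne_zero.2
      ((isUnit_iff_isUnit_det _).1 hK).ne_zero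
    refine hKd.1 u fun v => ?_
    have h := hu v
    have hp : polar ⇑q u v = (r : F) * Matrix.toBilin' K u v := by
      simp only [polar, hq, ← Finset.sum_sub_distrib]
      rw [Finset.sum_congr rfl fun i _ => show q₀ (A ^ i *ᵥ (u + v)) - q₀ (A ^ i *ᵥ u) - q₀ (A ^ i *ᵥ v)
        = Matrix.toBilin' K u v by rw [mulVec_add, ← hpow i u v, ← hq₀]; rfl]
      simp
    rw [hp] at h
    exact (mul_eq_zero.1 h).resolve_left hr
  · rw [hq, hq]
    have h1 := Finset.sum_range_succ' (fun i => q₀ (A ^ i *ᵥ v)) r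
    rw [Finset.sum_range_succ, hA, pow_zero] at h1
    refine (Finset.sum_congr rfl fun i _ => ?_).trans (add_right_cancel h1).symm
    rw [mulVec_mulVec, ← pow_succ]

variable [Fintype F] {r : ℕ} [Fact r.Prime]

/-- The number of classes of elements of order `r` in an orthogonal group in even dimension. -/
theorem natCard_classes_even (hr2 : r ≠ 2) (hr : (r : F) ≠ 0) {n m : ℕ} (hm : 1 ≤ m) (hn : n = 2 * m)
    {Q : QuadraticForm F (Fin n → F)} (hQ : (polarBilin Q).Nondegenerate) (u : (ZMod r)ˣ)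
    (hu : (u : ZMod r) = (Fintype.card F : ZMod r)) [Decidable (IsHyp Q ↔ Even (n / orderOf u))]
    (H : Subgroup (ZMod r)ˣ) (hH : H = Subgroup.closure {u, -1}) :
    Nat.card {C : ConjClasses (Classical.isoGroup (F := F) ⇑Q) //
        ∃ g : Classical.isoGroup (F := F) ⇑Q, ConjClasses.mk g = C ∧ orderOf g = r}
      = Nat.choose (n / Nat.card H + H.index) H.index - 1
        - (if Nat.card H ∣ n ∧ ¬ (IsHyp Q ↔ Even (n / orderOf u))
            then Nat.choose (n / Nat.card H + H.index - 1) (H.index - 1) else 0) := by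
  classical
  obtain ⟨ζ, hζ⟩ := exists_root F hr
  set j := algebraMap F (AlgebraicClosure F)
  have hrp := (Fact.out : r.Prime)
  have hcardH : Nat.card H = if Odd (orderOf u) then 2 * orderOf u else orderOf u := by
    rw [hH]; exact card_closure_neg_one hr2 u
  have hdvd : ∀ d, Nat.card H ∣ d → orderOf u ∣ d ∧ (Odd (orderOf u) → 2 * orderOf u ∣ d) := fun d hd => by
    rw [hcardH] at hd
    by_cases ho : Odd (orderOf u)
    · rw [if_pos ho] at hd
      exact ⟨(dvd_mul_left _ 2).trans hd, fun _ => hd⟩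
    · rw [if_neg ho] at hd
      exact ⟨hd, fun h => absurd h ho⟩
  have h2H : 2 ∣ Nat.card H := by
    rw [hH, ← two_le_orderOf_neg_one (r := r) hr2, ← Nat.card_zpowers]
    exact Subgroup.card_dvd_of_le (Subgroup.zpowers_le.2 (Subgroup.subset_closure (by simp)))
  have huH : u ∈ H := hH ▸ Subgroup.subset_closure (by simp)
  have hnegH : (-1 : (ZMod r)ˣ) ∈ H := hH ▸ Subgroup.subset_closure (by simp)
  let G := Classical.isoGroup (F := F) ⇑Q
  let φ : G →* Matrix (Fin n) (Fin n) F :=
    (LinearMap.toMatrixAlgEquiv' (R := F) (n := Fin n)).toMonoidHom.comp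
      ((LinearEquiv.automorphismGroup.toLinearMapMonoidHom (R := F) (M := Fin n → F)).comp G.subtype)
  have hφv : ∀ (g : G) v, φ g *ᵥ v = (g : (Fin n → F) ≃ₗ[F] (Fin n → F)) v := fun g v =>
    LinearMap.toMatrix'_mulVec _ v
  have hφinj : Function.Injective φ := fun a b h => Subtype.ext (LinearEquiv.ext fun v => by
    rw [← hφv, ← hφv, h])
  obtain ⟨k, hk⟩ : IsUnit (LinearMap.BilinForm.toMatrix' (polarBilin Q)) :=
    (isUnit_iff_isUnit_det _).2
      (isUnit_iff_ne_zero.2 ((LinearMap.BilinForm.nondegenerate_iff_det_ne_zero (Pi.basisFun F _)).1 hQ))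
  have hkB : Matrix.toBilin' (k : Matrix (Fin n) (Fin n) F) = polarBilin Q := by rw [hk, Matrix.toBilin'_toMatrix']
  have hgood : Forms.IsGoodForm (σ := RingHom.id F) (Matrix.toBilin' (k : Matrix (Fin n) (Fin n) F)) (1 : F) := by
    rw [hkB]; exact Forms.IsGoodForm.of_quadratic hQ
  have hφ₀ : ∀ g : G, adj k (φ g) * φ g = 1 := fun g => (adj_mul_self_iff_preserves k _).2 fun a b => by
    rw [hkB, hφv, hφv, polarBilin_apply_apply, polarBilin_apply_apply]
    simp only [polar, ← map_add, g.2 _]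
  rw [natCard_classes_subset H j hζ φ hφinj hr (fun μ => μ 0 = 0 → (IsHyp Q ↔ Even (n / orderOf u))) ?_ ?_ ?_,
    natCard_invariant_sdiff H n (by omega)]
  · -- conjugacy
    intro g g' hg _ hconj
    obtain ⟨c, hc⟩ := hconj
    obtain ⟨M, hM, hMg⟩ := exists_isometry_intertwine k hgood (hrp.odd_of_ne_two hr2) hr
      (hφ₀ g) (hφ₀ g') (by rw [← map_pow, hg, map_one]) c.isUnit hc.eq
    let M' : GL (Fin n) F := ⟨M, adj k M, mul_eq_one_comm.mp hM, hM⟩
    have hpol : ∀ a b, polar ⇑Q (M *ᵥ a) (M *ᵥ b) = polar ⇑Q a b := fun a b => by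
      have := (adj_mul_self_iff_preserves k M).1 hM a b
      rwa [hkB] at this
    obtain ⟨h, hh, hhg⟩ := exists_isometry_conj hQ g.1 g'.1 (Forms.glEquiv _ F M') g.2 g'.2
      (by rw [← SubmonoidClass.coe_pow, hg]; rfl) hr
      (fun a b => by simp only [Forms.glEquiv_apply]; exact hpol a b) (fun v => by
        simp only [Forms.glEquiv_apply]
        show M *ᵥ _ = _
        rw [← hφv, ← hφv, mulVec_mulVec, mulVec_mulVec, hMg])
    refine isConj_iff.2 ⟨⟨h, hh⟩, ?_⟩
    rw [mul_inv_eq_iff_eq_mul]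
    exact Subtype.ext (LinearEquiv.ext hhg)
  · -- invariance and type
    intro g hg μ hμ
    have hgr : φ g ^ r = 1 := by rw [← map_pow, hg, map_one]
    have hneg : ∀ a, μ (-a) = μ a := mult_neg j hζ hr k hgr (hφ₀ g) hμ
    have hinv : IsInv H μ := by
      rw [hH]
      refine isInv_closure fun x hx a => ?_
      rcases hx with rfl | rfl
      · exact mult_card_mul j hζ hμ x hu a
      · rw [Units.val_neg, Units.val_one, neg_one_mul]
        exact hneg a
    refine ⟨hinv, fun h0 => ?_⟩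
    obtain ⟨c, hc⟩ := dvd_sum_units hζ H hinv
    have hsum : n = Nat.card H * c := by
      rw [← hc, ← Fintype.card_fin n, ← HasMult.sum_eq j hμ, sum_zmod, h0, zero_add]
    exact isHyp_iff_of_free j hζ hr2 hr hm hn hu hQ (fun v => by rw [hφv]; exact g.2 v) hgr hμ h0 hneg
      (hdvd n ⟨c, hsum⟩)
  · -- realisation
    intro μ hμ hsum hP
    set μ' : ZMod r → ℕ := Function.update μ 0 0 with hμ'def
    have hμ'0 : μ' 0 = 0 := Function.update_self _ _ _
    have hμ'ne : ∀ a, a ≠ 0 → μ' a = μ a := fun a ha => Function.update_of_ne ha _ _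
    have hμ'inv : IsInv H μ' := fun v hv a => by
      rcases eq_or_ne a 0 with rfl | ha
      · rw [mul_zero]
      · rw [hμ'ne _ (mul_ne_zero v.ne_zero ha), hμ'ne _ ha, hμ v hv]
    have hneg : ∀ a, μ' (-a) = μ' a := fun a => by
      have h := hμ'inv (-1) hnegH a
      rwa [Units.val_neg, Units.val_one, neg_one_mul] at h
    obtain ⟨c, hc⟩ := dvd_sum_units hζ H hμ'inv
    set n₁ := Nat.card H * c with hn₁
    have hsum1 : ∑ a, μ' a = n₁ := by rw [sum_zmod, hμ'0, zero_add, hc]
    have hn' : n₁ + μ 0 = n := by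
      rw [← hsum, sum_zmod μ, ← hc, add_comm]
      exact congrArg _ (Finset.sum_congr rfl fun v _ => hμ'ne _ v.ne_zero)
    obtain ⟨A, hA, hAm⟩ := exists_of_mult j hζ (n := n₁) hr μ' hsum1
      (fun a => by rw [← hu]; exact hμ'inv u huH a) (hu ▸ u.isUnit)
    obtain ⟨k₁, hk₁⟩ := exists_invariant_form j hζ hr (RingHom.id F) (RingHom.id _) (fun _ => rfl) 1
      (by rw [RingHom.id_apply, Units.val_one, rootAt, ZMod.val_one, pow_one]) hA hAm
      (fun a => by rw [Units.val_one, neg_one_mul]; exact hneg a)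
    obtain ⟨GA, hGA⟩ := IsUnit.of_pow_eq_one hA hrp.ne_zero
    subst hGA
    obtain ⟨Q₁, K₁, hK₁, hinv₁⟩ := exists_form GA k₁ (by simpa using hk₁)
      (isUnit_sub_inv j hζ hr (isUnit_iff_ne_zero.2 fun h2 => hr2 ((Nat.prime_dvd_prime_iff_eq hrp
        Nat.prime_two).1 ((ZMod.natCast_eq_zero_iff 2 r).1 (by exact_mod_cast h2)))) hA hAm hμ'0) 1 (one_mul 1)
    rw [Int.cast_one, one_mul] at hK₁
    obtain ⟨q₁, hq₁, hq₁A⟩ := exists_invariant_quad Q₁ (GA : Matrix (Fin n₁) (Fin n₁) F) hA hr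
      (hK₁ ▸ K₁.isUnit) (by rw [← hK₁]; exact hinv₁)
    obtain ⟨T₁, hT₁v, hT₁r⟩ := exists_linearEquiv _ hrp.ne_zero hA
    have hT₁m : (T₁.toLinearMap).charpoly.map j = polyOf ζ μ' := by
      rw [show T₁.toLinearMap = Matrix.toLin' (GA : Matrix (Fin n₁) (Fin n₁) F) from
        LinearMap.ext fun v => (hT₁v v).trans (Matrix.toLin'_apply _ v).symm, Matrix.charpoly_toLin']
      exact hAm
    -- transport of a model on some space to `Q`
    have finish : ∀ {V : Type _} [AddCommGroup V] [Module F V] [FiniteDimensional F V] (q : QuadraticForm F V),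
        (polarBilin q).Nondegenerate → Module.finrank F V = n → (IsHyp q ↔ IsHyp Q) →
        ∀ T : V ≃ₗ[F] V, (∀ v, q (T v) = q v) → T ^ r = 1 → T.toLinearMap.charpoly.map j = polyOf ζ μ →
        ∃ g : G, g ^ r = 1 ∧ HasMult j ζ (φ g) μ := by
      intro V _ _ _ q hq hV htype T hT hTr hTm
      obtain ⟨e, he⟩ := exists_isometry_of_type hm (hV.trans hn) (by simp [hn]) hq hQ htype
      let g : (Fin n → F) ≃ₗ[F] (Fin n → F) := (e.symm.trans T).trans e
      have hg : ∀ v, Q (g v) = Q v := fun v => by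
        show Q (e (T (e.symm v))) = Q v
        rw [he, hT, ← he, LinearEquiv.apply_symm_apply]
      refine ⟨⟨g, hg⟩, Subtype.ext ?_, ?_⟩
      · have hk : ∀ i : ℕ, g ^ i = (e.symm.trans (T ^ i)).trans e := fun i => by
          induction i with
          | zero => ext v; simp
          | succ i ih =>
            refine LinearEquiv.ext fun v => ?_
            simp [pow_succ', ih, g, LinearEquiv.mul_apply]
        show g ^ r = 1
        rw [hk, hTr]
        ext v
        simp
      · show (LinearMap.toMatrix' g.toLinearMap).charpoly.map j = _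
        rw [← LinearMap.toMatrix_eq_toMatrix', LinearMap.charpoly_toMatrix,
          show g.toLinearMap = e.conj T.toLinearMap from rfl, LinearEquiv.charpoly_conj, hTm]
    rcases Nat.eq_zero_or_pos (μ 0) with h0 | h0
    · have hμμ : μ' = μ := by rw [hμ'def, ← h0, Function.update_eq_self]
      rw [hμμ] at hT₁m
      have hn1 : n₁ = 2 * m := by omega
      refine finish q₁ hq₁ (by simp; omega) ?_ T₁ (fun v => by rw [hT₁v]; exact hq₁A v) hT₁r hT₁m
      rw [isHyp_iff_of_free j hζ hr2 hr hm hn1 hu hq₁ hq₁A hA hAm hμ'0 hneg (hdvd n₁ ⟨c, rfl⟩),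
        hP h0, show n₁ = n by omega]
    · obtain ⟨d, hd⟩ : ∃ d, μ 0 = 2 * d := by
        obtain ⟨l, hl⟩ := h2H
        rw [hn₁, hl, mul_assoc] at hn'
        exact ⟨m - l * c, by omega⟩
      -- one of the two completions has the right type
      have build : ∀ {W : Type _} [AddCommGroup W] [Module F W] [FiniteDimensional F W] (q₀ : QuadraticForm F W),
          (polarBilin q₀).Nondegenerate → Module.finrank F W = μ 0 → (IsHyp (q₁.prod q₀) ↔ IsHyp Q) →
          ∃ g : G, g ^ r = 1 ∧ HasMult j ζ (φ g) μ := by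
        intro W _ _ _ q₀ hq₀ hW htype
        refine finish (q₁.prod q₀) (prod_nondegenerate hq₁ hq₀) (by rw [Module.finrank_prod, Module.finrank_fin_fun, hW, hn']) htype
          (T₁.prodCongr (LinearEquiv.refl F W)) (fun v => ?_) ?_ ?_
        · simp [QuadraticMap.prod_apply, hT₁v, hq₁A]
        · have hk : ∀ i : ℕ, (T₁.prodCongr (LinearEquiv.refl F W)) ^ i = (T₁ ^ i).prodCongr (LinearEquiv.refl F W) :=
            fun i => by
              induction i with
              | zero => ext v <;> simp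
              | succ i ih => refine LinearEquiv.ext fun v => ?_; simp [pow_succ', ih, LinearEquiv.mul_apply]
          rw [hk, hT₁r]
          ext v <;> simp
        · rw [show (T₁.prodCongr (LinearEquiv.refl F W)).toLinearMap = T₁.toLinearMap.prodMap LinearMap.id from rfl,
            LinearMap.charpoly_prodMap, Polynomial.map_mul, hT₁m, ← Module.End.one_eq_id, LinearMap.charpoly_one,
            hW, Polynomial.map_pow, Polynomial.map_sub, Polynomial.map_X, Polynomial.map_one]
          rw [polyOf, polyOf, ← Finset.mul_prod_erase _ _ (Finset.mem_univ (0 : ZMod r)),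
            ← Finset.mul_prod_erase _ _ (Finset.mem_univ (0 : ZMod r)), hμ'0, pow_zero, one_mul, mul_comm,
            show rootAt ζ (0 : ZMod r) = 1 by rw [rootAt, ZMod.val_zero, pow_zero], Polynomial.C_1]
          exact congrArg _ (Finset.prod_congr rfl fun a ha => by rw [hμ'ne a (Finset.ne_of_mem_erase ha)])
      have hd1 : 1 ≤ d := by omega
      obtain ⟨z, hz⟩ := exists_irreducible (F := F)
      have hab := aniso_of_irreducible hz
      have hWp : (polarBilin (StdForms.plusQ F d)).Nondegenerate := StdForms.plusQ_nondegenerate d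
      have hWm : (polarBilin (StdForms.minusQ F (d - 1) 1 z)).Nondegenerate := StdForms.minusQ_nondegenerate hab (d - 1)
      by_cases htp : IsHyp (q₁.prod (StdForms.plusQ F d)) ↔ IsHyp Q
      · exact build _ hWp (by simp; omega) htp
      · refine build _ hWm (by simp; omega) ?_
        have hne : ¬ (IsHyp (q₁.prod (StdForms.plusQ F d)) ↔ IsHyp (q₁.prod (StdForms.minusQ F (d - 1) 1 z))) := by
          intro hiff
          obtain ⟨e, he⟩ := exists_isometry_of_type (m := m) hm (by simp [Module.finrank_prod]; omega)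
            (by simp [Module.finrank_prod]; omega) (prod_nondegenerate hq₁ hWp) (prod_nondegenerate hq₁ hWm) hiff
          obtain ⟨e', he'⟩ := witt_cancel hq₁ hWp hWm (by simp; omega) e he
          exact not_isHyp_minusQ _ hab ((isHyp_congr e' he').1 (isHyp_plusQ d))
        tauto

end Cfsg.Agent.Lib.FormConj

namespace Cfsg.Agent.Lib.FormConj

open QuadraticMap

/-- The count for `Cfsg.isometryGroup` of any model. -/
theorem natCard_classes_isometry {F : Type*} [Field F] [Fintype F] {r : ℕ} [Fact r.Prime] (hr2 : r ≠ 2)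
    (hr : (r : F) ≠ 0) {ι : Type} [Fintype ι] [DecidableEq ι] {m : ℕ} (hm : 1 ≤ m) (hι : Fintype.card ι = 2 * m)
    {Q : QuadraticForm F (ι → F)} (hQ : (polarBilin Q).Nondegenerate) {f : (ι → F) → F} (hf : ⇑Q = f) {q : ℕ}
    (hF : Fintype.card F = q) {i t : ℕ} (hi : i = orderOf (q : ZMod r)) (ht : t * i = r - 1)
    (hrp : (q : ZMod r) ≠ 0) :
    (IsHyp Q → Nat.card {C : ConjClasses ↥(Cfsg.isometryGroup F f) //
        ∃ g : ↥(Cfsg.isometryGroup F f), ConjClasses.mk g = C ∧ orderOf g = r}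
      = if Odd i then Nat.choose (m / i + t / 2) (t / 2) - 1
        else Nat.choose (2 * m / i + t) t - 1
          - (if i ∣ 2 * m ∧ Odd (2 * m / i) then Nat.choose (2 * m / i + t - 1) (t - 1) else 0)) ∧
    (¬ IsHyp Q → Nat.card {C : ConjClasses ↥(Cfsg.isometryGroup F f) //
        ∃ g : ↥(Cfsg.isometryGroup F f), ConjClasses.mk g = C ∧ orderOf g = r}
      = if Odd i then Nat.choose (m / i + t / 2) (t / 2) - 1
          - (if i ∣ m then Nat.choose (m / i + t / 2 - 1) (t / 2 - 1) else 0)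
        else Nat.choose (2 * m / i + t) t - 1
          - (if i ∣ 2 * m ∧ Even (2 * m / i) then Nat.choose (2 * m / i + t - 1) (t - 1) else 0)) := by
  classical
  subst hf hF
  obtain ⟨u, hu⟩ : ∃ u : (ZMod r)ˣ, (u : ZMod r) = (Fintype.card F : ZMod r) := ⟨Units.mk0 _ hrp, rfl⟩
  have hui : i = orderOf u := by rw [hi, ← orderOf_units, hu]
  have hi0 : 0 < i := hui ▸ orderOf_pos u
  have e := (Fintype.equivFin ι).trans (finCongr hι)
  let E : (ι → F) ≃ₗ[F] (Fin (2 * m) → F) := LinearEquiv.funCongrLeft F F e.symm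
  let Q' := Q.comp E.symm.toLinearMap
  have hQE : ∀ v, Q' (E v) = Q v := fun v => by simp [Q']
  let Φ : ↥(Cfsg.isometryGroup F ⇑Q) ≃* Classical.isoGroup (F := F) ⇑Q' :=
    (Classical.isometryGroupEquiv _).trans (Classical.isoGroupCongr E 1 (fun v => by
      rw [Units.val_one, one_mul]; exact hQE v))
  have key := natCard_classes_even (r := r) hr2 hr hm rfl (nondegenerate_congr E hQE hQ) u hu _ rfl
  rw [← natCard_classes_congr Φ r, ← hui, index_eq_div, card_closure_neg_one hr2, ← hui] at key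
  rw [key, ← isHyp_congr E hQE]
  have harith : Odd i → (2 * m / (2 * i) = m / i ∧ (r - 1) / (2 * i) = t / 2) := fun _ => by
    refine ⟨Nat.mul_div_mul_left _ _ two_pos, ?_⟩
    rw [← ht, Nat.mul_div_mul_right _ _ hi0]
  have harith' : (r - 1) / i = t := by rw [← ht, Nat.mul_div_cancel _ hi0]
  have hodd_iff : ∀ ho : Odd i, (2 * i ∣ 2 * m ↔ i ∣ m) ∧ (i ∣ m → Even (2 * m / i)) := fun ho =>
    ⟨Nat.mul_dvd_mul_iff_left two_pos, fun ⟨l, hl⟩ => ⟨l, by
      rw [hl, show 2 * (i * l) = i * (l + l) by ring, Nat.mul_div_cancel_left _ hi0]⟩⟩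
  constructor <;> intro hh <;> by_cases ho : Odd i
  · obtain ⟨h1, h2⟩ := harith ho
    rw [if_pos ho, if_pos ho, h1, h2, if_neg, Nat.sub_zero]
    rintro ⟨hd, hne⟩
    exact hne (iff_of_true hh ((hodd_iff ho).2 ((hodd_iff ho).1.1 hd)))
  · rw [if_neg ho, if_neg ho, harith']
    refine congrArg _ ?_
    by_cases hd : i ∣ 2 * m ∧ Odd (2 * m / i)
    · rw [if_pos hd, if_pos ⟨hd.1, fun h => Nat.not_even_iff_odd.2 hd.2 (h.1 hh)⟩]
    · rw [if_neg hd, if_neg]
      rintro ⟨h1, hne⟩
      exact hd ⟨h1, Nat.not_even_iff_odd.1 fun h => hne (iff_of_true hh h)⟩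
  · obtain ⟨h1, h2⟩ := harith ho
    rw [if_pos ho, if_pos ho, h1, h2]
    refine congrArg _ ?_
    by_cases hd : i ∣ m
    · rw [if_pos hd, if_pos ⟨(hodd_iff ho).1.2 hd, fun h => hh (h.2 ((hodd_iff ho).2 hd))⟩]
    · rw [if_neg hd, if_neg]
      exact fun h => hd ((hodd_iff ho).1.1 h.1)
  · rw [if_neg ho, if_neg ho, harith']
    refine congrArg _ ?_
    by_cases hd : i ∣ 2 * m ∧ Even (2 * m / i)
    · rw [if_pos hd, if_pos ⟨hd.1, fun h => hh (h.2 hd.2)⟩]
    · rw [if_neg hd, if_neg]
      rintro ⟨h1, hne⟩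
      exact hd ⟨h1, by by_contra h; exact hne (iff_of_false hh h)⟩

end Cfsg.Agent.Lib.FormConj
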