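import Mathlib
import Cfsg.Prelude.Def_JordanBlocks

/-!
Matrices intertwining unipotent Jordan blocks, and the commutant of a Jordan type matrix.
-/

set_option autoImplicit false

namespace Cfsg.Agent.Lib.FormConj

open Matrix

variable {K : Type*} [Field K]

theorem jordanBlock_mul_apply {a b : ℕ} (Y : Matrix (Fin a) (Fin b) K) (s : Fin a) (u : Fin b) :
    (Cfsg.jordanBlock a K * Y) s u
      = Y s u + (if (s : ℕ) = 0 then 0 else Y ⟨(s : ℕ) - 1, by omega⟩ u) := by
  rw [Matrix.mul_apply]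
  by_cases h : (s : ℕ) = 0
  · rw [if_pos h, add_zero, Finset.sum_eq_single s]
    · simp [Cfsg.jordanBlock]
    · intro x _ hx
      simp [Cfsg.jordanBlock, h, Fin.val_ne_of_ne hx.symm]
      intro h'
      exact absurd (Fin.ext (by omega : (x : ℕ) = s)) hx
    · intro h'
      exact absurd (Finset.mem_univ _) h'
  · rw [if_neg h]
    rw [Finset.sum_eq_add (s : Fin a) ⟨(s : ℕ) - 1, by omega⟩]
    · have h1 : (s : ℕ) ≠ (s : ℕ) - 1 := by omega
      have h2 : (s : ℕ) = (s : ℕ) - 1 + 1 := by omega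
      simp [Cfsg.jordanBlock, h1, ← h2]
    · exact fun e => by have := congrArg Fin.val e; simp only at this; omega
    · intro x _ hx
      have h1 : (s : ℕ) ≠ x := fun e => hx.1 (Fin.ext e.symm)
      have h2 : (s : ℕ) ≠ (x : ℕ) + 1 := fun e => hx.2 (Fin.ext (by simp only; omega))
      simp [Cfsg.jordanBlock, h1, h2]
    · intro h'; exact absurd (Finset.mem_univ _) h'
    · intro h'; exact absurd (Finset.mem_univ _) h'

theorem mul_jordanBlock_apply {a b : ℕ} (Y : Matrix (Fin a) (Fin b) K) (s : Fin a) (u : Fin b) :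
    (Y * Cfsg.jordanBlock b K) s u
      = Y s u + (if h : (u : ℕ) + 1 < b then Y s ⟨(u : ℕ) + 1, h⟩ else 0) := by
  rw [Matrix.mul_apply]
  split_ifs with h
  · rw [Finset.sum_eq_add (u : Fin b) ⟨(u : ℕ) + 1, h⟩]
    · simp [Cfsg.jordanBlock]
    · exact fun e => by have := congrArg Fin.val e; simp only at this; omega
    · intro x _ hx
      have h1 : (x : ℕ) ≠ u := fun e => hx.1 (Fin.ext e)
      have h2 : (x : ℕ) ≠ (u : ℕ) + 1 := fun e => hx.2 (Fin.ext e)
      simp [Cfsg.jordanBlock, h1, h2]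
    · intro h'; exact absurd (Finset.mem_univ _) h'
    · intro h'; exact absurd (Finset.mem_univ _) h'
  · rw [add_zero, Finset.sum_eq_single u]
    · simp [Cfsg.jordanBlock]
    · intro x _ hx
      have h1 : (x : ℕ) ≠ u := fun e => hx (Fin.ext e)
      have h2 : (x : ℕ) ≠ (u : ℕ) + 1 := by omega
      simp [Cfsg.jordanBlock, h1, h2]
    · intro h'; exact absurd (Finset.mem_univ _) h'

/-- The matrix intertwining two Jordan blocks with given first column. -/
def toeplitz {a b : ℕ} (c : Fin a → K) : Matrix (Fin a) (Fin b) K :=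
  Matrix.of fun s u => if (u : ℕ) ≤ s then c ⟨(s : ℕ) - u, by omega⟩ else 0

theorem toeplitz_apply {a b : ℕ} (c : Fin a → K) (s : Fin a) (u : Fin b) :
    toeplitz c s u = if (u : ℕ) ≤ s then c ⟨(s : ℕ) - u, by omega⟩ else 0 := rfl

theorem jordanBlock_mul_toeplitz {a b : ℕ} (c : Fin a → K) (hc : ∀ s : Fin a, (s : ℕ) + b < a → c s = 0) :
    Cfsg.jordanBlock a K * (toeplitz c : Matrix (Fin a) (Fin b) K) = toeplitz c * Cfsg.jordanBlock b K := by
  ext s u
  refine (jordanBlock_mul_apply _ s u).trans (Eq.trans ?_ (mul_jordanBlock_apply (toeplitz c) s u).symm)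
  refine congrArg _ ?_
  simp only [toeplitz_apply]
  by_cases hs : (s : ℕ) = 0
  · rw [if_pos hs]
    split_ifs with h h'
    · omega
    · rfl
    · rfl
  · rw [if_neg hs]
    split_ifs with h h1 h2 h3 h4
    all_goals first
      | omega
      | rfl
      | (exact congrArg c (Fin.ext (by simp only; omega)))
      | (exact hc _ (by simp only; omega))

/-- An intertwiner is determined by its first column. -/
theorem eq_toeplitz {a b : ℕ} (hb : 0 < b) {Y : Matrix (Fin a) (Fin b) K}
    (hY : Cfsg.jordanBlock a K * Y = Y * Cfsg.jordanBlock b K) :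
    Y = toeplitz (fun s => Y s ⟨0, hb⟩) ∧ ∀ s : Fin a, (s : ℕ) + b < a → Y s ⟨0, hb⟩ = 0 := by
  have hrel : ∀ (s : Fin a) (u : Fin b), (if (s : ℕ) = 0 then 0 else Y ⟨(s : ℕ) - 1, by omega⟩ u)
      = (if h : (u : ℕ) + 1 < b then Y s ⟨(u : ℕ) + 1, h⟩ else 0) := fun s u => by
    have := congrFun (congrFun hY s) u
    rwa [jordanBlock_mul_apply, mul_jordanBlock_apply, add_right_inj] at this
  have key : ∀ (m : ℕ) (hm : m < b) (s : Fin a),
      Y s ⟨m, hm⟩ = if m ≤ (s : ℕ) then Y ⟨(s : ℕ) - m, by omega⟩ ⟨0, hb⟩ else 0 := by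
    intro m
    induction m with
    | zero => intro hm s; simp
    | succ m ih =>
      intro hm s
      have h := hrel s ⟨m, by omega⟩
      rw [dif_pos hm] at h
      rw [← h]
      by_cases hs : (s : ℕ) = 0
      · rw [if_pos hs, if_neg (by omega)]
      · rw [if_neg hs, ih]
        simp only
        by_cases hms : m + 1 ≤ (s : ℕ)
        · rw [if_pos hms, if_pos (by omega)]
          congr 1
          exact Fin.ext (by simp only; omega)
        · rw [if_neg hms, if_neg (by omega)]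
  refine ⟨Matrix.ext fun s u => key u u.2 s, fun s hs => ?_⟩
  have h := hrel ⟨(s : ℕ) + b, hs⟩ ⟨b - 1, by omega⟩
  rw [if_neg (by simp only; omega), dif_neg (by simp only; omega), key _ (by omega),
    if_pos (by simp only; omega)] at h
  rw [← h]
  congr 1
  exact Fin.ext (by simp only; omega)

/-- Row zero of an intertwiner. -/
theorem row_zero_eq_zero {a b : ℕ} {Y : Matrix (Fin a) (Fin b) K}
    (hY : Cfsg.jordanBlock a K * Y = Y * Cfsg.jordanBlock b K) (ha : 0 < a) (u : Fin b) (hu : (u : ℕ) ≠ 0) :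
    Y ⟨0, ha⟩ u = 0 := by
  rw [(eq_toeplitz (by omega) hY).1, toeplitz_apply, if_neg (by simp only; omega)]

theorem mul_apply_zero {a b c : ℕ} {Y : Matrix (Fin a) (Fin b) K} (Z : Matrix (Fin b) (Fin c) K)
    (hY : Cfsg.jordanBlock a K * Y = Y * Cfsg.jordanBlock b K) (ha : 0 < a) (hb : 0 < b) (u : Fin c) :
    (Y * Z) ⟨0, ha⟩ u = Y ⟨0, ha⟩ ⟨0, hb⟩ * Z ⟨0, hb⟩ u := by
  rw [Matrix.mul_apply, Finset.sum_eq_single ⟨0, hb⟩]
  · intro x _ hx
    rw [row_zero_eq_zero hY ha x (fun e => hx (Fin.ext e)), zero_mul]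
  · intro h; exact absurd (Finset.mem_univ _) h

/-- A nilpotent matrix commuting with a Jordan block has zero corner. -/
theorem corner_eq_zero_of_isNilpotent {a : ℕ} (ha : 0 < a) {Y : Matrix (Fin a) (Fin a) K}
    (hY : Cfsg.jordanBlock a K * Y = Y * Cfsg.jordanBlock a K) (hn : IsNilpotent Y) :
    Y ⟨0, ha⟩ ⟨0, ha⟩ = 0 := by
  obtain ⟨m, hm⟩ := hn
  have h : ∀ i : ℕ, (Y ^ i) ⟨0, ha⟩ ⟨0, ha⟩ = Y ⟨0, ha⟩ ⟨0, ha⟩ ^ i := fun i => by
    induction i with
    | zero => simp
    | succ i ih => rw [pow_succ', mul_apply_zero _ hY ha ha, ih, pow_succ']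
  have := h m
  rw [hm, Matrix.zero_apply] at this
  exact eq_zero_of_pow_eq_zero this.symm

/-- A matrix commuting with a Jordan block is its corner plus a nilpotent matrix. -/
theorem isNilpotent_sub_corner {a : ℕ} (ha : 0 < a) {Y : Matrix (Fin a) (Fin a) K}
    (hY : Cfsg.jordanBlock a K * Y = Y * Cfsg.jordanBlock a K) :
    IsNilpotent (Y - Y ⟨0, ha⟩ ⟨0, ha⟩ • 1) := by
  set Z := Y - Y ⟨0, ha⟩ ⟨0, ha⟩ • (1 : Matrix (Fin a) (Fin a) K)
  have hlow : ∀ s u : Fin a, (s : ℕ) ≤ u → Z s u = 0 := by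
    intro s u hsu
    show (Y - Y ⟨0, ha⟩ ⟨0, ha⟩ • (1 : Matrix (Fin a) (Fin a) K)) s u = 0
    rw [Matrix.sub_apply, Matrix.smul_apply, (eq_toeplitz ha hY).1, toeplitz_apply, Matrix.one_apply, toeplitz_apply]
    by_cases h : s = u
    · subst h; simp
    · rw [if_neg h, if_neg (by have := Fin.val_ne_of_ne h; omega)]; simp
  refine ⟨a, Matrix.ext fun s u => ?_⟩
  have key : ∀ (i : ℕ) (s u : Fin a), (s : ℕ) < u + i → (Z ^ i) s u = 0 := by
    intro i
    induction i with
    | zero => intro s u h; simp [Matrix.one_apply, show s ≠ u from fun e => by simp [e] at h]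
    | succ i ih =>
      intro s u h
      rw [pow_succ', Matrix.mul_apply]
      refine Finset.sum_eq_zero fun x _ => ?_
      by_cases hx : (s : ℕ) ≤ x
      · rw [hlow s x hx, zero_mul]
      · rw [ih x u (by omega), mul_zero]
  rw [key a s u (by omega), Matrix.zero_apply]

section JordanType

variable {t : ℕ} {d : Fin t → ℕ}

/-- A block of a matrix on `Σ k, Fin (d k)`. -/
def blk (X : Matrix ((k : Fin t) × Fin (d k)) ((k : Fin t) × Fin (d k)) K) (k l : Fin t) :
    Matrix (Fin (d k)) (Fin (d l)) K := Matrix.of fun s u => X ⟨k, s⟩ ⟨l, u⟩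

theorem blk_apply (X : Matrix ((k : Fin t) × Fin (d k)) ((k : Fin t) × Fin (d k)) K) (k l : Fin t)
    (s : Fin (d k)) (u : Fin (d l)) : blk X k l s u = X ⟨k, s⟩ ⟨l, u⟩ := rfl

theorem blk_blockDiagonal_mul (D : ∀ k, Matrix (Fin (d k)) (Fin (d k)) K)
    (X : Matrix ((k : Fin t) × Fin (d k)) ((k : Fin t) × Fin (d k)) K) (k l : Fin t) :
    blk (blockDiagonal' D * X) k l = D k * blk X k l := by
  ext s u
  rw [blk_apply, Matrix.mul_apply, Matrix.mul_apply, Fintype.sum_sigma, Finset.sum_eq_single k]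
  · exact Finset.sum_congr rfl fun x _ => by rw [blockDiagonal'_apply_eq, blk_apply]
  · intro m _ hm
    exact Finset.sum_eq_zero fun x _ => by rw [blockDiagonal'_apply_ne D _ _ hm.symm, zero_mul]
  · intro h; exact absurd (Finset.mem_univ _) h

theorem blk_mul_blockDiagonal (D : ∀ k, Matrix (Fin (d k)) (Fin (d k)) K)
    (X : Matrix ((k : Fin t) × Fin (d k)) ((k : Fin t) × Fin (d k)) K) (k l : Fin t) :
    blk (X * blockDiagonal' D) k l = blk X k l * D l := by
  ext s u
  rw [blk_apply, Matrix.mul_apply, Matrix.mul_apply, Fintype.sum_sigma, Finset.sum_eq_single l]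
  · exact Finset.sum_congr rfl fun x _ => by rw [blockDiagonal'_apply_eq, blk_apply]
  · intro m _ hm
    exact Finset.sum_eq_zero fun x _ => by rw [blockDiagonal'_apply_ne D _ _ hm, mul_zero]
  · intro h; exact absurd (Finset.mem_univ _) h

theorem ext_blk {X Y : Matrix ((k : Fin t) × Fin (d k)) ((k : Fin t) × Fin (d k)) K}
    (h : ∀ k l, blk X k l = blk Y k l) : X = Y := by
  ext ⟨k, s⟩ ⟨l, u⟩
  exact congrFun (congrFun (h k l) s) u

theorem blk_intertwine {X : Matrix ((k : Fin t) × Fin (d k)) ((k : Fin t) × Fin (d k)) K}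
    (hX : Cfsg.jordanTypeMatrix d K * X = X * Cfsg.jordanTypeMatrix d K) (k l : Fin t) :
    Cfsg.jordanBlock (d k) K * blk X k l = blk X k l * Cfsg.jordanBlock (d l) K := by
  have h := congrArg (fun Z => blk Z k l) hX
  simp only [Cfsg.jordanTypeMatrix, blk_blockDiagonal_mul, blk_mul_blockDiagonal] at h
  exact h

variable (hd : ∀ k, 1 ≤ d k)

/-- The corner of the block `(k, l)`. -/
def corner (X : Matrix ((k : Fin t) × Fin (d k)) ((k : Fin t) × Fin (d k)) K) (k l : Fin t) : K :=
  X ⟨k, ⟨0, hd k⟩⟩ ⟨l, ⟨0, hd l⟩⟩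

theorem corner_mul {X : Matrix ((k : Fin t) × Fin (d k)) ((k : Fin t) × Fin (d k)) K}
    (hX : Cfsg.jordanTypeMatrix d K * X = X * Cfsg.jordanTypeMatrix d K)
    (Y : Matrix ((k : Fin t) × Fin (d k)) ((k : Fin t) × Fin (d k)) K) (k l : Fin t) :
    corner hd (X * Y) k l = ∑ m, corner hd X k m * corner hd Y m l := by
  rw [corner, Matrix.mul_apply, Fintype.sum_sigma]
  refine Finset.sum_congr rfl fun m _ => ?_
  rw [Finset.sum_eq_single ⟨0, hd m⟩]
  · rfl
  · intro x _ hx
    rw [← blk_apply X, row_zero_eq_zero (blk_intertwine hX k m) (hd k) x (fun e => hx (Fin.ext e)), zero_mul]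
  · intro h; exact absurd (Finset.mem_univ _) h

theorem corner_eq_zero_of_lt {X : Matrix ((k : Fin t) × Fin (d k)) ((k : Fin t) × Fin (d k)) K}
    (hX : Cfsg.jordanTypeMatrix d K * X = X * Cfsg.jordanTypeMatrix d K) {k l : Fin t} (h : d l < d k) :
    corner hd X k l = 0 := by
  rw [corner, ← blk_apply X]
  exact (eq_toeplitz (hd l) (blk_intertwine hX k l)).2 ⟨0, hd k⟩ (by simpa using h)

theorem isNilpotent_of_corner {X : Matrix ((k : Fin t) × Fin (d k)) ((k : Fin t) × Fin (d k)) K}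
    (hX : Cfsg.jordanTypeMatrix d K * X = X * Cfsg.jordanTypeMatrix d K)
    (h0 : ∀ k l, d k = d l → corner hd X k l = 0) : IsNilpotent X := by
  classical
  set m := Finset.univ.sup d
  have hdm : ∀ k, d k ≤ m := fun k => Finset.le_sup (Finset.mem_univ k)
  let w : (k : Fin t) × Fin (d k) → ℕ := fun x => (x.2 : ℕ) * (m + 1) + (m - d x.1)
  have hup : ∀ x y, w x ≤ w y → X x y = 0 := by
    rintro ⟨k, s⟩ ⟨l, u⟩ hw
    simp only [w] at hw
    rw [← blk_apply X, (eq_toeplitz (hd l) (blk_intertwine hX k l)).1, toeplitz_apply]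
    split_ifs with hsu
    · rcases Nat.lt_or_ge (u : ℕ) s with hlt | hge
      · exfalso
        have h1 : ((u : ℕ) + 1) * (m + 1) ≤ (s : ℕ) * (m + 1) := Nat.mul_le_mul_right _ hlt
        rw [add_one_mul] at h1
        omega
      · have hs : (s : ℕ) = u := le_antisymm hge hsu
        rw [hs] at hw
        have hle : d l ≤ d k := by have := hdm k; have := hdm l; omega
        rw [blk_apply]
        have e : (⟨(s : ℕ) - u, by omega⟩ : Fin (d k)) = ⟨0, hd k⟩ := Fin.ext (by simp only; omega)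
        rw [e]
        rcases eq_or_lt_of_le hle with he | hlt
        · exact h0 k l he.symm
        · exact corner_eq_zero_of_lt hd hX hlt
    · rfl
  obtain ⟨M, hM⟩ : ∃ M, ∀ x, w x < M := ⟨Finset.univ.sup w + 1, fun x =>
    Nat.lt_succ_of_le (Finset.le_sup (Finset.mem_univ x))⟩
  refine ⟨M, Matrix.ext fun x y => ?_⟩
  have key : ∀ (i : ℕ) x y, w x < w y + i → (X ^ i) x y = 0 := by
    intro i
    induction i with
    | zero => intro x y h; simp [Matrix.one_apply, show x ≠ y from fun e => by simp [e] at h]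
    | succ i ih =>
      intro x y h
      rw [pow_succ', Matrix.mul_apply]
      refine Finset.sum_eq_zero fun z _ => ?_
      by_cases hz : w x ≤ w z
      · rw [hup x z hz, zero_mul]
      · rw [ih z y (by omega), mul_zero]
  rw [key M x y (by have := hM x; omega), Matrix.zero_apply]

/-- The free coordinates of the commutant. -/
abbrev Free (d : Fin t → ℕ) : Type :=
  {p : ((k : Fin t) × Fin (d k)) × Fin t // d p.1.1 ≤ (p.1.2 : ℕ) + d p.2}

/-- The commutant element with given free coordinates. -/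
def ofFree (c : Free d → K) : Matrix ((k : Fin t) × Fin (d k)) ((k : Fin t) × Fin (d k)) K :=
  Matrix.of fun x y =>
    toeplitz (fun s => if h : d x.1 ≤ (s : ℕ) + d y.1 then c ⟨(⟨x.1, s⟩, y.1), h⟩ else 0) x.2 y.2

theorem blk_ofFree (c : Free d → K) (k l : Fin t) :
    blk (ofFree c) k l
      = toeplitz (fun s => if h : d k ≤ (s : ℕ) + d l then c ⟨(⟨k, s⟩, l), h⟩ else 0) := rfl

theorem ofFree_intertwine (c : Free d → K) :
    Cfsg.jordanTypeMatrix d K * ofFree c = ofFree c * Cfsg.jordanTypeMatrix d K := by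
  refine ext_blk fun k l => ?_
  rw [Cfsg.jordanTypeMatrix, blk_blockDiagonal_mul, blk_mul_blockDiagonal, blk_ofFree]
  exact jordanBlock_mul_toeplitz _ fun s hs => dif_neg (by omega)

/-- The commutant of a Jordan type matrix as a coordinate space. -/
def commutantEquiv : {X : Matrix ((k : Fin t) × Fin (d k)) ((k : Fin t) × Fin (d k)) K //
    Cfsg.jordanTypeMatrix d K * X = X * Cfsg.jordanTypeMatrix d K} ≃ (Free d → K) where
  toFun X := fun p => X.1 p.1.1 ⟨p.1.2, ⟨0, hd p.1.2⟩⟩
  invFun c := ⟨ofFree c, ofFree_intertwine c⟩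
  left_inv X := Subtype.ext (ext_blk fun k l => by
    obtain ⟨h1, h2⟩ := eq_toeplitz (hd l) (blk_intertwine X.2 k l)
    rw [blk_ofFree]
    conv_rhs => rw [h1]
    refine congrArg toeplitz (funext fun s => ?_)
    split_ifs with h
    · rfl
    · exact (h2 s (by omega)).symm)
  right_inv c := funext fun p => by
    show ofFree c p.1.1 ⟨p.1.2, ⟨0, hd p.1.2⟩⟩ = c p
    rw [ofFree, Matrix.of_apply, toeplitz_apply, if_pos (Nat.zero_le _)]
    simp only [Nat.sub_zero]
    rw [dif_pos p.2]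

include hd in
theorem natCard_free : Nat.card (Free d) = ∑ k, ∑ l, min (d k) (d l) := by
  classical
  let e : Free d ≃ (x : Fin t × Fin t) × {s : Fin (d x.1) // d x.1 ≤ (s : ℕ) + d x.2} :=
    { toFun := fun p => ⟨(p.1.1.1, p.1.2), p.1.1.2, p.2⟩
      invFun := fun p => ⟨(⟨p.1.1, p.2.1⟩, p.1.2), p.2.2⟩
      left_inv := fun p => rfl
      right_inv := fun p => rfl }
  rw [Nat.card_congr e, Nat.card_sigma, Fintype.sum_prod_type]
  refine Finset.sum_congr rfl fun k _ => Finset.sum_congr rfl fun l _ => ?_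
  let f : {s : Fin (d k) // d k ≤ (s : ℕ) + d l} ≃ Fin (min (d k) (d l)) :=
    { toFun := fun s => ⟨d k - 1 - (s.1 : ℕ), by have := s.1.2; have := s.2; omega⟩
      invFun := fun i => ⟨⟨d k - 1 - (i : ℕ), by have := hd k; omega⟩, by
        have := i.2; simp only; omega⟩
      left_inv := fun s => Subtype.ext (Fin.ext (by have := s.1.2; simp only; omega))
      right_inv := fun i => Fin.ext (by have := i.2; simp only; omega) }
  exact (Nat.card_congr f).trans (Nat.card_fin _)

end JordanType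

end Cfsg.Agent.Lib.FormConj
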