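import Mathlib
import Cfsg.Agent.Lib.FormConj.JordanBlocks

/-!
The centraliser in `GL` of a Jordan type matrix.
-/

set_option autoImplicit false

namespace Cfsg.Agent.Lib.FormConj

open Matrix
open scoped MatrixGroups

/-- `Σ min(d_k, d_l)` through multiplicities. -/
theorem sum_min_eq {t : ℕ} {d : Fin t → ℕ} (hd : ∀ k, 1 ≤ d k) :
    ∑ k, ∑ l, min (d k) (d l)
      = 2 * (∑ i ∈ Finset.range (Finset.univ.sup d + 1), ∑ j ∈ Finset.range (Finset.univ.sup d + 1),
          if i < j then i * (Finset.univ.filter (fun k => d k = i)).card * (Finset.univ.filter (fun k => d k = j)).card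
          else 0)
        + ∑ i ∈ Finset.range (Finset.univ.sup d + 1), (i - 1) * (Finset.univ.filter (fun k => d k = i)).card ^ 2
        + ∑ i ∈ Finset.range (Finset.univ.sup d + 1), (Finset.univ.filter (fun k => d k = i)).card ^ 2 := by
  classical
  set rg := Finset.range (Finset.univ.sup d + 1) with hrg
  set a : ℕ → ℕ := fun i => (Finset.univ.filter (fun k : Fin t => d k = i)).card with ha
  have hfibre : ∀ f : ℕ → ℕ, ∑ k, f (d k) = ∑ i ∈ rg, a i * f i := fun f => by
    rw [← Finset.sum_fiberwise_of_maps_to (g := d) (t := rg)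
      (fun k _ => Finset.mem_range.2 (Nat.lt_succ_of_le (Finset.le_sup (Finset.mem_univ k))))]
    refine Finset.sum_congr rfl fun i _ => ?_
    rw [Finset.sum_congr rfl (fun k hk => congrArg f (Finset.mem_filter.1 hk).2), Finset.sum_const, smul_eq_mul]
  have ha0 : a 0 = 0 := Finset.card_eq_zero.2 (Finset.filter_eq_empty_iff.2 fun k _ h => by have := hd k; omega)
  set γ := 2 * (∑ i ∈ rg, ∑ j ∈ rg, if i < j then i * a i * a j else 0) + ∑ i ∈ rg, (i - 1) * a i ^ 2 with hγ
  show _ = γ + ∑ i ∈ rg, a i ^ 2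
  rw [hfibre (fun i => ∑ l, min i (d l))]
  rw [Finset.sum_congr rfl fun i _ => congrArg (a i * ·) (hfibre (fun j => min i j))]
  simp only [Finset.mul_sum]
  have h3 : ∀ i ∈ rg, ∀ j ∈ rg, a i * (a j * min i j) = (if i < j then i * a i * a j else 0)
      + (if j < i then j * a j * a i else 0) + (if i = j then i * a i ^ 2 else 0) := by
    intro i _ j _
    rcases lt_trichotomy i j with h | rfl | h
    · rw [if_pos h, if_neg h.not_gt, if_neg h.ne, min_eq_left h.le]; ring
    · rw [if_neg (lt_irrefl _), if_pos rfl, min_self]; ring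
    · rw [if_neg h.not_gt, if_pos h, if_neg h.ne', min_eq_right h.le]; ring
  rw [Finset.sum_congr rfl fun i hi => Finset.sum_congr rfl (h3 i hi)]
  simp only [Finset.sum_add_distrib]
  rw [Finset.sum_comm (s := rg) (t := rg) (f := fun i j => (if j < i then j * a j * a i else 0 : ℕ))]
  rw [hγ, add_assoc _ (∑ i ∈ rg, (i - 1) * a i ^ 2) (∑ i ∈ rg, a i ^ 2), two_mul]
  rw [Nat.add_left_cancel_iff, ← Finset.sum_add_distrib]
  refine Finset.sum_congr rfl fun i hi => ?_
  rw [Finset.sum_ite_eq rg i, if_pos hi]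
  rcases i with _ | i
  · simp [ha0]
  · rw [Nat.add_sub_cancel]; ring

/-- Units through a surjection with nil kernel. -/
theorem natCard_units_of_nil {A B : Type*} [Ring A] [Finite A] [Ring B] [Finite B] (π : A →+* B)
    (hπ : Function.Surjective π) (hnil : ∀ x, π x = 0 → IsNilpotent x) :
    Nat.card Aˣ * Nat.card B = Nat.card Bˣ * Nat.card A := by
  choose sec hsec using hπ
  have hunit : ∀ b : Bˣ, IsUnit (sec b) := fun b => by
    have h : IsUnit (sec (b : B) * sec (↑b⁻¹ : B)) := by
      have := (hnil (sec (b : B) * sec (↑b⁻¹ : B) - 1) (by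
        rw [map_sub, map_mul, hsec, hsec, Units.mul_inv, map_one, sub_self])).isUnit_one_add
      rwa [add_sub_cancel] at this
    obtain ⟨w, hw⟩ := h
    exact ⟨⟨sec b, sec (↑b⁻¹ : B) * ↑w⁻¹, by rw [← mul_assoc, ← hw, Units.mul_inv],
      mul_eq_one_comm.mp (by rw [← mul_assoc, ← hw, Units.mul_inv])⟩, rfl⟩
  let N := {x : A // π x = 0}
  choose lft hlft using hunit
  let e₁ : Aˣ ≃ Bˣ × N :=
    { toFun := fun u =>
        let b : Bˣ := Units.map π.toMonoidHom u
        (b, ⟨(u : A) * ↑(lft b)⁻¹ - 1, by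
          have h : π (↑(lft b)⁻¹ : A) * π (lft b : A) = 1 := by rw [← map_mul, Units.inv_mul, map_one]
          rw [hlft, hsec] at h
          rw [map_sub, map_mul, map_one, show π (u : A) = (b : B) from rfl, mul_eq_one_comm.mp h, sub_self]⟩)
      invFun := fun p => (hnil p.2.1 p.2.2).isUnit_one_add.unit * lft p.1
      left_inv := fun u => Units.ext (by
        dsimp only
        rw [Units.val_mul, IsUnit.unit_spec, add_sub_cancel, Units.inv_mul_cancel_right])
      right_inv := fun p => by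
        have hb : Units.map π.toMonoidHom ((hnil p.2.1 p.2.2).isUnit_one_add.unit * lft p.1) = p.1 := Units.ext (by
          show π (((hnil p.2.1 p.2.2).isUnit_one_add.unit * lft p.1 : Aˣ) : A) = _
          rw [Units.val_mul, IsUnit.unit_spec, map_mul, map_add, map_one, p.2.2, add_zero, one_mul, hlft, hsec])
        refine Prod.ext hb (Subtype.ext ?_)
        dsimp only
        rw [hb, Units.val_mul, Units.mul_inv_cancel_right, IsUnit.unit_spec, add_sub_cancel_left] }
  let e₂ : A ≃ B × N :=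
    { toFun := fun x => (π x, ⟨x - sec (π x), by rw [map_sub, hsec, sub_self]⟩)
      invFun := fun p => sec p.1 + p.2.1
      left_inv := fun x => add_sub_cancel _ _
      right_inv := fun p => by
        have e : π (sec p.1 + p.2.1) = p.1 := by rw [map_add, hsec, p.2.2, add_zero]
        exact Prod.ext e (Subtype.ext (by simp [e])) }
  rw [Nat.card_congr e₁, Nat.card_congr e₂, Nat.card_prod, Nat.card_prod]
  ring

/-- The order of the centraliser in `GL` of a Jordan type matrix. -/
theorem natCard_gl_centralizer_jordan {F : Type*} [Field F] [Fintype F] {q : ℕ} (hF : Fintype.card F = q) {t : ℕ}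
    {d : Fin t → ℕ} (hd : ∀ k, 1 ≤ d k) :
    Nat.card {g : GL ((k : Fin t) × Fin (d k)) F // (g : Matrix ((k : Fin t) × Fin (d k)) ((k : Fin t) × Fin (d k)) F)
        * Cfsg.jordanTypeMatrix d F
        = Cfsg.jordanTypeMatrix d F * (g : Matrix ((k : Fin t) × Fin (d k)) ((k : Fin t) × Fin (d k)) F)}
      = q ^ (2 * (∑ i ∈ Finset.range (Finset.univ.sup d + 1), ∑ j ∈ Finset.range (Finset.univ.sup d + 1),
            if i < j then i * (Finset.univ.filter (fun k : Fin t => d k = i)).card
              * (Finset.univ.filter (fun k : Fin t => d k = j)).card else 0)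
          + ∑ i ∈ Finset.range (Finset.univ.sup d + 1), (i - 1) * (Finset.univ.filter (fun k : Fin t => d k = i)).card ^ 2)
        * ∏ i ∈ Finset.range (Finset.univ.sup d + 1), ∏ j : Fin ((Finset.univ.filter (fun k : Fin t => d k = i)).card),
            (q ^ (Finset.univ.filter (fun k : Fin t => d k = i)).card - q ^ (j : ℕ)) := by
  classical
  let A : Subring (Matrix ((k : Fin t) × Fin (d k)) ((k : Fin t) × Fin (d k)) F) :=
    Subring.centralizer {Cfsg.jordanTypeMatrix d F}
  have hA : ∀ M, M ∈ A ↔ Cfsg.jordanTypeMatrix d F * M = M * Cfsg.jordanTypeMatrix d F := fun M => by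
    rw [Subring.mem_centralizer_iff]
    exact ⟨fun h => h _ rfl, fun h x hx => by rw [Set.mem_singleton_iff.1 hx]; exact h⟩
  let Fib : Fin (Finset.univ.sup d + 1) → Type := fun i => {k : Fin t // d k = (i : ℕ)}
  let π : A →+* ((i : Fin (Finset.univ.sup d + 1)) → Matrix (Fib i) (Fib i) F) :=
    { toFun := fun M i => Matrix.of fun k l => corner hd M.1 k.1 l.1
      map_one' := by
        funext i
        ext k l
        show corner hd (1 : Matrix ((k : Fin t) × Fin (d k)) ((k : Fin t) × Fin (d k)) F) k.1 l.1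
          = (1 : Matrix (Fib i) (Fib i) F) k l
        rw [corner, Matrix.one_apply, Matrix.one_apply]
        by_cases h : k = l
        · subst h; simp
        · rw [if_neg h, if_neg (fun e => h (Subtype.ext (congrArg Sigma.fst e)))]
      map_mul' := fun M N => by
        funext i
        ext k l
        show corner hd (M.1 * N.1) k.1 l.1 = ∑ m : Fib i, corner hd M.1 k.1 m.1 * corner hd N.1 m.1 l.1
        rw [corner_mul hd ((hA _).1 M.2)]
        rw [← Finset.sum_filter_add_sum_filter_not Finset.univ (fun m => d m = (i : ℕ)),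
          Finset.sum_subtype (p := fun m => d m = (i : ℕ)) _ (fun m => by simp)]
        refine (congrArg₂ _ rfl (Finset.sum_eq_zero fun m hm => ?_)).trans (add_zero _)
        have hm' : d m ≠ (i : ℕ) := (Finset.mem_filter.1 hm).2
        rcases Nat.lt_or_gt_of_ne hm' with h | h
        · rw [corner_eq_zero_of_lt hd ((hA _).1 M.2) (h.trans_eq k.2.symm), zero_mul]
        · rw [corner_eq_zero_of_lt hd ((hA _).1 N.2) (lt_of_eq_of_lt l.2 h), mul_zero]
      map_zero' := by funext i; ext k l; rfl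
      map_add' := fun M N => by funext i; ext k l; rfl }
  have hk : ∀ k, d k < Finset.univ.sup d + 1 := fun k => Nat.lt_succ_of_le (Finset.le_sup (Finset.mem_univ k))
  have hπapp : ∀ (M : A) i (k l : Fib i), π M i k l = corner hd M.1 k.1 l.1 := fun _ _ _ _ => rfl
  have hnil : ∀ x, π x = 0 → IsNilpotent x := by
    intro x hx
    obtain ⟨N, hN⟩ := isNilpotent_of_corner hd ((hA _).1 x.2) (fun k l h =>
      (hπapp x ⟨d k, hk k⟩ ⟨k, rfl⟩ ⟨l, h.symm⟩).symm.trans (by rw [hx]; rfl))
    exact ⟨N, Subtype.ext (by rw [SubmonoidClass.coe_pow]; exact hN)⟩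
  have hsurj : Function.Surjective π := by
    intro b
    let c : Free d → F := fun p => if h : (p.1.1.2 : ℕ) = 0 ∧ d p.1.2 = d p.1.1.1 then
      b ⟨d p.1.1.1, hk _⟩ ⟨p.1.1.1, rfl⟩ ⟨p.1.2, h.2⟩ else 0
    refine ⟨⟨ofFree c, (hA _).2 (ofFree_intertwine c)⟩, ?_⟩
    funext i
    ext ⟨k, hki⟩ ⟨l, hli⟩
    rw [hπapp]
    show ofFree c ⟨k, ⟨0, hd k⟩⟩ ⟨l, ⟨0, hd l⟩⟩ = _
    rw [ofFree, Matrix.of_apply, toeplitz_apply, if_pos (Nat.zero_le _), dif_pos (show d k ≤ 0 - 0 + d l by omega)]
    show dite _ _ _ = _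
    rw [dif_pos ⟨rfl, hli.trans hki.symm⟩]
    have hbb : ∀ (i j : Fin (Finset.univ.sup d + 1)) (k₁ l₁ : Fib i) (k₂ l₂ : Fib j), i = j → k₁.1 = k₂.1 →
        l₁.1 = l₂.1 → b i k₁ l₁ = b j k₂ l₂ := by
      rintro i j k₁ l₁ k₂ l₂ rfl h1 h2
      rw [Subtype.ext h1, Subtype.ext h2]
    exact hbb _ _ _ _ _ _ (Fin.ext hki) rfl rfl
  have hmain := natCard_units_of_nil π hsurj hnil
  have hq : Nat.card F = q := by rw [Nat.card_eq_fintype_card, hF]
  have hfib : ∀ i : Fin (Finset.univ.sup d + 1),
      Fintype.card (Fib i) = (Finset.univ.filter (fun k => d k = (i : ℕ))).card := fun i => Fintype.card_subtype _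
  have hcardA : Nat.card A = q ^ (∑ k, ∑ l, min (d k) (d l)) := by
    rw [Nat.card_congr ((Equiv.subtypeEquivRight hA).trans (commutantEquiv hd)), Nat.card_fun, hq, natCard_free hd]
  have hcardB : Nat.card ((i : Fin (Finset.univ.sup d + 1)) → Matrix (Fib i) (Fib i) F)
      = q ^ (∑ i ∈ Finset.range (Finset.univ.sup d + 1), (Finset.univ.filter (fun k => d k = i)).card ^ 2) := by
    rw [Nat.card_pi, ← Finset.prod_pow_eq_pow_sum, ← Fin.prod_univ_eq_prod_range]
    refine Finset.prod_congr rfl fun i _ => ?_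
    rw [show Nat.card (Matrix (Fib i) (Fib i) F) = Nat.card (Fib i → Fib i → F) from rfl, Nat.card_fun, Nat.card_fun,
      hq, Nat.card_eq_fintype_card, ← hfib, ← pow_mul q (Fintype.card (Fib i)), ← sq]
  have hcardBu : Nat.card ((i : Fin (Finset.univ.sup d + 1)) → Matrix (Fib i) (Fib i) F)ˣ
      = ∏ i ∈ Finset.range (Finset.univ.sup d + 1), ∏ j : Fin ((Finset.univ.filter (fun k : Fin t => d k = i)).card),
            (q ^ (Finset.univ.filter (fun k : Fin t => d k = i)).card - q ^ (j : ℕ)) := by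
    rw [Nat.card_congr MulEquiv.piUnits.toEquiv, Nat.card_pi, ← Fin.prod_univ_eq_prod_range]
    refine Finset.prod_congr rfl fun i _ => ?_
    rw [← hfib, Nat.card_congr (Units.mapEquiv (Matrix.reindexAlgEquiv F F (Fintype.equivFin (Fib i))).toMulEquiv).toEquiv,
      show Nat.card (Matrix (Fin (Fintype.card (Fib i))) (Fin (Fintype.card (Fib i))) F)ˣ
        = Nat.card (GL (Fin (Fintype.card (Fib i))) F) from rfl, Matrix.card_GL_field, hF]
  have e : {g : GL ((k : Fin t) × Fin (d k)) F // (g : Matrix ((k : Fin t) × Fin (d k)) ((k : Fin t) × Fin (d k)) F)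
        * Cfsg.jordanTypeMatrix d F
        = Cfsg.jordanTypeMatrix d F * (g : Matrix ((k : Fin t) × Fin (d k)) ((k : Fin t) × Fin (d k)) F)} ≃ Aˣ :=
    { toFun := fun g => ⟨⟨_, (hA _).2 g.2.symm⟩, ⟨_, (hA _).2 ((show Commute (Cfsg.jordanTypeMatrix d F)
          (g.1 : Matrix ((k : Fin t) × Fin (d k)) ((k : Fin t) × Fin (d k)) F) from g.2.symm).units_inv_right).eq⟩,
        Subtype.ext g.1.mul_inv, Subtype.ext g.1.inv_mul⟩
      invFun := fun u => ⟨⟨u.1.1, u⁻¹.1.1, congrArg Subtype.val u.mul_inv, congrArg Subtype.val u.inv_mul⟩,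
        ((hA _).1 u.1.2).symm⟩
      left_inv := fun g => Subtype.ext (Units.ext rfl)
      right_inv := fun u => Units.ext rfl }
  rw [hcardA, hcardB, hcardBu, sum_min_eq hd, pow_add] at hmain
  rw [Nat.card_congr e]
  have hq0 : 0 < q := hF ▸ Fintype.card_pos
  refine Nat.eq_of_mul_eq_mul_right (pow_pos hq0 _) (hmain.trans ?_)
  ring

end Cfsg.Agent.Lib.FormConj
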