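import Mathlib
import Cfsg.Agent.Lib.InvolutionTwo.Classify
import Cfsg.Agent.Lib.Classical.Symplectic
import Cfsg.Agent.Lib.Classical.ConjForms.AltUnique

/-!
The centraliser of a standard involution `x ↦ x + Σ B(r_{π i}, x) r_i` among the isometries of an
alternating form in characteristic two, in coordinates `(a, u, e)` adapted to the frame.
-/

set_option autoImplicit false

namespace Cfsg.Agent.Lib.FormConj.InvCentraliser

open InvolutionTwo Classical

variable {F V : Type*} [Field F] [AddCommGroup V] [Module F V] [FiniteDimensional F V]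

/-! ### The order of a symplectic group in abstract form -/

theorem natCard_sympIso [Finite F] {B : LinearMap.BilinForm F V} (h : IsSympForm B) {k : ℕ}
    (hk : Module.finrank F V = k + k) :
    Nat.card (biIsoGroup (F := F) (fun u v : V => B u v)) =
      Nat.card F ^ (k ^ 2) * ∏ i ∈ Finset.range k, (Nat.card F ^ (2 * (i + 1)) - 1) := by
  obtain ⟨k', e, f, hfr, hk'⟩ := ConjForms.exists_full_frame_finrank (B := B) h.alt h.nondeg
  obtain rfl : k' = k := by omega
  let b := SympInv.frameBasis h.alt hfr hk'
  have key : ∀ u v, stdSymp k' (b.equivFun u) (b.equivFun v) = ((-1 : Fˣ) : F) * B u v := by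
    have e1 : (stdSymp (F := F) k').compl₁₂ b.equivFun.toLinearMap b.equivFun.toLinearMap
        = -B := by
      refine LinearMap.ext_basis b b fun i j => ?_
      rw [LinearMap.compl₁₂_apply, LinearEquiv.coe_coe,
        show b.equivFun (b i) = Pi.single i (1 : F) from
          funext fun a => by rw [Module.Basis.equivFun_self]; simp [Pi.single_apply, eq_comm],
        show b.equivFun (b j) = Pi.single j (1 : F) from
          funext fun a => by rw [Module.Basis.equivFun_self]; simp [Pi.single_apply, eq_comm],
        stdSymp_apply, sympFn_eq, LinearMap.neg_apply, LinearMap.neg_apply]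
      rw [show ⇑b = Sum.elim e f from SympInv.coe_frameBasis _ _ _]
      rcases i with i | i <;> rcases j with j | j
      · simp [hfr.ee]
      · by_cases e2 : i = j
        · subst e2; simp [hfr.ef, Pi.single_apply]
        · simp [hfr.ef, Pi.single_apply, e2, Ne.symm e2]
      · rw [Sum.elim_inr, Sum.elim_inl, h.flip, hfr.ef]
        by_cases e2 : j = i
        · subst e2; simp [Pi.single_apply]
        · simp [Pi.single_apply, e2, Ne.symm e2]
      · simp [hfr.ff]
    intro u v
    rw [Units.val_neg, Units.val_one, neg_one_mul]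
    exact LinearMap.congr_fun (LinearMap.congr_fun e1 u) v
  rw [Nat.card_congr (biIsoGroupCongr (B := fun u v : V => B u v)
    (B' := sympFn k' F) b.equivFun (-1) (fun u v => by rw [← stdSymp_apply]; exact key u v)).toEquiv,
    ← Nat.card_congr (symplecticGroupEquiv k').toEquiv, natCard_symplecticGroup]

/-! ### Matrices preserving a Gram matrix -/

theorem natCard_matrix_iso {κ : Type} [Fintype κ] [DecidableEq κ] (J : Matrix κ κ F) (hJ : J.det ≠ 0) :
    Nat.card {M : Matrix κ κ F // M.transpose * J * M = J}
      = Nat.card (biIsoGroup (F := F) (fun u v : κ → F => dotProduct u (Matrix.mulVec J v))) := by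
  have hdet : ∀ M : Matrix κ κ F, M.transpose * J * M = J → M.det ≠ 0 := fun M h h0 => by
    have := congrArg Matrix.det h
    rw [Matrix.det_mul, h0, mul_zero] at this
    exact hJ this.symm
  have hiff : ∀ M : Matrix κ κ F, M.transpose * J * M = J ↔
      ∀ u v, dotProduct (Matrix.mulVec M u) (Matrix.mulVec J (Matrix.mulVec M v))
        = dotProduct u (Matrix.mulVec J v) := by
    intro M
    have e : ∀ u v, dotProduct (Matrix.mulVec M u) (Matrix.mulVec J (Matrix.mulVec M v))
        = dotProduct u (Matrix.mulVec (M.transpose * J * M) v) := fun u v => by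
      rw [Matrix.mul_assoc, ← Matrix.mulVec_mulVec, ← Matrix.mulVec_mulVec,
        Matrix.dotProduct_mulVec u, Matrix.vecMul_transpose]
    constructor
    · intro h u v; rw [e, h]
    · intro h
      ext i j
      have := h (Pi.single i 1) (Pi.single j 1)
      rw [e] at this
      simpa using this
  refine Nat.card_congr (Equiv.ofBijective (fun M => ⟨LinearEquiv.ofInjectiveEndo (Matrix.toLin' M.1)
    (fun u v huv => Matrix.mulVec_injective_iff_isUnit.2
      ((Matrix.isUnit_iff_isUnit_det M.1).2 (IsUnit.mk0 _ (hdet M.1 M.2))) huv),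
    fun u v => (hiff M.1).1 M.2 u v⟩) ⟨?_, ?_⟩)
  · intro M M' h
    refine Subtype.ext (Matrix.toLin'.injective (LinearMap.ext fun v => ?_))
    exact congrArg (fun g : biIsoGroup (F := F) (fun u v : κ → F => dotProduct u (Matrix.mulVec J v)) =>
      g.1 v) h
  · rintro ⟨g, hg⟩
    have e : ∀ v, Matrix.mulVec (LinearMap.toMatrix' g.toLinearMap) v = g v := fun v => by
      rw [← Matrix.toLin'_apply, Matrix.toLin'_toMatrix']; rfl
    refine ⟨⟨LinearMap.toMatrix' g.toLinearMap, (hiff _).2 fun u v => ?_⟩,
      Subtype.ext (LinearEquiv.ext fun v => e v)⟩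
    rw [e, e]; exact hg u v

/-! ### Symmetrised matrices -/

/-- matrices with a prescribed symmetrisation are given by their entries on and above the diagonal -/
def symEquiv [CharP F 2] {s : ℕ} (G : Matrix (Fin s) (Fin s) F) (hG : ∀ i j, G i j = G j i)
    (hG0 : ∀ i, G i i = 0) :
    {S : Matrix (Fin s) (Fin s) F // ∀ i j, S i j + S j i = G i j} ≃
      ({p : Fin s × Fin s // p.1 ≤ p.2} → F) where
  toFun S p := S.1 p.1.1 p.1.2
  invFun f := ⟨Matrix.of fun i j =>
      if h : i ≤ j then f ⟨(i, j), h⟩ else G i j - f ⟨(j, i), (le_total i j).resolve_left h⟩,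
    fun i j => by
      rcases lt_trichotomy i j with h | h | h
      · simp [h.le, h.not_ge, hG j i]
      · subst h; simp [hG0, CharTwo.add_self_eq_zero]
      · simp [h.le, h.not_ge]⟩
  left_inv S := by
    refine Subtype.ext (Matrix.ext fun i j => ?_)
    by_cases h : i ≤ j
    · simp [h]
    · simp only [Matrix.of_apply, dif_neg h]
      rw [← S.2 i j]; ring
  right_inv f := funext fun p => by simp [p.2]

theorem natCard_symPairs (s : ℕ) :
    Nat.card {p : Fin s × Fin s // p.1 ≤ p.2} = (s + 1).choose 2 := by
  rw [← Nat.card_congr (Sym2.sortEquiv (α := Fin s)), Nat.card_eq_fintype_card, Sym2.card, Fintype.card_fin]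

/-! ### Coordinates -/

variable {B : LinearMap.BilinForm F V} {s : ℕ} {r d : Fin s → V} {ε : Bool} [CharP F 2]

/-- a dual family spanning an isotropic subspace -/
structure DualPair (B : LinearMap.BilinForm F V) (r d : Fin s → V) : Prop where
  iso : IsoFrame B r
  rd : ∀ i j, B (r i) (d j) = if i = j then 1 else 0
  dd : ∀ i j, B (d i) (d j) = 0

theorem exists_dualPair (hA : B.IsAlt) (hB : B.Nondegenerate) (h : IsoFrame B r) :
    ∃ d, DualPair B r d := by
  obtain ⟨d, hd⟩ := InvolutionTwo.exists_dual hB h.li
  let c : Fin s → Fin s → F := fun i j => if i < j then B (d i) (d j) else 0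
  have hd' : ∀ i j, B (d j) (r i) = if i = j then 1 else 0 := fun i j => by rw [bilin_symm hA, hd]
  refine ⟨fun j => d j + ∑ k, c k j • r k, h, fun i j => ?_, fun i j => ?_⟩
  · simp [map_sum, h.orth, hd]
  · simp only [map_add, map_sum, map_smul, LinearMap.add_apply, LinearMap.sum_apply,
      LinearMap.smul_apply, smul_eq_mul, hd, hd', h.orth, mul_zero, mul_ite, mul_one,
      Finset.sum_const_zero, add_zero, Finset.sum_ite_eq, Finset.sum_ite_eq', Finset.mem_univ, if_true]
    simp only [c]
    rcases lt_trichotomy i j with hij | hij | hij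
    · simp [hij, hij.not_gt, CharTwo.add_self_eq_zero]
    · subst hij; simp [hA.self_eq_zero]
    · simp [hij, hij.not_gt, bilin_symm hA (d j) (d i), CharTwo.add_self_eq_zero]

/-- the part of a vector orthogonal to `r` and `d` -/
def restMap (B : LinearMap.BilinForm F V) (r d : Fin s → V) : V →ₗ[F] V :=
  LinearMap.id + (∑ i, (B.flip (d i)).smulRight (r i) + ∑ i, (B.flip (r i)).smulRight (d i))

theorem restMap_apply (x : V) :
    restMap B r d x = x + (∑ i, B x (d i) • r i + ∑ i, B x (r i) • d i) := by
  simp [restMap]

/-- the orthogonal complement of the span of `r` and `d` -/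
def restSpace (B : LinearMap.BilinForm F V) (r d : Fin s → V) : Submodule F V where
  carrier := {x | ∀ i, B x (r i) = 0 ∧ B x (d i) = 0}
  add_mem' {x y} hx hy i := by simp [(hx i).1, (hx i).2, (hy i).1, (hy i).2]
  zero_mem' i := by simp
  smul_mem' c x hx i := by simp [(hx i).1, (hx i).2]

section Coordinates

variable (hA : B.IsAlt) (hp : DualPair B r d)
include hA hp

theorem restMap_mem (x : V) : restMap B r d x ∈ restSpace B r d := by
  have h1 : ∀ i j, B (d j) (r i) = if i = j then 1 else 0 := fun i j => by rw [bilin_symm hA, hp.rd]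
  intro i
  simp [restMap_apply, map_sum, LinearMap.sum_apply, h1, hp.rd, hp.dd, hp.iso.orth,
    CharTwo.add_self_eq_zero]

theorem decompose (x : V) :
    x = restMap B r d x + (∑ i, B x (d i) • r i + ∑ i, B x (r i) • d i) := by
  rw [restMap_apply, add_assoc, add_self_vec (K := F), add_zero]

theorem restMap_of_mem {x : V} (hx : x ∈ restSpace B r d) : restMap B r d x = x := by
  simp [restMap_apply, fun i => (hx i).1, fun i => (hx i).2]

theorem restMap_r (j : Fin s) : restMap B r d (r j) = 0 := by
  simp [restMap_apply, hp.iso.orth, hp.rd, add_self_vec (K := F)]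

theorem restMap_d (j : Fin s) : restMap B r d (d j) = 0 := by
  simp [restMap_apply, hp.dd, bilin_symm hA (d j), hp.rd, add_self_vec (K := F)]

theorem pairing (x y : V) : B x y = B (restMap B r d x) (restMap B r d y)
    + ∑ i, (B x (d i) * B y (r i) + B x (r i) * B y (d i)) := by
  conv_lhs => rw [decompose hA hp x]
  have hm := restMap_mem hA hp x
  have e1 : B (restMap B r d x) y = B (restMap B r d x) (restMap B r d y) := by
    conv_lhs => rw [decompose hA hp y]
    simp [map_sum, fun i => (hm i).1, fun i => (hm i).2]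
  simp only [map_add, map_sum, map_smul, LinearMap.add_apply, LinearMap.sum_apply, LinearMap.smul_apply,
    smul_eq_mul, e1, Finset.sum_add_distrib, bilin_symm hA (r _) y, bilin_symm hA (d _) y]

theorem isSympForm_rest (hB : B.Nondegenerate) :
    IsSympForm (B.restrict (restSpace B r d)) := by
  refine ⟨fun v => hA v.1, fun z hz => Subtype.ext (hB.1 _ fun y => ?_)⟩
  rw [pairing hA hp z.1 y, restMap_of_mem hA hp z.2]
  have := hz ⟨_, restMap_mem hA hp y⟩
  simpa [fun i => (z.2 i).1, fun i => (z.2 i).2] using this

/-- coordinates -/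
noncomputable def coordEquiv : V ≃ₗ[F] (Fin s → F) × (restSpace B r d) × (Fin s → F) :=
  LinearEquiv.ofBijective
    ((LinearMap.pi fun i => B.flip (d i)).prod
      (((restMap B r d).codRestrict _ (restMap_mem hA hp)).prod (LinearMap.pi fun i => B.flip (r i))))
    ⟨fun x y h => by
      have h1 : ∀ i, B x (d i) = B y (d i) := fun i => congrFun (congrArg Prod.fst h) i
      have h2 : restMap B r d x = restMap B r d y := congrArg Subtype.val (congrArg (fun p => p.2.1) h)
      have h3 : ∀ i, B x (r i) = B y (r i) := fun i => congrFun (congrArg (fun p => p.2.2) h) i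
      rw [decompose hA hp x, decompose hA hp y, h2]
      simp only [h1, h3],
    fun p => by
      obtain ⟨a, u, e⟩ := p
      refine ⟨(u : V) + (∑ i, a i • r i + ∑ i, e i • d i), ?_⟩
      have h1 : ∀ i j, B (d j) (r i) = if i = j then 1 else 0 := fun i j => by rw [bilin_symm hA, hp.rd]
      have ha : ∀ i, B ((u : V) + (∑ i, a i • r i + ∑ i, e i • d i)) (d i) = a i := fun i => by
        simp [map_sum, LinearMap.sum_apply, hp.rd, hp.dd, (u.2 i).2]
      have he : ∀ i, B ((u : V) + (∑ i, a i • r i + ∑ i, e i • d i)) (r i) = e i := fun i => by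
        simp [map_sum, LinearMap.sum_apply, hp.iso.orth, h1, (u.2 i).1]
      refine Prod.ext (funext ha) (Prod.ext (Subtype.ext ?_) (funext he))
      show restMap B r d _ = (u : V)
      rw [restMap_apply]
      simp only [ha, he]
      rw [add_assoc, add_self_vec (K := F), add_zero]⟩

theorem coordEquiv_apply (x : V) : coordEquiv hA hp x =
    (fun i => B x (d i), ⟨restMap B r d x, restMap_mem hA hp x⟩, fun i => B x (r i)) := rfl

theorem finrank_rest : Module.finrank F (restSpace B r d) + (s + s) = Module.finrank F V := by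
  rw [(coordEquiv hA hp).finrank_eq, Module.finrank_prod, Module.finrank_prod, Module.finrank_fin_fun]
  ring

end Coordinates

/-! ### The centraliser -/

/-- possible images of the dual family -/
def ValidImage (B : LinearMap.BilinForm F V) (ε : Bool) (r : Fin s → V) (D : Fin s → V) : Prop :=
  (∀ i j, B (D i) (D j) = 0) ∧
    ∀ i j, B (nilMap B ε r (D i)) (D j) = if j = typePerm ε i then 1 else 0

/-- isometries commuting with the nilpotent map -/
def centSet (B : LinearMap.BilinForm F V) (ε : Bool) (r : Fin s → V) : Type _ :=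
  {g : V ≃ₗ[F] V // (∀ x y, B (g x) (g y) = B x y) ∧
    ∀ x, g (nilMap B ε r x) = nilMap B ε r (g x)}

theorem nilMap_ker (hA : B.IsAlt) {x : V} (hx : x ∈ restSpace B r d) : nilMap B ε r x = 0 :=
  nilMap_eq_zero_of_perp fun i => by rw [bilin_symm hA]; exact (hx i).1

theorem nilMap_perp_rest {x y : V} (hy : y ∈ restSpace B r d) : B y (nilMap B ε r x) = 0 := by
  simp [nilMap_apply, map_sum, fun i => (hy i).1]

theorem nilMap_perp_nilMap (hA : B.IsAlt) (h : IsoFrame B r) (x y : V) :
    B (nilMap B ε r x) (nilMap B ε r y) = 0 := by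
  rw [nilMap_symm hA, h.nilMap_nilMap, map_zero]

/-- the element with prescribed images -/
noncomputable def imageMap (B : LinearMap.BilinForm F V) (ε : Bool) (r d : Fin s → V) (D : Fin s → V)
    (k : restSpace B r d →ₗ[F] V) (hm : ∀ x, restMap B r d x ∈ restSpace B r d) : V →ₗ[F] V :=
  k.comp ((restMap B r d).codRestrict _ hm) +
    (∑ i, ((B.flip (d i)) + (B.flip (D i)).comp (k.comp ((restMap B r d).codRestrict _ hm))).smulRight
        (nilMap B ε r (D (typePerm ε i))) +
      ∑ i, (B.flip (r i)).smulRight (D i))

theorem imageMap_apply (D : Fin s → V) (k : restSpace B r d →ₗ[F] V)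
    (hm : ∀ x, restMap B r d x ∈ restSpace B r d) (x : V) :
    imageMap B ε r d D k hm x = k ⟨restMap B r d x, hm x⟩ +
      (∑ i, (B x (d i) + B (k ⟨restMap B r d x, hm x⟩) (D i)) • nilMap B ε r (D (typePerm ε i))
        + ∑ i, B x (r i) • D i) := by
  simp [imageMap]
  rfl

variable (hA : B.IsAlt) (hB : B.Nondegenerate) (hp : DualPair B r d)

/-- `imageMap` as a linear map with data in the rest space -/
noncomputable def centMap (D : {D : Fin s → V // ValidImage B ε r D})
    (k : biIsoGroup (F := F) (fun u v : restSpace B r d => B.restrict (restSpace B r d) u v)) : V →ₗ[F] V :=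
  imageMap B ε r d D.1 ((restSpace B r d).subtype.comp k.1.toLinearMap) (restMap_mem hA hp)

section Cent

variable (D : {D : Fin s → V // ValidImage B ε r D})
  (k : biIsoGroup (F := F) (fun u v : restSpace B r d => B.restrict (restSpace B r d) u v))

theorem centMap_apply (x : V) : centMap hA hp D k x =
    (k.1 ⟨restMap B r d x, restMap_mem hA hp x⟩ : V) +
      (∑ i, (B x (d i) + B (k.1 ⟨restMap B r d x, restMap_mem hA hp x⟩ : V) (D.1 i)) •
          nilMap B ε r (D.1 (typePerm ε i))
        + ∑ i, B x (r i) • D.1 i) := imageMap_apply _ _ _ _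

theorem centMap_preserves (x y : V) : B (centMap hA hp D k x) (centMap hA hp D k y) = B x y := by
  obtain ⟨D, hD1, hD2⟩ := D
  have hND : ∀ i j, B (nilMap B ε r (D (typePerm ε i))) (D j) = if j = i then 1 else 0 := fun i j => by
    rw [hD2, typePerm_involutive ε i]
  have hDN : ∀ i j, B (D j) (nilMap B ε r (D (typePerm ε i))) = if j = i then 1 else 0 := fun i j => by
    rw [bilin_symm hA, hND]
  set u := k.1 ⟨restMap B r d x, restMap_mem hA hp x⟩ with hu
  set w := k.1 ⟨restMap B r d y, restMap_mem hA hp y⟩ with hw
  have hk : B (u : V) (w : V) = B (restMap B r d x) (restMap B r d y) :=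
    k.2 ⟨restMap B r d x, restMap_mem hA hp x⟩ ⟨restMap B r d y, restMap_mem hA hp y⟩
  have h1 : ∀ z, B (u : V) (nilMap B ε r z) = 0 := fun z => nilMap_perp_rest u.2
  have h2 : ∀ z, B (nilMap B ε r z) (w : V) = 0 := fun z => by
    rw [bilin_symm hA]; exact nilMap_perp_rest w.2
  rw [centMap_apply, centMap_apply, ← hu, ← hw, pairing hA hp x y]
  simp only [map_add, map_sum, map_smul, LinearMap.add_apply, LinearMap.sum_apply, LinearMap.smul_apply,
    smul_eq_mul, hk, h1, h2, nilMap_perp_nilMap hA hp.iso, hD1, hND, hDN, mul_zero, mul_ite, mul_one,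
    Finset.sum_const_zero, add_zero, zero_add, Finset.sum_ite_eq, Finset.sum_ite_eq', Finset.mem_univ,
    if_true, bilin_symm hA (D _) (w : V), Finset.sum_add_distrib, mul_add, add_mul, Finset.mul_sum]
  simp only [mul_comm (B y (r _)), mul_comm (B y (d _)), mul_comm (B (w : V) (D _))]
  linear_combination (∑ i, B x (r i) * B (w : V) (D i) + ∑ i, B (u : V) (D i) * B y (r i)) *
    (CharTwo.two_eq_zero (R := F))

theorem centMap_r (j : Fin s) : centMap hA hp D k (r j) = nilMap B ε r (D.1 (typePerm ε j)) := by
  have h0 : (⟨restMap B r d (r j), restMap_mem hA hp (r j)⟩ : restSpace B r d) = 0 :=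
    Subtype.ext (restMap_r hA hp j)
  rw [centMap_apply, h0, map_zero]
  simp [hp.rd, hp.iso.orth, ite_smul]

theorem centMap_d (j : Fin s) : centMap hA hp D k (d j) = D.1 j := by
  have h0 : (⟨restMap B r d (d j), restMap_mem hA hp (d j)⟩ : restSpace B r d) = 0 :=
    Subtype.ext (restMap_d hA hp j)
  rw [centMap_apply, h0, map_zero]
  simp [bilin_symm hA (d j), hp.rd, hp.dd, ite_smul]

include hA hp in
theorem restMap_nilMap (z : V) : restMap B r d (nilMap B ε r z) = 0 := by
  simp [nilMap_apply, map_sum, restMap_r hA hp]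

theorem centMap_comm (x : V) :
    centMap hA hp D k (nilMap B ε r x) = nilMap B ε r (centMap hA hp D k x) := by
  have hR : nilMap B ε r (centMap hA hp D k x) = ∑ i, B x (r i) • nilMap B ε r (D.1 i) := by
    rw [centMap_apply]
    simp [map_sum, hp.iso.nilMap_nilMap,
      nilMap_ker hA (k.1 ⟨restMap B r d x, restMap_mem hA hp x⟩).2]
  rw [hR, nilMap_apply (B := B), map_sum, ← Equiv.sum_comp (Function.Involutive.toPerm _
    (typePerm_involutive (s := s) ε))]
  refine Finset.sum_congr rfl fun i _ => ?_
  simp [centMap_r, typePerm_involutive ε i, bilin_symm hA x (r i)]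

theorem centMap_injective (hB : B.Nondegenerate) : Function.Injective (centMap hA hp D k) := by
  intro x y h
  rw [← sub_eq_zero]
  refine hB.1 _ fun z => ?_
  rw [← centMap_preserves hA hp D k, map_sub, sub_eq_zero.2 h, map_zero, LinearMap.zero_apply]

/-- the centraliser element attached to the data -/
noncomputable def centElem : centSet B ε r :=
  ⟨LinearEquiv.ofInjectiveEndo (centMap hA hp D k) (centMap_injective hA hp D k hB),
    centMap_preserves hA hp D k, centMap_comm hA hp D k⟩

theorem restMap_centMap {x : V} (hx : x ∈ restSpace B r d) :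
    restMap B r d (centMap hA hp D k x) = (k.1 ⟨x, hx⟩ : V) := by
  have h0 : (⟨restMap B r d x, restMap_mem hA hp x⟩ : restSpace B r d) = ⟨x, hx⟩ :=
    Subtype.ext (restMap_of_mem hA hp hx)
  rw [centMap_apply, h0]
  simp [map_sum, restMap_nilMap hA hp, restMap_of_mem hA hp (k.1 ⟨x, hx⟩).2, (hx _).1]

end Cent

theorem centElem_bijective : Function.Bijective
    (fun p : {D : Fin s → V // ValidImage B ε r D} ×
      biIsoGroup (F := F) (fun u v : restSpace B r d => B.restrict (restSpace B r d) u v) =>
        centElem hA hB hp p.1 p.2) := by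
  constructor
  · rintro ⟨D, k⟩ ⟨D', k'⟩ h
    have h0 : ∀ x, centMap hA hp D k x = centMap hA hp D' k' x := fun x =>
      congrArg (fun g : centSet B ε r => g.1 x) h
    refine Prod.ext (Subtype.ext (funext fun j => ?_)) (Subtype.ext (LinearEquiv.ext fun w => Subtype.ext ?_))
    · have := h0 (d j)
      rwa [centMap_d, centMap_d] at this
    · show ((k.1 w : restSpace B r d) : V) = k'.1 w
      rw [← restMap_centMap hA hp D k w.2, h0, restMap_centMap hA hp D' k' w.2]
  · rintro ⟨g, hg, hgN⟩
    let D : {D : Fin s → V // ValidImage B ε r D} := ⟨fun j => g (d j),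
      fun i j => by rw [hg, hp.dd],
      fun i j => by
        rw [← hgN, hg, nilMap_dual hp.rd, hp.rd]
        exact if_congr eq_comm rfl rfl⟩
    have hker : ∀ w : restSpace B r d, ∀ i, B (g w) (r i) = 0 := fun w i => by
      have h1 : g (r i) = nilMap B ε r (g (d (typePerm ε i))) := by
        rw [← hgN, nilMap_dual hp.rd, typePerm_involutive ε i]
      have h2 : nilMap B ε r (g w) = 0 := by rw [← hgN, nilMap_ker hA w.2, map_zero]
      have h3 := congrArg (fun v => B v (d (typePerm ε i))) h2
      simp only [nilMap_apply, map_sum, LinearMap.sum_apply, map_smul, LinearMap.smul_apply, hp.rd,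
        smul_eq_mul, mul_ite, mul_one, mul_zero, Finset.sum_ite_eq', Finset.mem_univ, if_true,
        typePerm_involutive ε i, map_zero, LinearMap.zero_apply] at h3
      rw [bilin_symm hA]; exact h3
    let kmap : restSpace B r d →ₗ[F] restSpace B r d :=
      ((restMap B r d).comp (g.toLinearMap.comp (restSpace B r d).subtype)).codRestrict _
        (fun w => restMap_mem hA hp _)
    have hkmap : ∀ w v : restSpace B r d, B (kmap w : V) (kmap v : V) = B (w : V) (v : V) := fun w v => by
      show B (restMap B r d (g w)) (restMap B r d (g v)) = _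
      rw [← hg w v, pairing hA hp (g w) (g v)]
      simp [hker]
    have hinj : Function.Injective kmap := by
      intro w v h
      refine sub_eq_zero.1 ((isSympForm_rest hA hp hB).nondeg _ fun z => ?_)
      show B ((w - v : restSpace B r d) : V) (z : V) = 0
      rw [← hkmap, map_sub, h, sub_self]; simp
    let k : biIsoGroup (F := F) (fun u v : restSpace B r d => B.restrict (restSpace B r d) u v) :=
      ⟨LinearEquiv.ofInjectiveEndo kmap hinj, hkmap⟩
    refine ⟨(D, k), Subtype.ext (LinearEquiv.ext fun x => ?_)⟩
    have eR : ∀ j, centMap hA hp D k (r j) = g (r j) := fun j => by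
      rw [centMap_r, ← hgN, nilMap_dual hp.rd, typePerm_involutive ε j]
    have eD : ∀ j, centMap hA hp D k (d j) = g (d j) := fun j => centMap_d hA hp D k j
    have eW : ∀ w : restSpace B r d, centMap hA hp D k w = g w := fun w => by
      refine sub_eq_zero.1 (hB.1 _ fun z => ?_)
      obtain ⟨y, rfl⟩ := g.surjective z
      rw [map_sub, LinearMap.sub_apply, sub_eq_zero]
      conv_lhs => rw [decompose hA hp y]
      conv_rhs => rw [decompose hA hp y]
      simp only [map_add, map_sum, map_smul]
      congr 1
      · rw [hg, pairing hA hp (centMap hA hp D k w) _, restMap_centMap hA hp D k w.2]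
        have hz : ∀ i, B (centMap hA hp D k w) (r i) = 0 := fun i => by
          rw [centMap_apply]
          simp [map_sum, LinearMap.sum_apply, (w.2 i).1, bilin_symm hA (nilMap B ε r _) (r i),
            hp.iso.nilMap_mem_perp, ((k.1 _).2 i).1, fun j => (w.2 j).1]
        simp only [hz, hker ⟨_, restMap_mem hA hp y⟩, mul_zero, zero_mul, add_zero, Finset.sum_const_zero]
        exact hkmap w ⟨_, restMap_mem hA hp y⟩
      · congr 1 <;> refine Finset.sum_congr rfl fun i _ => ?_
        · rw [← eR, centMap_preserves, eR, hg]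
        · rw [← eD, centMap_preserves, eD, hg]
    show centMap hA hp D k x = g x
    conv_lhs => rw [decompose hA hp x]
    conv_rhs => rw [decompose hA hp x]
    simp [map_sum, eR, eD, eW ⟨_, restMap_mem hA hp x⟩]

/-! ### Counting the images -/

/-- the matrix of the type -/
def typeMatrix (F : Type*) [Field F] (ε : Bool) (s : ℕ) : Matrix (Fin s) (Fin s) F :=
  Matrix.of fun i j => if j = typePerm ε i then 1 else 0

theorem typeMatrix_mul_self (s : ℕ) : typeMatrix F ε s * typeMatrix F ε s = 1 := by
  ext i j
  simp only [Matrix.mul_apply, typeMatrix, Matrix.one_apply, Matrix.of_apply]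
  rw [Finset.sum_eq_single (typePerm ε i)]
  · simp [typePerm_involutive ε i, eq_comm]
  · intro b _ hb; rw [if_neg hb, zero_mul]
  · simp

theorem det_typeMatrix_ne_zero (s : ℕ) : (typeMatrix F ε s).det ≠ 0 := by
  intro h
  have := congrArg Matrix.det (typeMatrix_mul_self (F := F) (ε := ε) s)
  rw [Matrix.det_mul, h, zero_mul, Matrix.det_one] at this
  exact zero_ne_one this

theorem validImage_iff (hA : B.IsAlt) (hp : DualPair B r d) (D : Fin s → V) :
    ValidImage B ε r D ↔
      (Matrix.of fun i k => B (D i) (r k)) * typeMatrix F ε s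
          * (Matrix.of fun i k => B (D i) (r k)).transpose = typeMatrix F ε s ∧
      ∀ i j, ((Matrix.of fun i k => B (D i) (d k)) * (Matrix.of fun i k => B (D i) (r k)).transpose) i j
        + ((Matrix.of fun i k => B (D i) (d k)) * (Matrix.of fun i k => B (D i) (r k)).transpose) j i
        = B (restMap B r d (D i)) (restMap B r d (D j)) := by
  unfold ValidImage
  rw [and_comm, ← Matrix.ext_iff]
  refine and_congr (forall_congr' fun i => forall_congr' fun j => ?_)
    (forall_congr' fun i => forall_congr' fun j => ?_)
  · have e : B (nilMap B ε r (D i)) (D j) =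
        ((Matrix.of fun i k => B (D i) (r k)) * typeMatrix F ε s
          * (Matrix.of fun i k => B (D i) (r k)).transpose) i j := by
      simp only [Matrix.mul_apply, Matrix.transpose_apply, Matrix.of_apply, typeMatrix, mul_ite, mul_one,
        mul_zero, nilMap_apply, map_sum, map_smul, LinearMap.sum_apply, LinearMap.smul_apply, smul_eq_mul]
      refine Finset.sum_congr rfl fun l _ => ?_
      rw [Finset.sum_eq_single (typePerm ε l)]
      · rw [if_pos (typePerm_involutive ε l).symm, bilin_symm hA (r l) (D j),
          bilin_symm hA (r (typePerm ε l)) (D i)]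
      · intro b _ hb
        rw [if_neg]
        intro e; exact hb (by rw [e, typePerm_involutive ε b])
      · simp
    rw [e]
    rfl
  · rw [pairing hA hp (D i) (D j)]
    simp only [Matrix.mul_apply, Matrix.transpose_apply, Matrix.of_apply]
    rw [Finset.sum_add_distrib, ← CharTwo.sub_eq_add (B (restMap B r d (D i)) (restMap B r d (D j))),
      sub_eq_zero, eq_comm]
    refine Eq.congr_left (congrArg₂ (· + ·) rfl (Finset.sum_congr rfl fun l _ => mul_comm _ _))

/-- decomposition of an image into three coordinate families -/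
noncomputable def imageCoord : (Fin s → V) ≃
    Matrix (Fin s) (Fin s) F × (Fin s → restSpace B r d) × Matrix (Fin s) (Fin s) F :=
  (Equiv.piCongrRight fun _ => (coordEquiv hA hp).toEquiv).trans
    { toFun := fun p => (Matrix.of fun i k => (p i).2.2 k, fun i => (p i).2.1, Matrix.of fun i k => (p i).1 k)
      invFun := fun q i => (fun k => q.2.2 i k, q.2.1 i, fun k => q.1 i k)
      left_inv := fun p => rfl
      right_inv := fun q => rfl }

theorem isUnit_transpose
    (E : {E : Matrix (Fin s) (Fin s) F // E * typeMatrix F ε s * E.transpose = typeMatrix F ε s}) :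
    IsUnit E.1.transpose := by
  refine (Matrix.isUnit_iff_isUnit_det _).2 (IsUnit.mk0 _ fun h0 => ?_)
  have := congrArg Matrix.det E.2
  rw [Matrix.det_mul, h0, mul_zero] at this
  exact det_typeMatrix_ne_zero s this.symm

/-- an image is given by a matrix of the type, rest parts and a matrix with prescribed symmetrisation -/
noncomputable def validEquiv : {D : Fin s → V // ValidImage B ε r D} ≃
    Σ E : {E : Matrix (Fin s) (Fin s) F // E * typeMatrix F ε s * E.transpose = typeMatrix F ε s},
      Σ U : Fin s → restSpace B r d, {S : Matrix (Fin s) (Fin s) F //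
        ∀ i j, S i j + S j i = (Matrix.of fun i j => B (U i : V) (U j : V)) i j} :=
  ((imageCoord hA hp).subtypeEquiv (fun D => validImage_iff hA hp D) :
    {D : Fin s → V // ValidImage B ε r D} ≃
      {q : Matrix (Fin s) (Fin s) F × (Fin s → restSpace B r d) × Matrix (Fin s) (Fin s) F //
        q.1 * typeMatrix F ε s * q.1.transpose = typeMatrix F ε s ∧
          ∀ i j, (q.2.2 * q.1.transpose) i j + (q.2.2 * q.1.transpose) j i
            = B (q.2.1 i : V) (q.2.1 j : V)}).trans
    { toFun := fun q => ⟨⟨q.1.1, q.2.1⟩, q.1.2.1, q.1.2.2 * q.1.1.transpose, q.2.2⟩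
      invFun := fun z => ⟨(z.1.1, z.2.1, z.2.2.1 *
          (((isUnit_transpose z.1).unit⁻¹ : (Matrix (Fin s) (Fin s) F)ˣ) : Matrix (Fin s) (Fin s) F)),
        z.1.2, fun i j => by
        have h : z.2.2.1 * (((isUnit_transpose z.1).unit⁻¹ : (Matrix (Fin s) (Fin s) F)ˣ) :
            Matrix (Fin s) (Fin s) F) * z.1.1.transpose = z.2.2.1 := by
          rw [Matrix.mul_assoc, IsUnit.val_inv_mul, Matrix.mul_one]
        rw [h]; exact z.2.2.2 i j⟩
      left_inv := fun q => by
        refine Subtype.ext (Prod.ext rfl (Prod.ext rfl ?_))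
        show q.1.2.2 * q.1.1.transpose * _ = q.1.2.2
        rw [Matrix.mul_assoc, IsUnit.mul_val_inv, Matrix.mul_one]
      right_inv := fun z => by
        obtain ⟨E, U, S⟩ := z
        refine Sigma.ext rfl (heq_of_eq (Sigma.ext rfl (heq_of_eq (Subtype.ext ?_))))
        show S.1 * _ * E.1.transpose = S.1
        rw [Matrix.mul_assoc, IsUnit.val_inv_mul, Matrix.mul_one] }

include hA hp in
theorem natCard_validImage [Finite F] :
    Nat.card {D : Fin s → V // ValidImage B ε r D} =
      Nat.card {E : Matrix (Fin s) (Fin s) F // E * typeMatrix F ε s * E.transpose = typeMatrix F ε s}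
        * (Nat.card (restSpace B r d) ^ s * Nat.card F ^ (s + 1).choose 2) := by
  have hV : Finite V := Module.finite_of_finite F
  have e3 : ∀ U : Fin s → restSpace B r d, {S : Matrix (Fin s) (Fin s) F //
          ∀ i j, S i j + S j i = (Matrix.of fun i j => B (U i : V) (U j : V)) i j}
      ≃ ({p : Fin s × Fin s // p.1 ≤ p.2} → F) := fun U =>
    symEquiv _ (fun i j => bilin_symm hA _ _) (fun i => hA.self_eq_zero _)
  rw [Nat.card_congr ((validEquiv (ε := ε) hA hp).trans ((Equiv.sigmaCongrRight fun E =>
      (Equiv.sigmaCongrRight e3).trans (Equiv.sigmaEquivProd _ _)).trans (Equiv.sigmaEquivProd _ _))),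
    Nat.card_prod, Nat.card_prod, Nat.card_fun, Nat.card_fun, Nat.card_fin, natCard_symPairs]

/-- the order of the centraliser -/
theorem natCard_centSet [Finite F] {l : ℕ} (hdim : Module.finrank F V = (l + s) + (l + s)) (hA : B.IsAlt)
    (hB : B.Nondegenerate) (hr : IsoFrame B r) :
    Nat.card (centSet B ε r) =
      Nat.card {E : Matrix (Fin s) (Fin s) F // E * typeMatrix F ε s * E.transpose = typeMatrix F ε s}
        * ((Nat.card F ^ (2 * l)) ^ s * Nat.card F ^ (s + 1).choose 2)
        * (Nat.card F ^ (l ^ 2) * ∏ i ∈ Finset.range l, (Nat.card F ^ (2 * (i + 1)) - 1)) := by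
  obtain ⟨d, hp⟩ := exists_dualPair hA hB hr
  have hl : Module.finrank F (restSpace B r d) = l + l := by
    have := finrank_rest hA hp
    omega
  rw [← Nat.card_congr (Equiv.ofBijective _ (centElem_bijective (ε := ε) hA hB hp)), Nat.card_prod,
    natCard_validImage hA hp, natCard_sympIso (isSympForm_rest hA hp hB) hl,
    Module.natCard_eq_pow_finrank (K := F) (V := restSpace B r d), hl, two_mul l]

end Cfsg.Agent.Lib.FormConj.InvCentraliser
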