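import Mathlib
import Cfsg.Agent.Lib.FormConj.Intertwine

/-!
Unitary elements of a finite ring with anti-involution and of its quotient by a nil ideal.
-/

set_option autoImplicit false

namespace Cfsg.Agent.Lib.FormConj

variable {A B : Type*} [Ring A] [Finite A] [Ring B] {τ : A → A} (hτ : IsAntiHom τ) (hττ : ∀ x, τ (τ x) = x)
  (π : A →+* B) (hnil : ∀ x, π x = 0 → IsNilpotent x)

include hτ hττ hnil

/-- Self-adjoint elements congruent to one are norms of elements congruent to one. -/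
theorem exists_norm_one_add {a : A} (ha : ∀ x, Commute a x) (ha1 : a + τ a = 1) {z : A} (hz : π z = 0)
    (hzτ : τ z = z) : ∃ g : A, π g = 1 ∧ τ g * g = 1 + z := by
  obtain ⟨k, hk⟩ := hnil z hz
  suffices h : ∀ (m : ℕ) (z : A), π z = 0 → τ z = z → z ^ 2 ^ m = 0 → ∃ g : A, π g = 1 ∧ τ g * g = 1 + z from
    h k z hz hzτ (pow_eq_zero_of_le Nat.lt_two_pow_self.le hk)
  intro m
  induction m with
  | zero =>
    intro z _ _ hz0
    rw [pow_zero, pow_one] at hz0
    exact ⟨1, map_one π, by rw [hz0, hτ.map_one, mul_one, add_zero]⟩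
  | succ m ih =>
    intro z hz hzτ hzp
    have ha' : ∀ x, Commute (τ a) x := fun x => by
      have := congrArg τ (ha (τ x)).eq
      simp only [hτ.map_mul, hττ] at this
      exact this.symm
    have hτaz : τ (a * z) = τ a * z := by rw [hτ.map_mul, hzτ, (ha' z).eq]
    have hun : ∀ c : A, IsUnit (1 + c * z) := fun c =>
      (hnil _ (by rw [map_mul, hz, mul_zero])).isUnit_one_add
    obtain ⟨v, hv⟩ := hun a
    obtain ⟨u, hu⟩ := hun (τ a)
    have hτv : τ (v : A) = u := by rw [hv, hu, hτ.map_add, hτ.map_one, hτaz]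
    have hτu : τ (u : A) = v := by rw [← hτv, hττ]
    have hτvi : τ (↑v⁻¹ : A) = ↑u⁻¹ := by
      refine Units.eq_inv_of_mul_eq_one_left ?_
      rw [← hτv, ← hτ.map_mul, Units.inv_mul, hτ.map_one]
    have hτui : τ (↑u⁻¹ : A) = ↑v⁻¹ := by rw [← hτvi, hττ]
    set c : A := -(τ a * a) with hc
    have hcc : ∀ x, Commute c x := fun x => ((ha' x).mul_left (ha x)).neg_left
    have hτc : τ c = c := by
      have hneg : ∀ x, τ (-x) = -τ x := fun x =>
        eq_neg_of_add_eq_zero_left (by rw [← hτ.map_add, neg_add_cancel]; exact (AddMonoidHom.mk' τ hτ.map_add).map_zero)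
      rw [hc, hneg, hτ.map_mul, hττ]
    have huv : (u : A) * v + c * z ^ 2 = 1 + z := by
      rw [hu, hv, hc]
      have h1 : τ a * z * (a * z) = τ a * a * z ^ 2 := by
        rw [mul_assoc, ← mul_assoc z, (ha z).symm.eq, sq, mul_assoc, mul_assoc]
      calc (1 + τ a * z) * (1 + a * z) + -(τ a * a) * z ^ 2
          = 1 + (a + τ a) * z + (τ a * z * (a * z) + -(τ a * a) * z ^ 2) := by noncomm_ring
        _ = 1 + z := by rw [ha1, one_mul, h1, neg_mul, add_neg_cancel, add_zero]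
    set z' : A := ↑u⁻¹ * (c * z ^ 2) * ↑v⁻¹ with hz'
    have hzu : Commute z (u : A) := by
      rw [hu]; exact (Commute.one_right z).add_right ((ha' z).symm.mul_right (Commute.refl z))
    have hzv : Commute z (v : A) := by
      rw [hv]; exact (Commute.one_right z).add_right ((ha z).symm.mul_right (Commute.refl z))
    have hz'π : π z' = 0 := by simp [hz', hz]
    have hz'τ : τ z' = z' := by
      rw [hz', hτ.map_mul, hτ.map_mul, hτ.map_mul, hτvi, hτui, hτc, sq, hτ.map_mul, hzτ, ← (hcc (z * z)).eq,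
        ← mul_assoc]
    have hz'eq : z' = ↑u⁻¹ * c * ↑v⁻¹ * z ^ 2 := by
      rw [hz', mul_assoc, mul_assoc c, ((hzv.pow_left 2).units_inv_right).eq]
      simp only [mul_assoc]
    have hz'p : z' ^ 2 ^ m = 0 := by
      rw [hz'eq, Commute.mul_pow, ← pow_mul, ← pow_succ', hzp, mul_zero]
      exact (((hzu.units_inv_right).mul_right (hcc z).symm).mul_right hzv.units_inv_right).symm.pow_right 2
    obtain ⟨g, hg1, hg2⟩ := ih z' hz'π hz'τ hz'p
    refine ⟨g * v, by rw [map_mul, hg1, hv, one_mul, map_add, map_one, map_mul, hz, mul_zero, add_zero], ?_⟩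
    calc τ (g * v) * (g * v) = u * (τ g * g) * v := by rw [hτ.map_mul, hτv]; noncomm_ring
      _ = u * v + (↑u * ↑u⁻¹) * (c * z ^ 2) * (↑v⁻¹ * ↑v) := by rw [hg2, hz']; noncomm_ring
      _ = 1 + z := by rw [Units.mul_inv, Units.inv_mul, one_mul, mul_one, huv]

/-- Counting unitary elements. -/
theorem natCard_unitary [Finite B] (hπ : Function.Surjective π) {τ' : B → B} (hπτ : ∀ x, π (τ x) = τ' (π x))
    {a b : A} (ha : ∀ x, Commute a x) (ha1 : a + τ a = 1) (hb : ∀ x, Commute b x) (hbu : IsUnit (b - τ b)) :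
    ∃ s : ℕ, s ^ 2 * Nat.card B = Nat.card A ∧
      Nat.card {g : A // τ g * g = 1} = Nat.card {y : B // τ' y * y = 1} * s := by
  classical
  let T : A →+ A := AddMonoidHom.mk' τ hτ.map_add
  have hT : ∀ x, T x = τ x := fun x => rfl
  have hτsub : ∀ x y, τ (x - y) = τ x - τ y := fun x y => T.map_sub x y
  have hτneg : ∀ x, τ (-x) = -τ x := fun x => T.map_neg x
  let J₀ := {x : A // π x = 0}
  let S := {x : A // π x = 0 ∧ τ x = x}
  let U₁ := {g : A // τ g * g = 1 ∧ π g = 1}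
  have hb' : ∀ x, Commute (τ b) x := fun x => by
    have := congrArg τ (hb (τ x)).eq
    simp only [hτ.map_mul, hττ] at this
    exact this.symm
  have hπτ0 : ∀ x, π x = 0 → π (τ x) = 0 := fun x hx => by
    have h0 := hπτ 0
    rw [show τ 0 = 0 from T.map_zero, map_zero] at h0
    rw [hπτ, hx, ← h0]
  -- `J₀ ≃ S × S`
  obtain ⟨w, hw⟩ := hbu
  have hwc : ∀ x, Commute (↑w⁻¹ : A) x := fun x =>
    ((show Commute x (w : A) by rw [hw]; exact ((hb x).symm.sub_right (hb' x).symm)).units_inv_right).symm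
  have hτw : τ (↑w⁻¹ : A) = -↑w⁻¹ := by
    have h1 : τ (w : A) = -(w : A) := by rw [hw, hτsub, hττ, neg_sub]
    have h2 : τ (↑w⁻¹ : A) * (w : A) = -1 := by
      rw [← neg_neg (w : A), ← h1, mul_neg, ← hτ.map_mul, Units.mul_inv, hτ.map_one]
    rw [← Units.mul_inv_cancel_right (τ (↑w⁻¹ : A)) w, h2, neg_one_mul]
  let e₁ : S × S ≃ J₀ :=
    { toFun := fun p => ⟨p.1.1 + b * p.2.1, by rw [map_add, map_mul, p.1.2.1, p.2.2.1, mul_zero, add_zero]⟩
      invFun := fun x => (⟨x.1 - b * (↑w⁻¹ * (x.1 - τ x.1)),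
          by simp [x.2, hπτ0 x.1 x.2], by
            have e : τ (↑w⁻¹ * (x.1 - τ x.1)) = ↑w⁻¹ * (x.1 - τ x.1) := by
              rw [hτ.map_mul, hτsub, hττ, hτw, mul_neg, ← (hwc (τ x.1 - x.1)).eq, ← mul_neg, neg_sub]
            rw [hτsub, hτ.map_mul, e, ← (hb' _).eq]
            have h3 : (b - τ b) * (↑w⁻¹ * (x.1 - τ x.1)) = x.1 - τ x.1 := by rw [← hw, Units.mul_inv_cancel_left]
            rw [sub_mul] at h3
            calc τ x.1 - τ b * (↑w⁻¹ * (x.1 - τ x.1))
                = x.1 - (x.1 - τ x.1) - τ b * (↑w⁻¹ * (x.1 - τ x.1)) := by abel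
              _ = x.1 - b * (↑w⁻¹ * (x.1 - τ x.1)) := by
                  conv_lhs => arg 1; arg 2; rw [← h3]
                  abel⟩,
        ⟨↑w⁻¹ * (x.1 - τ x.1), by simp [x.2, hπτ0 x.1 x.2], by
          rw [hτ.map_mul, hτsub, hττ, hτw, mul_neg, ← (hwc (τ x.1 - x.1)).eq, ← mul_neg, neg_sub]⟩)
      left_inv := fun p => by
        have e : ↑w⁻¹ * (p.1.1 + b * p.2.1 - τ (p.1.1 + b * p.2.1)) = p.2.1 := by
          rw [hτ.map_add, hτ.map_mul, p.1.2.2, p.2.2.2, ← (hb' _).eq,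
            show p.1.1 + b * p.2.1 - (p.1.1 + τ b * p.2.1) = (b - τ b) * p.2.1 by noncomm_ring, ← hw,
            Units.inv_mul_cancel_left]
        refine Prod.ext (Subtype.ext ?_) (Subtype.ext e)
        show p.1.1 + b * p.2.1 - b * _ = p.1.1
        rw [e, add_sub_cancel_right]
      right_inv := fun x => Subtype.ext (sub_add_cancel _ _) }
  have h1 : Nat.card J₀ = Nat.card S ^ 2 := by rw [← Nat.card_congr e₁, Nat.card_prod, sq]
  -- `A ≃ B × J₀`
  choose sec hsec using hπ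
  let e₂ : A ≃ B × J₀ :=
    { toFun := fun x => (π x, ⟨x - sec (π x), by rw [map_sub, hsec, sub_self]⟩)
      invFun := fun p => sec p.1 + p.2.1
      left_inv := fun x => add_sub_cancel _ _
      right_inv := fun p => by
        have e : π (sec p.1 + p.2.1) = p.1 := by rw [map_add, hsec, p.2.2, add_zero]
        exact Prod.ext e (Subtype.ext (by simp [e])) }
  have h2 : Nat.card A = Nat.card B * Nat.card J₀ := by rw [Nat.card_congr e₂, Nat.card_prod]
  -- norms
  have hS : ∀ g : A, π g = 1 → π (τ g * g - 1) = 0 ∧ τ (τ g * g - 1) = τ g * g - 1 := fun g hg =>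
    ⟨by rw [map_sub, map_mul, hg, hπτ, hg, mul_one, ← map_one π, ← hπτ, hτ.map_one, map_one, sub_self],
      by rw [hτsub, hτ.map_mul, hττ, hτ.map_one]⟩
  choose nr hnr1 hnr2 using fun s : S => exists_norm_one_add hτ hττ π hnil ha ha1 s.2.1 s.2.2
  have hunit : ∀ g : A, π g = 1 → IsUnit g := fun g hg => by
    have := (hnil (g - 1) (by rw [map_sub, hg, map_one, sub_self])).isUnit_one_add
    rwa [add_sub_cancel] at this
  choose nu hnu using fun s : S => hunit _ (hnr1 s)
  have hU : ∀ (g : A) (v : Aˣ), τ g * g = τ (v : A) * v → τ (g * ↑v⁻¹) * (g * ↑v⁻¹) = 1 := fun g v h => by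
    calc τ (g * ↑v⁻¹) * (g * ↑v⁻¹) = τ (↑v⁻¹ : A) * (τ g * g) * ↑v⁻¹ := by rw [hτ.map_mul]; noncomm_ring
      _ = (τ (↑v⁻¹ : A) * τ (v : A)) * (↑v * ↑v⁻¹) := by rw [h]; noncomm_ring
      _ = 1 := by rw [← hτ.map_mul, Units.mul_inv, hτ.map_one, mul_one]
  have hmulU : ∀ (u g : A), τ u * u = 1 → τ (u * g) * (u * g) = τ g * g := fun u g hu => by
    rw [hτ.map_mul, mul_assoc, ← mul_assoc (τ u), hu, one_mul]
  let e₃ : J₀ ≃ U₁ × S :=
    { toFun := fun x =>
        let g : A := 1 + x.1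
        let s : S := ⟨τ g * g - 1, hS g (by simp [g, x.2])⟩
        (⟨g * ↑(nu s)⁻¹, hU g (nu s) (by rw [hnu, hnr2]; show _ = 1 + (τ g * g - 1); rw [add_sub_cancel]), by
          have h : π (↑(nu s)⁻¹ : A) * π ((nu s : Aˣ) : A) = 1 := by rw [← map_mul, Units.inv_mul, map_one]
          rw [hnu, hnr1, mul_one] at h
          simp [g, x.2, h]⟩, s)
      invFun := fun p => ⟨p.1.1 * nr p.2 - 1, by rw [map_sub, map_mul, p.1.2.2, hnr1, mul_one, map_one, sub_self]⟩
      left_inv := fun x => Subtype.ext (by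
        dsimp only
        rw [← hnu, Units.inv_mul_cancel_right, add_sub_cancel_left])
      right_inv := fun p => by
        have e : (1 : A) + (p.1.1 * nr p.2 - 1) = p.1.1 * nr p.2 := add_sub_cancel _ _
        have es : (⟨τ (1 + (p.1.1 * nr p.2 - 1)) * (1 + (p.1.1 * nr p.2 - 1)) - 1,
            hS _ (by simp [e, p.1.2.2, hnr1])⟩ : S) = p.2 :=
          Subtype.ext (by simp only [e, hmulU _ _ p.1.2.1, hnr2, add_sub_cancel_left])
        refine Prod.ext (Subtype.ext ?_) es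
        dsimp only
        rw [es, e, ← hnu, Units.mul_inv_cancel_right] }
  have h3 : Nat.card J₀ = Nat.card U₁ * Nat.card S := by rw [Nat.card_congr e₃, Nat.card_prod]
  have hS0 : 0 < Nat.card S := Nat.card_pos_iff.2 ⟨⟨⟨0, map_zero π, T.map_zero⟩⟩, inferInstance⟩
  have hcard : Nat.card U₁ = Nat.card S := by
    rw [h1, sq] at h3
    exact (Nat.eq_of_mul_eq_mul_right hS0 h3).symm
  -- lifting unitary elements
  have hlift : ∀ y : {y : B // τ' y * y = 1}, ∃ x : A, τ x * x = 1 ∧ π x = y.1 := by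
    intro y
    have hz : π (τ (sec y.1) * sec y.1 - 1) = 0 := by
      rw [map_sub, map_mul, hπτ, hsec, y.2, map_one, sub_self]
    obtain ⟨g, hg1, hg2⟩ := exists_norm_one_add hτ hττ π hnil ha ha1 hz
      (by rw [hτsub, hτ.map_mul, hττ, hτ.map_one])
    obtain ⟨v, hv⟩ := hunit g hg1
    refine ⟨sec y.1 * ↑v⁻¹, hU _ v (by rw [hv, hg2, add_sub_cancel]), ?_⟩
    have h : π (↑v⁻¹ : A) * π (v : A) = 1 := by rw [← map_mul, Units.inv_mul, map_one]
    rw [hv, hg1, mul_one] at h
    rw [map_mul, h, hsec, mul_one]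
  choose up hup1 hup2 using hlift
  have hproj : ∀ g : A, τ g * g = 1 → τ' (π g) * π g = 1 := fun g hg => by rw [← hπτ, ← map_mul, hg, map_one]
  let e₄ : {g : A // τ g * g = 1} ≃ {y : B // τ' y * y = 1} × U₁ :=
    { toFun := fun g =>
        let y : {y : B // τ' y * y = 1} := ⟨π g.1, hproj g.1 g.2⟩
        (y, ⟨g.1 * τ (up y), by
          rw [hmulU _ _ g.2, hττ]; exact mul_eq_one_comm.mp (hup1 y), by
          rw [map_mul, hπτ, hup2]
          exact mul_eq_one_comm.mp (hproj g.1 g.2)⟩)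
      invFun := fun p => ⟨p.2.1 * up p.1, by rw [hmulU _ _ p.2.2.1]; exact hup1 _⟩
      left_inv := fun g => Subtype.ext (by
        dsimp only
        rw [mul_assoc, hup1, mul_one])
      right_inv := fun p => by
        have e : π (p.2.1 * up p.1) = p.1.1 := by rw [map_mul, p.2.2.2, hup2, one_mul]
        have ey : (⟨π (p.2.1 * up p.1), hproj _ (by rw [hmulU _ _ p.2.2.1]; exact hup1 _)⟩ :
            {y : B // τ' y * y = 1}) = p.1 := Subtype.ext e
        refine Prod.ext ey (Subtype.ext ?_)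
        dsimp only
        rw [ey, mul_assoc, mul_eq_one_comm.mp (hup1 _), mul_one] }
  refine ⟨Nat.card S, by rw [h2, h1, mul_comm], ?_⟩
  rw [Nat.card_congr e₄, Nat.card_prod, hcard]

end Cfsg.Agent.Lib.FormConj
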