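import Mathlib
import Cfsg.Agent.S2623
import Cfsg.Agent.Lib.FormConj.JordanBlocks
import Cfsg.Agent.Lib.FormConj.RingUnitary
import Cfsg.Agent.Lib.Classical.ConjForms.AltUnique

/-!
Alternating forms invariant under the nilpotent Jordan matrix, up to congruence by its commutant:
they are classified by the square classes attached to the even block sizes.
-/

set_option autoImplicit false

namespace Cfsg.Agent.Lib.FormConj.JordanForms

open Matrix

variable {F : Type*} [Field F]

/-! ### Congruence of symmetric and of alternating matrices -/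

theorem exists_congr_sym [Fintype F] (h2 : (2 : F) ≠ 0) {κ : Type*} [Fintype κ] [DecidableEq κ]
    (A B : Matrix κ κ F) (hA : Aᵀ = A) (hB : Bᵀ = B) (dA : A.det ≠ 0) (dB : B.det ≠ 0)
    (hsq : IsSquare (A.det * B.det)) : ∃ P : Matrix κ κ F, IsUnit P ∧ Pᵀ * A * P = B := by
  classical
  let R := Matrix.reindexAlgEquiv F F (Fintype.equivFin κ)
  have hRT : ∀ M, (R M)ᵀ = R Mᵀ := fun M => by simp [R]
  have hRd : ∀ M : Matrix κ κ F, (R M).det = M.det := fun M => Matrix.det_reindexAlgEquiv F F _ M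
  let Qf : Matrix (Fin (Fintype.card κ)) (Fin (Fintype.card κ)) F → QuadraticForm F (Fin (Fintype.card κ) → F) :=
    fun M => (Matrix.toBilin' ((2 : F)⁻¹ • M)).toQuadraticMap
  have hpolar : ∀ M : Matrix (Fin (Fintype.card κ)) (Fin (Fintype.card κ)) F, Mᵀ = M → ∀ u v,
      QuadraticMap.polar (Qf M) u v = Matrix.toBilin' M u v := fun M hM u v => by
    rw [LinearMap.BilinMap.polar_toQuadraticMap]
    have hsymm : Matrix.toBilin' M v u = Matrix.toBilin' M u v := by
      rw [Matrix.toBilin'_apply', Matrix.toBilin'_apply', dotProduct_mulVec, ← mulVec_transpose, hM,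
        dotProduct_comm]
    simp only [map_smul, LinearMap.smul_apply, hsymm, smul_eq_mul, ← add_mul]
    rw [← two_mul, mul_inv_cancel₀ h2, one_mul]
  have hgram : ∀ M : Matrix (Fin (Fintype.card κ)) (Fin (Fintype.card κ)) F, Mᵀ = M →
      Matrix.of (fun i j => QuadraticMap.polar ⇑(Qf M) (Pi.single i 1) (Pi.single j 1)) = M := fun M hM => by
    ext i j
    rw [Matrix.of_apply, hpolar M hM, Matrix.toBilin'_single]
  have hnd : ∀ M : Matrix (Fin (Fintype.card κ)) (Fin (Fintype.card κ)) F, Mᵀ = M → M.det ≠ 0 →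
      (QuadraticMap.polarBilin (Qf M)).Nondegenerate := fun M hM hd => by
    rw [show QuadraticMap.polarBilin (Qf M) = Matrix.toBilin' M from LinearMap.ext₂ (hpolar M hM)]
    exact LinearMap.BilinForm.nondegenerate_toBilin'_iff_det_ne_zero.2 hd
  have sA : (R A)ᵀ = R A := by rw [hRT, hA]
  have sB : (R B)ᵀ = R B := by rw [hRT, hB]
  obtain ⟨g, hg⟩ := (Cfsg.Agent.S2623.result h2 (Qf (R B)) (Qf (R A)) (hnd _ sB (by rwa [hRd]))
    (hnd _ sA (by rwa [hRd]))).2 (by rw [hgram _ sA, hgram _ sB, hRd, hRd, mul_comm]; exact hsq)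
  set G := LinearMap.toMatrix' g.toLinearMap with hG
  have hGv : ∀ v, G *ᵥ v = g v := fun v => by
    rw [hG, ← Matrix.toLin'_apply, Matrix.toLin'_toMatrix']; rfl
  have hGA : Gᵀ * R A * G = R B := by
    refine Matrix.toBilin'.injective (LinearMap.ext₂ fun u v => ?_)
    have h1 : QuadraticMap.polar (Qf (R A)) (g u) (g v) = QuadraticMap.polar (Qf (R B)) u v := by
      simp only [QuadraticMap.polar, ← map_add, hg]
    rw [hpolar _ sA, hpolar _ sB, ← hGv, ← hGv] at h1
    rw [← h1]
    simp only [Matrix.toBilin'_apply', ← mulVec_mulVec]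
    rw [mulVec_transpose, dotProduct_comm, ← dotProduct_mulVec, dotProduct_comm]
  have hP : (R.symm G)ᵀ * A * R.symm G = B := by
    refine R.injective ?_
    rw [map_mul, map_mul, ← hRT, AlgEquiv.apply_symm_apply, hGA]
  refine ⟨R.symm G, (isUnit_iff_isUnit_det _).2 (IsUnit.mk0 _ fun h0 => dB ?_), hP⟩
  rw [← hP, det_mul, det_mul, h0, mul_zero]

theorem exists_congr_alt (h2 : (2 : F) ≠ 0) {κ : Type*} [Fintype κ] [DecidableEq κ]
    (A B : Matrix κ κ F) (hA : Aᵀ = -A) (hB : Bᵀ = -B) (dA : A.det ≠ 0) (dB : B.det ≠ 0) :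
    ∃ P : Matrix κ κ F, IsUnit P ∧ Pᵀ * A * P = B := by
  classical
  have halt : ∀ M : Matrix κ κ F, Mᵀ = -M → (Matrix.toBilin' M).IsAlt := fun M hM v => by
    have h : Matrix.toBilin' M v v = - Matrix.toBilin' M v v := by
      conv_lhs => rw [Matrix.toBilin'_apply', dotProduct_mulVec, ← mulVec_transpose, hM, neg_mulVec,
        neg_dotProduct, dotProduct_comm]
      rw [Matrix.toBilin'_apply']
    exact (mul_eq_zero.1 (show (2 : F) * Matrix.toBilin' M v v = 0 by linear_combination h)).resolve_left h2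
  have hsep : ∀ M : Matrix κ κ F, M.det ≠ 0 → (Matrix.toBilin' M).SeparatingLeft := fun M hM =>
    (LinearMap.BilinForm.nondegenerate_toBilin'_iff_det_ne_zero.2 hM).1
  obtain ⟨k, e, f, hfr, hk⟩ := Classical.ConjForms.exists_full_frame_finrank (halt A hA) (hsep A dA)
  obtain ⟨k', e', f', hfr', hk'⟩ := Classical.ConjForms.exists_full_frame_finrank (halt B hB) (hsep B dB)
  obtain rfl : k' = k := by omega
  let bA := SympInv.frameBasis (halt A hA) hfr hk
  let bB := SympInv.frameBasis (halt B hB) hfr' hk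
  let T := bB.equiv bA (Equiv.refl _)
  have hT : (Matrix.toBilin' A).compl₁₂ T.toLinearMap T.toLinearMap = Matrix.toBilin' B := by
    refine LinearMap.ext_basis bB bB fun i j => ?_
    have eA : ⇑bA = Sum.elim e f := SympInv.coe_frameBasis _ _ _
    have eB : ⇑bB = Sum.elim e' f' := SympInv.coe_frameBasis _ _ _
    simp only [LinearMap.compl₁₂_apply, LinearEquiv.coe_coe, T]
    rw [Module.Basis.equiv_apply, Module.Basis.equiv_apply, eA, eB]
    rcases i with i | i <;> rcases j with j | j <;> simp only [Equiv.refl_apply, Sum.elim_inl, Sum.elim_inr]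
    · rw [hfr.ee, hfr'.ee]
    · rw [hfr.ef, hfr'.ef]
    · rw [← LinearMap.IsAlt.neg (halt A hA) (e j), ← LinearMap.IsAlt.neg (halt B hB) (e' j), hfr.ef, hfr'.ef]
    · rw [hfr.ff, hfr'.ff]
  set P := LinearMap.toMatrix' T.toLinearMap with hPdef
  have hP : Pᵀ * A * P = B := by
    refine Matrix.toBilin'.injective (LinearMap.ext₂ fun u v => ?_)
    have h1 : Matrix.toBilin' A (T u) (T v) = Matrix.toBilin' B u v := LinearMap.congr_fun₂ hT u v
    have hPv : ∀ v, P *ᵥ v = T v := fun v => by
      rw [hPdef, ← Matrix.toLin'_apply, Matrix.toLin'_toMatrix']; rfl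
    rw [← h1, ← hPv, ← hPv]
    simp only [Matrix.toBilin'_apply', ← mulVec_mulVec]
    rw [mulVec_transpose, dotProduct_comm, ← dotProduct_mulVec, dotProduct_comm]
  refine ⟨P, (isUnit_iff_isUnit_det _).2 (IsUnit.mk0 _ fun h0 => dB ?_), hP⟩
  rw [← hP, det_mul, det_mul, h0, mul_zero]

/-! ### Matrices supported on equal sizes -/

section Sizes

variable {t : ℕ} {d : Fin t → ℕ}

/-- the indices of a given size -/
abbrev Idx (d : Fin t → ℕ) (e : ℕ) : Type := {k : Fin t // d k = e}

/-- assemble one matrix per size -/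
def assemble (G : ∀ e, Matrix (Idx d e) (Idx d e) F) : Matrix (Fin t) (Fin t) F :=
  Matrix.of fun k l => if h : d l = d k then G (d k) ⟨k, rfl⟩ ⟨l, h⟩ else 0

/-- the part of one size -/
def sizePart (M : Matrix (Fin t) (Fin t) F) (e : ℕ) : Matrix (Idx d e) (Idx d e) F :=
  Matrix.of fun k l => M k.1 l.1

theorem sizePart_assemble (G : ∀ e, Matrix (Idx d e) (Idx d e) F) (e : ℕ) :
    sizePart (assemble G) e = G e := by
  ext k l
  obtain ⟨k, rfl⟩ := k
  simp [sizePart, assemble, l.2]

theorem assemble_eq_zero (G : ∀ e, Matrix (Idx d e) (Idx d e) F) {k l : Fin t} (h : d k ≠ d l) :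
    assemble G k l = 0 := dif_neg (fun e => h e.symm)

theorem eq_of_sizePart {M M' : Matrix (Fin t) (Fin t) F} (hM : ∀ k l, d k ≠ d l → M k l = 0)
    (hM' : ∀ k l, d k ≠ d l → M' k l = 0) (h : ∀ e, sizePart (d := d) M e = sizePart M' e) : M = M' := by
  ext k l
  by_cases hd : d k = d l
  · exact congrFun (congrFun (h (d k)) ⟨k, rfl⟩) ⟨l, hd.symm⟩
  · rw [hM k l hd, hM' k l hd]

theorem mul_supported {M M' : Matrix (Fin t) (Fin t) F} (hM : ∀ k l, d k ≠ d l → M k l = 0)
    (hM' : ∀ k l, d k ≠ d l → M' k l = 0) : ∀ k l, d k ≠ d l → (M * M') k l = 0 := fun k l h => by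
  rw [Matrix.mul_apply]
  refine Finset.sum_eq_zero fun m _ => ?_
  by_cases hm : d k = d m
  · rw [hM' m l (by omega), mul_zero]
  · rw [hM k m hm, zero_mul]

theorem sizePart_mul {M : Matrix (Fin t) (Fin t) F} (hM : ∀ k l, d k ≠ d l → M k l = 0)
    (M' : Matrix (Fin t) (Fin t) F) (e : ℕ) :
    sizePart (d := d) (M * M') e = sizePart M e * sizePart M' e := by
  classical
  ext k l
  simp only [sizePart, Matrix.of_apply, Matrix.mul_apply]
  rw [← Finset.sum_filter_add_sum_filter_not Finset.univ (fun m => d m = e)]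
  rw [Finset.sum_eq_zero (s := Finset.univ.filter fun m => ¬ d m = e) (fun m hm => by
    rw [hM k.1 m (fun h => (Finset.mem_filter.1 hm).2 (h.symm.trans k.2)), zero_mul]), add_zero]
  exact Finset.sum_subtype _ (fun m => by simp) (fun m => M k.1 m * M' m l.1)

theorem sizePart_one (e : ℕ) : sizePart (d := d) (1 : Matrix (Fin t) (Fin t) F) e = 1 := by
  ext k l
  simp [sizePart, Matrix.one_apply, Subtype.ext_iff]

theorem sizePart_transpose (M : Matrix (Fin t) (Fin t) F) (e : ℕ) :
    sizePart (d := d) Mᵀ e = (sizePart M e)ᵀ := rfl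

/-! ### Invariant forms -/

/-- the index type -/
abbrev Pos (d : Fin t → ℕ) : Type := (k : Fin t) × Fin (d k)

/-- the nilpotent Jordan matrix -/
def nilJordan (F : Type*) [Field F] (d : Fin t → ℕ) : Matrix (Pos d) (Pos d) F :=
  Cfsg.jordanTypeMatrix d F - 1

theorem nilJordan_apply (x y : Pos d) :
    nilJordan F d x y = if x.1 = y.1 ∧ (x.2 : ℕ) = (y.2 : ℕ) + 1 then 1 else 0 := by
  obtain ⟨k, s⟩ := x
  obtain ⟨l, u⟩ := y
  by_cases hkl : k = l
  · subst hkl
    simp only [nilJordan, Cfsg.jordanTypeMatrix, Matrix.sub_apply, Matrix.blockDiagonal'_apply_eq,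
      Cfsg.jordanBlock, Matrix.of_apply, Matrix.one_apply, true_and]
    by_cases h1 : (s : ℕ) = u
    · simp [h1, Fin.ext h1]
    · have h3 : ¬((⟨k, s⟩ : Pos d) = ⟨k, u⟩) := fun e => h1 (by
        have := (Sigma.mk.inj_iff.1 e).2
        exact congrArg Fin.val (eq_of_heq this))
      simp [h1, h3]
  · simp [nilJordan, Cfsg.jordanTypeMatrix, Matrix.blockDiagonal'_apply_ne, hkl, Matrix.one_apply]

/-- the anti-diagonal matrix with leading coefficients `c` -/
def antiForm (d : Fin t → ℕ) (c : Matrix (Fin t) (Fin t) F) : Matrix (Pos d) (Pos d) F :=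
  Matrix.of fun x y =>
    if d x.1 = d y.1 ∧ (x.2 : ℕ) + y.2 + 1 = d x.1 then (-1) ^ (x.2 : ℕ) * c x.1 y.1 else 0

/-- invariance under the nilpotent matrix -/
def IsInvariantForm (d : Fin t → ℕ) (K : Matrix (Pos d) (Pos d) F) : Prop :=
  (nilJordan F d)ᵀ * K + K * nilJordan F d = 0

theorem sum_nilJordan_col (f : Pos d → F) (x : Pos d) :
    ∑ z, nilJordan F d z x * f z
      = if h : (x.2 : ℕ) + 1 < d x.1 then f ⟨x.1, ⟨(x.2 : ℕ) + 1, h⟩⟩ else 0 := by
  obtain ⟨k, s⟩ := x
  split_ifs with h
  · rw [Finset.sum_eq_single ⟨k, ⟨(s : ℕ) + 1, h⟩⟩]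
    · rw [nilJordan_apply, if_pos ⟨rfl, rfl⟩, one_mul]
    · rintro ⟨l, u⟩ _ hz
      rw [nilJordan_apply, if_neg, zero_mul]
      rintro ⟨h1, h2⟩
      dsimp only at h1 h2
      subst h1
      exact hz (congrArg (Sigma.mk l) (Fin.ext h2))
    · simp
  · refine Finset.sum_eq_zero ?_
    rintro ⟨l, u⟩ _
    rw [nilJordan_apply, if_neg, zero_mul]
    rintro ⟨h1, h2⟩
    dsimp only at h1 h2
    subst h1
    have := u.2
    simp only at h
    omega

theorem isInvariantForm_antiForm (c : Matrix (Fin t) (Fin t) F) : IsInvariantForm d (antiForm d c) := by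
  ext x y
  rw [Matrix.add_apply, Matrix.mul_apply, Matrix.mul_apply, Matrix.zero_apply]
  simp only [Matrix.transpose_apply]
  rw [sum_nilJordan_col (fun z => antiForm d c z y) x,
    show ∑ z, antiForm d c x z * nilJordan F d z y = _ from
      (Finset.sum_congr rfl fun z _ => mul_comm _ _).trans (sum_nilJordan_col (fun z => antiForm d c x z) y)]
  obtain ⟨k, s⟩ := x
  obtain ⟨l, u⟩ := y
  simp only [antiForm, Matrix.of_apply]
  have := s.2
  have := u.2
  split_ifs <;> first
    | omega
    | (rw [pow_succ]; ring)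
    | (simp only [add_zero, zero_add, mul_zero])

theorem antiForm_mul (c c' : Matrix (Fin t) (Fin t) F) (hc : ∀ k l, d k ≠ d l → c k l = 0) (x y : Pos d) :
    (antiForm d c * antiForm d c') x y =
      if d x.1 = d y.1 ∧ (x.2 : ℕ) = y.2 then (-1) ^ (d x.1 - 1) * (c * c') x.1 y.1 else 0 := by
  classical
  obtain ⟨k, s⟩ := x
  obtain ⟨l, u⟩ := y
  have hs := s.2
  have hu := u.2
  rw [Matrix.mul_apply, Fintype.sum_sigma]
  by_cases h : d k = d l ∧ (s : ℕ) = u
  · rw [if_pos h, Matrix.mul_apply, Finset.mul_sum]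
    refine Finset.sum_congr rfl fun m _ => ?_
    by_cases hm : d k = d m
    · rw [Finset.sum_eq_single (⟨d k - 1 - s, by omega⟩ : Fin (d m))]
      · simp only [antiForm, Matrix.of_apply]
        rw [if_pos ⟨hm, by omega⟩, if_pos ⟨by omega, by omega⟩, mul_mul_mul_comm, ← pow_add,
          show (s : ℕ) + (d k - 1 - s) = d k - 1 by omega]
      · intro z _ hz
        simp only [antiForm, Matrix.of_apply]
        rw [if_neg, zero_mul]
        rintro ⟨-, h2⟩
        exact hz (Fin.ext (by simp only; omega))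
      · simp
    · dsimp only
      rw [hc k m hm, zero_mul, mul_zero]
      refine Finset.sum_eq_zero fun z _ => ?_
      simp [antiForm, hm]
  · rw [if_neg h]
    refine Finset.sum_eq_zero fun m _ => Finset.sum_eq_zero fun z _ => ?_
    simp only [antiForm, Matrix.of_apply]
    split_ifs with h1 h2
    · exact absurd ⟨by omega, by omega⟩ h
    · rw [mul_zero]
    · rw [zero_mul]
    · rw [zero_mul]

theorem antiForm_transpose (c : Matrix (Fin t) (Fin t) F) (x y : Pos d) :
    (antiForm d c)ᵀ x y = antiForm d (Matrix.of fun k l => (-1) ^ (d k - 1) * c l k) x y := by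
  obtain ⟨k, s⟩ := x
  obtain ⟨l, u⟩ := y
  simp only [Matrix.transpose_apply, antiForm, Matrix.of_apply]
  by_cases h : d k = d l ∧ (s : ℕ) + u + 1 = d k
  · rw [if_pos h, if_pos ⟨h.1.symm, by omega⟩, ← mul_assoc]
    congr 1
    rw [← pow_add, show (s : ℕ) + (d k - 1) = 2 * (s : ℕ) + u by omega, pow_add, pow_mul, neg_one_sq, one_pow,
      one_mul]
  · rw [if_neg h, if_neg fun h' => h ⟨h'.1.symm, by omega⟩]

theorem diag_supported (f : Fin t → F) : ∀ k l, d k ≠ d l → Matrix.diagonal f k l = 0 :=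
  fun _ _ h => Matrix.diagonal_apply_ne _ (fun e => h (e ▸ rfl))

/-- the inverse of the reference form -/
def refInv (F : Type*) [Field F] (d : Fin t → ℕ) : Matrix (Pos d) (Pos d) F :=
  antiForm d (Matrix.diagonal fun k => (-1) ^ (d k - 1))

/-- the reference form -/
def refForm (F : Type*) [Field F] (d : Fin t → ℕ) : Matrix (Pos d) (Pos d) F := antiForm d 1

theorem refInv_mul_refForm : refInv F d * refForm F d = 1 := by
  ext ⟨k, s⟩ ⟨l, u⟩
  rw [refInv, refForm, antiForm_mul _ _ (diag_supported _),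
    Matrix.mul_one, Matrix.one_apply]
  by_cases hkl : k = l
  · subst hkl
    by_cases hsu : (s : ℕ) = u
    · simp [hsu, Fin.ext hsu, ← pow_add, ← two_mul, pow_mul]
    · have : ¬((⟨k, s⟩ : Pos d) = ⟨k, u⟩) := fun e => hsu (congrArg Fin.val (eq_of_heq (Sigma.mk.inj_iff.1 e).2))
      simp [hsu, this]
  · have : ¬((⟨k, s⟩ : Pos d) = ⟨l, u⟩) := fun e => hkl (Sigma.mk.inj_iff.1 e).1
    simp [Matrix.diagonal_apply_ne _ hkl, this]

theorem refForm_mul_refInv : refForm F d * refInv F d = 1 := mul_eq_one_comm.1 refInv_mul_refForm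

theorem refInv_transpose :
    (refInv F d)ᵀ = refInv F d * Matrix.diagonal (fun x : Pos d => (-1) ^ (d x.1 - 1)) := by
  ext ⟨k, s⟩ ⟨l, u⟩
  rw [refInv, antiForm_transpose, Matrix.mul_diagonal]
  simp only [antiForm, Matrix.of_apply]
  by_cases h : d k = d l ∧ (s : ℕ) + u + 1 = d k
  · rw [if_pos h, if_pos h]
    by_cases hkl : k = l
    · subst hkl; simp only [Matrix.diagonal_apply_eq]; ring
    · rw [Matrix.diagonal_apply_ne _ hkl, Matrix.diagonal_apply_ne _ (Ne.symm hkl)]; ring
  · rw [if_neg h, if_neg h, zero_mul]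

/-- the commutant of the Jordan matrix -/
abbrev commRing (F : Type*) [Field F] (d : Fin t → ℕ) : Subring (Matrix (Pos d) (Pos d) F) :=
  Subring.centralizer {Cfsg.jordanTypeMatrix d F}

theorem mem_commRing_iff {X : Matrix (Pos d) (Pos d) F} :
    X ∈ commRing F d ↔ Cfsg.jordanTypeMatrix d F * X = X * Cfsg.jordanTypeMatrix d F := by
  rw [Subring.mem_centralizer_iff]
  simp [eq_comm]

theorem mem_commRing_iff_nil {X : Matrix (Pos d) (Pos d) F} :
    X ∈ commRing F d ↔ nilJordan F d * X = X * nilJordan F d := by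
  rw [mem_commRing_iff, nilJordan, sub_mul, mul_sub, one_mul, mul_one, sub_left_inj]

theorem IsInvariantForm.mul_nil {K : Matrix (Pos d) (Pos d) F} (h : IsInvariantForm d K) :
    K * nilJordan F d = -((nilJordan F d)ᵀ * K) := eq_neg_of_add_eq_zero_right h

theorem IsInvariantForm.inv_mul {K K' L : Matrix (Pos d) (Pos d) F} (hK : IsInvariantForm d K)
    (hL : L * K = 1) (h : IsInvariantForm d K') : L * K' ∈ commRing F d := by
  have h1 : K * L = 1 := mul_eq_one_comm.1 hL
  have h2 : nilJordan F d * L = -(L * (nilJordan F d)ᵀ) := by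
    calc nilJordan F d * L = (L * K) * nilJordan F d * L := by rw [hL, one_mul]
      _ = -(L * (nilJordan F d)ᵀ) * (K * L) := by rw [mul_assoc L, hK.mul_nil]; noncomm_ring
      _ = -(L * (nilJordan F d)ᵀ) := by rw [h1, mul_one]
  rw [mem_commRing_iff_nil, ← mul_assoc, h2, mul_assoc L K', h.mul_nil]
  noncomm_ring

theorem IsInvariantForm.mul_right {K g : Matrix (Pos d) (Pos d) F} (hK : IsInvariantForm d K)
    (hg : g ∈ commRing F d) : IsInvariantForm d (K * g) := by
  rw [mem_commRing_iff_nil] at hg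
  show _ + _ = 0
  rw [mul_assoc K g, ← hg, ← mul_assoc, ← mul_assoc, ← add_mul, hK, zero_mul]

theorem IsInvariantForm.transpose_mul_left {K g : Matrix (Pos d) (Pos d) F} (hK : IsInvariantForm d K)
    (hg : g ∈ commRing F d) : IsInvariantForm d (gᵀ * K) := by
  rw [mem_commRing_iff_nil] at hg
  have h1 : (nilJordan F d)ᵀ * gᵀ = gᵀ * (nilJordan F d)ᵀ := by
    rw [← transpose_mul, ← transpose_mul, hg]
  show _ + _ = 0
  rw [← mul_assoc, h1, mul_assoc, mul_assoc, ← mul_add, hK, mul_zero]

variable (hd : ∀ k, 1 ≤ d k)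

/-- leading coefficients on equal sizes -/
def leadMat (X : Matrix (Pos d) (Pos d) F) : Matrix (Fin t) (Fin t) F :=
  Matrix.of fun k l => if d k = d l then corner hd X k l else 0

theorem leadMat_supported (X : Matrix (Pos d) (Pos d) F) : ∀ k l, d k ≠ d l → leadMat hd X k l = 0 :=
  fun k l h => if_neg h

/-- the ring map to the semisimple quotient of the commutant -/
def leadHom : commRing F d →+* Matrix (Fin t) (Fin t) F where
  toFun X := leadMat hd X.1
  map_one' := by
    ext k l
    simp only [leadMat, Matrix.of_apply, corner, OneMemClass.coe_one, Matrix.one_apply]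
    by_cases hkl : k = l
    · subst hkl; simp
    · rw [if_neg (fun e : (⟨k, _⟩ : Pos d) = ⟨l, _⟩ => hkl (Sigma.mk.inj_iff.1 e).1), if_neg hkl, ite_self]
  map_zero' := by ext k l; simp [leadMat, corner]
  map_add' X Y := by ext k l; simp only [leadMat, corner, Matrix.of_apply, Matrix.add_apply]; split_ifs <;> simp
  map_mul' X Y := by
    ext k l
    simp only [leadMat, Matrix.of_apply, Matrix.mul_apply, MulMemClass.coe_mul]
    have hX := mem_commRing_iff.1 X.2
    have hY := mem_commRing_iff.1 Y.2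
    split_ifs with h
    · rw [corner_mul hd hX]
      refine Finset.sum_congr rfl fun m _ => ?_
      by_cases hkm : d k = d m
      · rw [if_pos hkm, if_pos (hkm.symm.trans h)]
      · rw [if_neg hkm, zero_mul]
        rcases Nat.lt_or_gt_of_ne hkm with hlt | hlt
        · rw [corner_eq_zero_of_lt hd hY (h ▸ hlt), mul_zero]
        · rw [corner_eq_zero_of_lt hd hX hlt, zero_mul]
    · exact (Finset.sum_eq_zero fun m _ => by
        by_cases hkm : d k = d m
        · rw [if_neg (fun e => h (hkm.trans e)), mul_zero]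
        · rw [if_neg hkm, zero_mul]).symm

theorem leadHom_nil (X : commRing F d) (h : leadHom hd X = 0) : IsNilpotent X := by
  obtain ⟨n, hn⟩ := isNilpotent_of_corner hd (mem_commRing_iff.1 X.2) (fun k l hkl => by
    have := congrFun (congrFun h k) l
    simpa [leadHom, leadMat, hkl] using this)
  exact ⟨n, Subtype.ext (by simpa using hn)⟩

/-- block scalar lift of a matrix supported on equal sizes -/
def liftMat (d : Fin t → ℕ) (c : Matrix (Fin t) (Fin t) F) : Matrix (Pos d) (Pos d) F :=
  Matrix.of fun x y => if d x.1 = d y.1 ∧ (x.2 : ℕ) = y.2 then c x.1 y.1 else 0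

theorem liftMat_mem (c : Matrix (Fin t) (Fin t) F) : liftMat d c ∈ commRing F d := by
  have h1 : liftMat d c = refInv F d * antiForm d c := by
    ext ⟨k, s⟩ ⟨l, u⟩
    rw [refInv, antiForm_mul _ _ (diag_supported _),
      Matrix.diagonal_mul]
    simp only [liftMat, Matrix.of_apply]
    split_ifs with h
    · rw [← mul_assoc, ← pow_add, ← two_mul, pow_mul, neg_one_sq, one_pow, one_mul]
    · rfl
  rw [h1]
  exact (isInvariantForm_antiForm 1).inv_mul refInv_mul_refForm (isInvariantForm_antiForm c)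

theorem leadMat_liftMat {c : Matrix (Fin t) (Fin t) F} (hc : ∀ k l, d k ≠ d l → c k l = 0) :
    leadMat hd (liftMat d c) = c := by
  ext k l
  simp only [leadMat, liftMat, corner, Matrix.of_apply]
  split_ifs with h h'
  · rfl
  · exact absurd ⟨h, trivial⟩ h'
  · exact (hc k l h).symm

/-- the adjoint for the reference form transposes the leading coefficients -/
theorem leadMat_adjoint {g : Matrix (Pos d) (Pos d) F} (hg : g ∈ commRing F d) :
    leadMat hd (refInv F d * gᵀ * refForm F d) = (leadMat hd g)ᵀ := by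
  classical
  ext k l
  simp only [leadMat, Matrix.of_apply, Matrix.transpose_apply]
  by_cases h : d k = d l
  · rw [if_pos h, if_pos h.symm]
    have hk := hd k
    have hl := hd l
    simp only [corner]
    rw [Matrix.mul_apply, Finset.sum_eq_single (⟨l, ⟨d l - 1, by omega⟩⟩ : Pos d)]
    · rw [Matrix.mul_apply, Finset.sum_eq_single (⟨k, ⟨d k - 1, by omega⟩⟩ : Pos d)]
      · simp only [refInv, refForm, antiForm, Matrix.of_apply, Matrix.transpose_apply]
        rw [if_pos ⟨trivial, by omega⟩, if_pos ⟨trivial, by omega⟩, Matrix.diagonal_apply_eq, Matrix.one_apply_eq]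
        have e : g ⟨l, ⟨d l - 1, by omega⟩⟩ ⟨k, ⟨d k - 1, by omega⟩⟩ = g ⟨l, ⟨0, hd l⟩⟩ ⟨k, ⟨0, hd k⟩⟩ := by
          rw [← blk_apply g, (eq_toeplitz (hd k) (blk_intertwine (mem_commRing_iff.1 hg) l k)).1, toeplitz_apply,
            if_pos (by simp only; omega)]
          exact congrArg (fun i => g ⟨l, i⟩ ⟨k, ⟨0, hd k⟩⟩) (Fin.ext (by simp only; omega))
        rw [e, pow_zero, one_mul, mul_one, mul_comm _ (g _ _), mul_assoc, ← pow_add,
          show d k - 1 + (d l - 1) = 2 * (d k - 1) by omega, pow_mul, neg_one_sq, one_pow, mul_one]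
      · rintro ⟨a, z⟩ _ hz
        simp only [refInv, antiForm, Matrix.of_apply]
        by_cases hak : k = a
        · subst hak
          rw [if_neg, zero_mul]
          rintro ⟨-, h2⟩
          exact hz (congrArg (Sigma.mk k) (Fin.ext (by simp only at h2 ⊢; omega)))
        · simp [Matrix.diagonal_apply_ne _ hak]
      · simp
    · rintro ⟨a, z⟩ _ hz
      simp only [refForm, antiForm, Matrix.of_apply]
      by_cases hal : a = l
      · subst hal
        rw [if_neg, mul_zero]
        rintro ⟨-, h2⟩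
        exact hz (congrArg (Sigma.mk a) (Fin.ext (by simp only at h2 ⊢; omega)))
      · simp [Matrix.one_apply_ne hal]
    · simp
  · rw [if_neg h, if_neg (Ne.symm h)]

/-- alternating, invertible and invariant -/
structure IsValidForm (d : Fin t → ℕ) (K : Matrix (Pos d) (Pos d) F) : Prop where
  alt : Kᵀ = -K
  unit : IsUnit K
  inv : IsInvariantForm d K

/-- leading coefficients of a form -/
def formLead (K : Matrix (Pos d) (Pos d) F) : Matrix (Fin t) (Fin t) F := leadMat hd (refInv F d * K)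

theorem formLead_supported (K : Matrix (Pos d) (Pos d) F) : ∀ k l, d k ≠ d l → formLead hd K k l = 0 :=
  leadMat_supported hd _

theorem formLead_congr {K g : Matrix (Pos d) (Pos d) F} (hK : IsInvariantForm d K) (hg : g ∈ commRing F d) :
    formLead hd (gᵀ * K * g) = (leadMat hd g)ᵀ * formLead hd K * leadMat hd g := by
  have h1 : refInv F d * gᵀ * refForm F d ∈ commRing F d := by
    rw [mul_assoc]
    exact (isInvariantForm_antiForm 1).inv_mul refInv_mul_refForm
      ((isInvariantForm_antiForm 1).transpose_mul_left hg)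
  have h2 : refInv F d * K ∈ commRing F d :=
    (isInvariantForm_antiForm 1).inv_mul refInv_mul_refForm hK
  have e : refInv F d * (gᵀ * K * g)
      = refInv F d * gᵀ * refForm F d * (refInv F d * K) * g := by
    calc refInv F d * (gᵀ * K * g) = refInv F d * gᵀ * ((refForm F d * refInv F d) * K) * g := by
          rw [refForm_mul_refInv, one_mul]; noncomm_ring
      _ = _ := by noncomm_ring
  have e2 := congrArg (leadHom hd) (show (⟨refInv F d * (gᵀ * K * g), by
    rw [e]; exact mul_mem (mul_mem h1 h2) hg⟩ : commRing F d) = ⟨_, h1⟩ * ⟨_, h2⟩ * ⟨g, hg⟩ from Subtype.ext e)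
  rw [map_mul, map_mul] at e2
  rw [← leadMat_adjoint hd hg]
  exact e2

theorem formLead_det {K : Matrix (Pos d) (Pos d) F} (hK : IsValidForm d K) (e : ℕ) :
    (sizePart (d := d) (formLead hd K) e).det ≠ 0 := by
  obtain ⟨L, hL⟩ := hK.unit.exists_left_inv
  have h2 : refInv F d * K ∈ commRing F d :=
    (isInvariantForm_antiForm 1).inv_mul refInv_mul_refForm hK.inv
  have h3 : L * refForm F d ∈ commRing F d :=
    hK.inv.inv_mul hL (isInvariantForm_antiForm 1)
  have h4 : (⟨_, h3⟩ : commRing F d) * ⟨_, h2⟩ = 1 := Subtype.ext (by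
    show L * refForm F d * (refInv F d * K) = 1
    rw [mul_assoc, ← mul_assoc (refForm F d), refForm_mul_refInv, one_mul, hL])
  have h5 := congrArg (leadHom hd) h4
  rw [map_mul, map_one] at h5
  have h6 := congrArg (fun M : Matrix (Fin t) (Fin t) F => (sizePart (d := d) M e).det) h5
  rw [sizePart_mul (show ∀ k l, d k ≠ d l → leadHom hd ⟨_, h3⟩ k l = 0 from leadMat_supported hd _),
    sizePart_one, det_mul, det_one] at h6
  intro h0
  rw [show sizePart (d := d) (leadHom hd ⟨_, h2⟩) e = sizePart (formLead hd K) e from rfl, h0, mul_zero] at h6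
  exact zero_ne_one h6

theorem formLead_transpose {K : Matrix (Pos d) (Pos d) F} (hK : IsValidForm d K) (k l : Fin t) :
    formLead hd K l k = (-1) ^ d k * formLead hd K k l := by
  have h2 : refInv F d * K ∈ commRing F d :=
    (isInvariantForm_antiForm 1).inv_mul refInv_mul_refForm hK.inv
  have h := congrFun (congrFun (leadMat_adjoint hd h2) k) l
  rw [transpose_mul, hK.alt, refInv_transpose, Matrix.transpose_apply] at h
  rw [show formLead hd K l k = leadMat hd (refInv F d * K) l k from rfl, ← h]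
  have hD : Matrix.diagonal (fun x : Pos d => (-1 : F) ^ (d x.1 - 1)) ∈ commRing F d := by
    have : Matrix.diagonal (fun x : Pos d => (-1 : F) ^ (d x.1 - 1))
        = liftMat d (Matrix.diagonal fun k => (-1) ^ (d k - 1)) := by
      ext ⟨k, s⟩ ⟨l, u⟩
      by_cases hkl : k = l
      · subst hkl
        by_cases hsu : (s : ℕ) = u
        · simp [liftMat, hsu, Fin.ext hsu]
        · have : ¬((⟨k, s⟩ : Pos d) = ⟨k, u⟩) := fun e =>
            hsu (congrArg Fin.val (eq_of_heq (Sigma.mk.inj_iff.1 e).2))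
          simp [liftMat, hsu, Matrix.diagonal_apply_ne _ this]
      · have : ¬((⟨k, s⟩ : Pos d) = ⟨l, u⟩) := fun e => hkl (Sigma.mk.inj_iff.1 e).1
        simp [liftMat, Matrix.diagonal_apply_ne _ this, Matrix.diagonal_apply_ne _ hkl]
    rw [this]; exact liftMat_mem _
  -- `W Kᵀ Wᵀ K₁ = - (W K) (Wᵀ K₁)`
  have hdiag : Matrix.diagonal (fun x : Pos d => (-1 : F) ^ (d x.1 - 1)) * refForm F d
      = refForm F d * Matrix.diagonal (fun x : Pos d => (-1 : F) ^ (d x.1 - 1)) := by
    ext ⟨k, s⟩ ⟨l, u⟩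
    rw [Matrix.diagonal_mul, Matrix.mul_diagonal]
    by_cases hkl : k = l
    · subst hkl; exact mul_comm _ _
    · simp [refForm, antiForm, Matrix.one_apply_ne hkl]
  have e : refInv F d * (-K * (refInv F d * Matrix.diagonal fun x : Pos d => (-1 : F) ^ (d x.1 - 1)))
        * refForm F d
      = -(refInv F d * K * Matrix.diagonal (fun x : Pos d => (-1 : F) ^ (d x.1 - 1))) := by
    rw [show refInv F d * (-K * (refInv F d * Matrix.diagonal fun x : Pos d => (-1 : F) ^ (d x.1 - 1)))
        * refForm F d = -(refInv F d * K * (refInv F d *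
          (Matrix.diagonal (fun x : Pos d => (-1 : F) ^ (d x.1 - 1)) * refForm F d))) by noncomm_ring,
      hdiag, ← mul_assoc (refInv F d) (refForm F d), refInv_mul_refForm, one_mul]
  rw [e]
  simp only [leadMat, formLead, Matrix.of_apply, corner, Matrix.neg_apply, Matrix.mul_diagonal]
  split_ifs with hkl
  · have e3 : (-1 : F) ^ d k = -((-1) ^ (d l - 1)) := by
      conv_lhs => rw [show d k = d l - 1 + 1 by have := hd l; omega, pow_succ]
      ring
    rw [e3]
    ring
  · rw [mul_zero]

theorem sizePart_symm {K : Matrix (Pos d) (Pos d) F} (hK : IsValidForm d K) (e : ℕ) :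
    (Even e → (sizePart (d := d) (formLead hd K) e)ᵀ = sizePart (formLead hd K) e) ∧
      (¬ Even e → (sizePart (d := d) (formLead hd K) e)ᵀ = -sizePart (formLead hd K) e) := by
  refine ⟨fun he => ?_, fun he => ?_⟩ <;> ext k l <;>
    simp only [sizePart, Matrix.transpose_apply, Matrix.of_apply, Matrix.neg_apply] <;>
    rw [formLead_transpose hd hK, k.2]
  · rw [he.neg_one_pow, one_mul]
  · rw [(Nat.not_even_iff_odd.1 he).neg_one_pow, neg_one_mul]

/-- an odd size has an even number of blocks -/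
theorem even_count_of_odd (h2 : (2 : F) ≠ 0) {K : Matrix (Pos d) (Pos d) F} (hK : IsValidForm d K)
    (hd : ∀ k, 1 ≤ d k) {e : ℕ} (he : ¬ Even e) : Even (Nat.card (Idx d e)) := by
  by_contra hodd
  have h1 := congrArg Matrix.det ((sizePart_symm hd hK e).2 he)
  rw [det_transpose, det_neg, ← Nat.card_eq_fintype_card, (Nat.not_even_iff_odd.1 hodd).neg_one_pow] at h1
  exact formLead_det hd hK e ((mul_eq_zero.1 (show (2 : F) * _ = 0 by linear_combination h1)).resolve_left h2)

/-- the square class of a size -/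
def sqClass (K : Matrix (Pos d) (Pos d) F) (e : ℕ) : Prop :=
  IsSquare (sizePart (d := d) (formLead hd K) e).det

theorem sqClass_congr {K g : Matrix (Pos d) (Pos d) F} (hK : IsInvariantForm d K) (hg : g ∈ commRing F d)
    (hu : IsUnit g) (e : ℕ) : sqClass hd (gᵀ * K * g) e ↔ sqClass hd K e := by
  obtain ⟨u, hu'⟩ := hu
  have hgi : (↑u⁻¹ : Matrix (Pos d) (Pos d) F) ∈ commRing F d := by
    rw [mem_commRing_iff]
    exact ((show Commute (Cfsg.jordanTypeMatrix d F) (u : Matrix (Pos d) (Pos d) F) by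
      rw [hu']; exact mem_commRing_iff.1 hg).units_inv_right).eq
  have hinv := congrArg (leadHom hd) (show (⟨g, hg⟩ : commRing F d) * ⟨_, hgi⟩ = 1 from Subtype.ext (by
    show g * (↑u⁻¹ : Matrix (Pos d) (Pos d) F) = 1
    rw [← hu', Units.mul_inv]))
  rw [map_mul, map_one] at hinv
  have hsup := leadMat_supported hd g
  have hsupT : ∀ k l, d k ≠ d l → (leadMat hd g)ᵀ k l = 0 := fun k l h => hsup l k (Ne.symm h)
  have hne : (sizePart (d := d) (leadMat hd g) e).det ≠ 0 := fun h0 => by
    have h6 := congrArg (fun M : Matrix (Fin t) (Fin t) F => (sizePart (d := d) M e).det) hinv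
    rw [sizePart_mul (show ∀ k l, d k ≠ d l → leadHom hd ⟨g, hg⟩ k l = 0 from hsup), sizePart_one,
      det_mul, det_one, show sizePart (d := d) (leadHom hd ⟨g, hg⟩) e = sizePart (leadMat hd g) e from rfl,
      h0, zero_mul] at h6
    exact zero_ne_one h6
  unfold sqClass
  rw [formLead_congr hd hK hg, sizePart_mul (mul_supported hsupT (formLead_supported hd K)),
    sizePart_mul hsupT, sizePart_transpose, det_mul, det_mul, det_transpose]
  set a := (sizePart (d := d) (leadMat hd g) e).det
  constructor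
  · rintro ⟨r, hr⟩
    refine ⟨r / a, ?_⟩
    field_simp
    linear_combination hr
  · rintro ⟨r, hr⟩
    exact ⟨a * r, by rw [hr]; ring⟩

/-- forms with equal leading coefficients are congruent -/
theorem exists_congr_of_lead [Finite F] (h2 : (2 : F) ≠ 0) {K K' : Matrix (Pos d) (Pos d) F}
    (hK : IsValidForm d K) (hK' : IsValidForm d K') (hl : formLead hd K = formLead hd K') :
    ∃ g ∈ commRing F d, IsUnit g ∧ gᵀ * K * g = K' := by
  classical
  obtain ⟨L, hL⟩ := hK.unit.exists_left_inv
  have hKL : K * L = 1 := mul_eq_one_comm.1 hL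
  have hLT : Lᵀ = -L := by
    have h := congrArg Matrix.transpose hKL
    rw [transpose_mul, hK.alt, transpose_one, mul_neg] at h
    calc Lᵀ = Lᵀ * (K * L) := by rw [hKL, mul_one]
      _ = -(1 * L) := by rw [← mul_assoc, ← neg_neg (Lᵀ * K), h]; noncomm_ring
      _ = -L := by rw [one_mul]
  have hinv : ∀ Y ∈ commRing F d, L * Yᵀ * K ∈ commRing F d := fun Y hY => by
    rw [mul_assoc]; exact hK.inv.inv_mul hL (hK.inv.transpose_mul_left hY)
  let τ : commRing F d → commRing F d := fun Y => ⟨L * Y.1ᵀ * K, hinv Y.1 Y.2⟩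
  have hτ : IsAntiHom τ := by
    refine ⟨fun Y Z => Subtype.ext ?_, fun Y Z => Subtype.ext ?_, Subtype.ext ?_⟩
    · show L * (Y.1 + Z.1)ᵀ * K = L * Y.1ᵀ * K + L * Z.1ᵀ * K
      rw [transpose_add]; noncomm_ring
    · show L * (Y.1 * Z.1)ᵀ * K = L * Z.1ᵀ * K * (L * Y.1ᵀ * K)
      calc L * (Y.1 * Z.1)ᵀ * K = L * Z.1ᵀ * (K * L) * Y.1ᵀ * K := by rw [transpose_mul, hKL]; noncomm_ring
        _ = _ := by noncomm_ring
    · show L * (1 : Matrix (Pos d) (Pos d) F)ᵀ * K = 1
      rw [transpose_one, mul_one, hL]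
  have hττ : ∀ Y, τ (τ Y) = Y := fun Y => Subtype.ext (by
    show L * (L * Y.1ᵀ * K)ᵀ * K = Y.1
    rw [transpose_mul, transpose_mul, transpose_transpose, hK.alt, hLT]
    calc L * (-K * (Y.1 * -L)) * K = (L * K) * Y.1 * (L * K) := by noncomm_ring
      _ = Y.1 := by rw [hL, one_mul, mul_one])
  let a : commRing F d := ⟨(2 : F)⁻¹ • 1, by rw [mem_commRing_iff]; simp⟩
  have ha : ∀ Y, Commute a Y := fun Y => Subtype.ext (by
    show ((2 : F)⁻¹ • (1 : Matrix (Pos d) (Pos d) F)) * Y.1 = Y.1 * ((2 : F)⁻¹ • 1)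
    simp)
  have ha1 : a + τ a = 1 := Subtype.ext (by
    show (2 : F)⁻¹ • (1 : Matrix (Pos d) (Pos d) F) + L * ((2 : F)⁻¹ • (1 : Matrix (Pos d) (Pos d) F))ᵀ * K = 1
    rw [transpose_smul, transpose_one, mul_smul_comm, mul_one, smul_mul_assoc, hL, ← add_smul, ← two_mul,
      mul_inv_cancel₀ h2, one_smul])
  let z : commRing F d := ⟨L * K' - 1, sub_mem (hK.inv.inv_mul hL hK'.inv) (one_mem _)⟩
  have h1 : refInv F d * K ∈ commRing F d := (isInvariantForm_antiForm 1).inv_mul refInv_mul_refForm hK.inv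
  have h3 : L * refForm F d ∈ commRing F d := hK.inv.inv_mul hL (isInvariantForm_antiForm 1)
  have h4 : refInv F d * K' ∈ commRing F d := (isInvariantForm_antiForm 1).inv_mul refInv_mul_refForm hK'.inv
  have hz : leadHom hd z = 0 := by
    have e : z = ⟨_, h3⟩ * (⟨_, h4⟩ - ⟨_, h1⟩) := Subtype.ext (by
      show L * K' - 1 = L * refForm F d * (refInv F d * K' - refInv F d * K)
      calc L * K' - 1 = L * ((refForm F d * refInv F d) * (K' - K)) := by
            rw [refForm_mul_refInv, one_mul, mul_sub, hL]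
        _ = _ := by noncomm_ring)
    rw [e, map_mul, map_sub, show leadHom hd ⟨_, h4⟩ = formLead hd K' from rfl,
      show leadHom hd ⟨_, h1⟩ = formLead hd K from rfl, hl, sub_self, mul_zero]
  have hzτ : τ z = z := Subtype.ext (by
    show L * (L * K' - 1)ᵀ * K = L * K' - 1
    rw [transpose_sub, transpose_mul, transpose_one, hK'.alt, hLT]
    calc L * (-K' * -L - 1) * K = L * K' * (L * K) - L * K := by noncomm_ring
      _ = _ := by rw [hL, mul_one])
  obtain ⟨g, hg1, hg2⟩ := exists_norm_one_add hτ hττ (leadHom hd) (leadHom_nil hd) ha ha1 hz hzτ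
  have hg2' : L * g.1ᵀ * K * g.1 = 1 + (L * K' - 1) := congrArg Subtype.val hg2
  have hgK : g.1ᵀ * K * g.1 = K' := by
    calc g.1ᵀ * K * g.1 = (K * L) * (g.1ᵀ * K * g.1) := by rw [hKL, one_mul]
      _ = K * (L * g.1ᵀ * K * g.1) := by noncomm_ring
      _ = K' := by rw [hg2', add_sub_cancel, ← mul_assoc, hKL, one_mul]
  refine ⟨g.1, g.2, (isUnit_iff_isUnit_det _).2 (IsUnit.mk0 _ fun h0 => ?_), hgK⟩
  have h5 := ((isUnit_iff_isUnit_det _).1 hK'.unit).ne_zero
  rw [← hgK, det_mul, h0, mul_zero] at h5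
  exact h5 rfl

/-- forms with equal square classes are congruent -/
theorem exists_congr_of_sqClass [Fintype F] (h2 : (2 : F) ≠ 0) {K K' : Matrix (Pos d) (Pos d) F}
    (hK : IsValidForm d K) (hK' : IsValidForm d K')
    (hsq : ∀ k, Even (d k) → (sqClass hd K (d k) ↔ sqClass hd K' (d k))) :
    ∃ g ∈ commRing F d, IsUnit g ∧ gᵀ * K * g = K' := by
  classical
  have hex : ∀ e, ∃ P : Matrix (Idx d e) (Idx d e) F, IsUnit P ∧
      Pᵀ * sizePart (formLead hd K) e * P = sizePart (formLead hd K') e := by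
    intro e
    have dA := formLead_det hd hK e
    have dB := formLead_det hd hK' e
    by_cases he : Even e
    · refine exists_congr_sym h2 _ _ ((sizePart_symm hd hK e).1 he) ((sizePart_symm hd hK' e).1 he) dA dB ?_
      rcases isEmpty_or_nonempty (Idx d e) with h0 | ⟨⟨k, rfl⟩⟩
      · simp
      · have hiff := hsq k he
        unfold sqClass at hiff
        by_cases hs : IsSquare (sizePart (d := d) (formLead hd K) (d k)).det
        · exact hs.mul (hiff.1 hs)
        · have hnotF : ringChar F ≠ 2 := fun h => h2 (by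
            haveI := ringChar.charP F
            rw [← Nat.cast_two, ← h]; exact CharP.cast_eq_zero F (ringChar F))
          have q1 := (quadraticChar_neg_one_iff_not_isSquare (F := F)).2 hs
          have q2 := (quadraticChar_neg_one_iff_not_isSquare (F := F)).2 (fun h => hs (hiff.2 h))
          refine (quadraticChar_one_iff_isSquare (mul_ne_zero dA dB)).1 ?_
          rw [map_mul, q1, q2]; norm_num
    · exact exists_congr_alt h2 _ _ ((sizePart_symm hd hK e).2 he) ((sizePart_symm hd hK' e).2 he) dA dB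
  choose P hPu hP using hex
  choose Q hQ using fun e => (hPu e).exists_left_inv
  let c := assemble P
  let c' := assemble Q
  have hc : ∀ k l, d k ≠ d l → c k l = 0 := fun k l h => assemble_eq_zero P h
  have hc' : ∀ k l, d k ≠ d l → c' k l = 0 := fun k l h => assemble_eq_zero Q h
  have hcc : c' * c = 1 := eq_of_sizePart (mul_supported hc' hc)
    (fun k l h => Matrix.one_apply_ne (fun e => h (e ▸ rfl))) fun e => by
      rw [sizePart_mul hc', sizePart_assemble, sizePart_assemble, sizePart_one, hQ]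
  have hmul : liftMat d c' * liftMat d c = 1 := by
    ext ⟨k, s⟩ ⟨l, u⟩
    rw [Matrix.mul_apply, Fintype.sum_sigma]
    have hval : ∑ m, c' k m * c m l = (1 : Matrix (Fin t) (Fin t) F) k l := by
      rw [← Matrix.mul_apply, hcc]
    by_cases h : d k = d l ∧ (s : ℕ) = u
    · have e1 : (1 : Matrix (Pos d) (Pos d) F) ⟨k, s⟩ ⟨l, u⟩ = (1 : Matrix (Fin t) (Fin t) F) k l := by
        by_cases hkl : k = l
        · subst hkl; obtain rfl : s = u := Fin.ext h.2; simp
        · have : ¬((⟨k, s⟩ : Pos d) = ⟨l, u⟩) := fun e => hkl (Sigma.mk.inj_iff.1 e).1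
          rw [Matrix.one_apply_ne this, Matrix.one_apply_ne hkl]
      rw [e1, ← hval]
      refine Finset.sum_congr rfl fun m _ => ?_
      by_cases hm : d k = d m
      · rw [Finset.sum_eq_single (⟨(s : ℕ), hm ▸ s.2⟩ : Fin (d m))]
        · simp only [liftMat, Matrix.of_apply]
          rw [if_pos ⟨hm, trivial⟩, if_pos ⟨hm.symm.trans h.1, h.2⟩]
        · intro z _ hz
          simp only [liftMat, Matrix.of_apply]
          rw [if_neg, zero_mul]
          exact fun h' => hz (Fin.ext h'.2.symm)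
        · simp
      · rw [hc' k m hm, zero_mul]
        exact Finset.sum_eq_zero fun z _ => by simp [liftMat, hm]
    · have e1 : (1 : Matrix (Pos d) (Pos d) F) ⟨k, s⟩ ⟨l, u⟩ = 0 := Matrix.one_apply_ne fun e => h (by
        obtain ⟨h1, h2⟩ := Sigma.mk.inj_iff.1 e
        subst h1
        exact ⟨rfl, congrArg Fin.val (eq_of_heq h2)⟩)
      rw [e1]
      refine Finset.sum_eq_zero fun m _ => Finset.sum_eq_zero fun z _ => ?_
      simp only [liftMat, Matrix.of_apply]
      split_ifs with h1 h2
      · exact absurd ⟨h1.1.trans h2.1, h1.2.trans h2.2⟩ h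
      · rw [mul_zero]
      · rw [zero_mul]
      · rw [zero_mul]
  have hgu : IsUnit (liftMat d c) := ⟨⟨_, _, mul_eq_one_comm.1 hmul, hmul⟩, rfl⟩
  have hg := liftMat_mem (d := d) c
  set g := liftMat d c
  have hK1 : IsValidForm d (gᵀ * K * g) := by
    refine ⟨?_, (IsUnit.mul (IsUnit.mul ?_ hK.unit) hgu), (hK.inv.transpose_mul_left hg).mul_right hg⟩
    · rw [transpose_mul, transpose_mul, transpose_transpose, hK.alt]; noncomm_ring
    · exact (isUnit_iff_isUnit_det _).2 (by rw [det_transpose]; exact (isUnit_iff_isUnit_det _).1 hgu)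
  have hcT : ∀ k l, d k ≠ d l → cᵀ k l = 0 := fun k l h => hc l k (Ne.symm h)
  have hlead : formLead hd (gᵀ * K * g) = formLead hd K' := by
    rw [formLead_congr hd hK.inv hg, leadMat_liftMat hd hc]
    refine eq_of_sizePart (mul_supported (mul_supported hcT (formLead_supported hd K)) hc)
      (formLead_supported hd K') fun e => ?_
    rw [sizePart_mul (mul_supported hcT (formLead_supported hd K)), sizePart_mul hcT, sizePart_transpose,
      show sizePart (d := d) c e = P e from sizePart_assemble P e]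
    exact hP e
  obtain ⟨g', hg', hg'u, hgK⟩ := exists_congr_of_lead hd h2 hK1 hK' hlead
  exact ⟨g * g', mul_mem hg hg', hgu.mul hg'u, by rw [transpose_mul]; simp only [← mul_assoc] at hgK ⊢; exact hgK⟩

include hd in
/-- every admissible choice of square classes occurs -/
theorem exists_form [Fintype F] (h2 : (2 : F) ≠ 0) (hadm : ∀ k, ¬ Even (d k) → Even (Nat.card (Idx d (d k))))
    (χ : ℕ → Bool) :
    ∃ K : Matrix (Pos d) (Pos d) F, IsValidForm d K ∧ ∀ k, Even (d k) → (sqClass hd K (d k) ↔ χ (d k) = true) := by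
  classical
  obtain ⟨ν, hν⟩ := FiniteField.exists_nonsquare (F := F) (fun h => h2 (by
    haveI := ringChar.charP F
    rw [← Nat.cast_two, ← h]; exact CharP.cast_eq_zero F (ringChar F)))
  have hν0 : ν ≠ 0 := fun h => hν ⟨0, by rw [h, mul_zero]⟩
  have hex : ∀ e, ∃ C : Matrix (Idx d e) (Idx d e) F, (∀ k l, C l k = (-1) ^ e * C k l) ∧ C.det ≠ 0 ∧
      (Even e → Nonempty (Idx d e) → (IsSquare C.det ↔ χ e = true)) := by
    intro e
    rcases isEmpty_or_nonempty (Idx d e) with h0 | hne
    · exact ⟨0, fun k => isEmptyElim k, by simp, fun _ ⟨k⟩ => isEmptyElim k⟩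
    obtain ⟨k0, rfl⟩ := id hne
    by_cases he : Even (d k0)
    · let a : F := if χ (d k0) = true then 1 else ν
      refine ⟨Matrix.diagonal (Function.update (fun _ => (1 : F)) ⟨k0, rfl⟩ a), fun k l => ?_, ?_, fun _ _ => ?_⟩
      · rw [he.neg_one_pow, one_mul]
        by_cases hkl : k = l
        · rw [hkl]
        · rw [Matrix.diagonal_apply_ne _ hkl, Matrix.diagonal_apply_ne _ (Ne.symm hkl)]
      · rw [Matrix.det_diagonal, Finset.prod_update_of_mem (Finset.mem_univ _)]
        simp [a]; split_ifs <;> simp [hν0]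
      · rw [Matrix.det_diagonal, Finset.prod_update_of_mem (Finset.mem_univ _)]
        by_cases hc : χ (d k0) = true <;> simp [a, hc, hν]
    · obtain ⟨j, hj⟩ := hadm k0 he
      let φ : Idx d (d k0) ≃ Fin j ⊕ Fin j := Fintype.equivOfCardEq (by
        rw [← Nat.card_eq_fintype_card, hj]; simp)
      refine ⟨(Matrix.J (Fin j) F).submatrix φ φ, fun k l => ?_, ?_, fun h => absurd h he⟩
      · rw [(Nat.not_even_iff_odd.1 he).neg_one_pow, neg_one_mul]
        have := congrFun (congrFun (Matrix.J_transpose (l := Fin j) (R := F)) (φ k)) (φ l)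
        simpa using this
      · rw [Matrix.det_submatrix_equiv_self]
        exact (Matrix.isUnit_det_J (Fin j) F).ne_zero
  choose C hCs hCd hCsq using hex
  let c := assemble C
  have hc : ∀ k l, d k ≠ d l → c k l = 0 := fun k l h => assemble_eq_zero C h
  refine ⟨antiForm d c, ⟨?_, ?_, isInvariantForm_antiForm c⟩, ?_⟩
  · ext x y
    rw [antiForm_transpose, Matrix.neg_apply]
    obtain ⟨k, s⟩ := x
    obtain ⟨l, u⟩ := y
    simp only [antiForm, Matrix.of_apply]
    split_ifs with h
    · have hcs : c l k = (-1) ^ d k * c k l := by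
        simp only [c, assemble, Matrix.of_apply, dif_pos h.1, dif_pos h.1.symm]
        generalize hS : C (d l) = Cl
        subst hS
        have key : ∀ (e : ℕ) (hk : d k = e) (hl : d l = e),
            C e ⟨l, hl⟩ ⟨k, hk⟩ = (-1) ^ e * C e ⟨k, hk⟩ ⟨l, hl⟩ := fun e hk hl => hCs e ⟨k, hk⟩ ⟨l, hl⟩
        have h1 := key (d k) rfl h.1.symm
        have h3 : C (d l) ⟨l, rfl⟩ ⟨k, h.1⟩ = C (d k) ⟨l, h.1.symm⟩ ⟨k, rfl⟩ := by
          have : ∀ (e e' : ℕ) (_ : e = e') (hl : d l = e) (hk : d k = e) (hl' : d l = e') (hk' : d k = e'),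
              C e ⟨l, hl⟩ ⟨k, hk⟩ = C e' ⟨l, hl'⟩ ⟨k, hk'⟩ := by
            rintro e _ rfl hl hk hl' hk'; rfl
          exact this _ _ h.1.symm _ _ _ _
        rw [h3, h1]
      rw [hcs, ← mul_assoc ((-1) ^ (d k - 1)), ← pow_add,
        show d k - 1 + d k = 2 * (d k - 1) + 1 by have := hd k; omega, pow_succ, pow_mul, neg_one_sq, one_pow]
      ring
    · rw [neg_zero]
  · choose Q hQ using fun e => ((isUnit_iff_isUnit_det _).2 (IsUnit.mk0 _ (hCd e))).exists_left_inv
    have hQ' : ∀ k l, d k ≠ d l → assemble Q k l = 0 := fun k l h => assemble_eq_zero Q h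
    have hQc : assemble Q * c = 1 := eq_of_sizePart (mul_supported hQ' hc)
      (fun k l h => Matrix.one_apply_ne (fun e => h (e ▸ rfl))) fun e => by
        rw [sizePart_mul hQ', sizePart_assemble, sizePart_assemble, sizePart_one, hQ]
    have h : antiForm d (Matrix.diagonal (fun k => (-1 : F) ^ (d k - 1)) * assemble Q) * antiForm d c = 1 := by
      rw [← refInv_mul_refForm]
      ext x y
      have hD : ∀ k l, d k ≠ d l → Matrix.diagonal (fun k => (-1 : F) ^ (d k - 1)) k l = 0 :=
        fun k l h => Matrix.diagonal_apply_ne _ (fun e => h (e ▸ rfl))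
      rw [antiForm_mul _ _ (mul_supported hD hQ'), mul_assoc, hQc, refInv, refForm, antiForm_mul _ _ hD]
    exact ⟨⟨_, _, mul_eq_one_comm.1 h, h⟩, rfl⟩
  · intro k hk
    have hlead : formLead hd (antiForm d c) = c := by
      have e : refInv F d * antiForm d c = liftMat d c := by
        ext ⟨a, s⟩ ⟨b, u⟩
        rw [refInv, antiForm_mul _ _ (diag_supported _),
          Matrix.diagonal_mul]
        simp only [liftMat, Matrix.of_apply]
        split_ifs with h
        · rw [← mul_assoc, ← pow_add, ← two_mul, pow_mul, neg_one_sq, one_pow, one_mul]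
        · rfl
      rw [formLead, e, leadMat_liftMat hd hc]
    unfold sqClass
    rw [hlead, sizePart_assemble]
    exact hCsq (d k) hk ⟨⟨k, rfl⟩⟩

end Sizes

end Cfsg.Agent.Lib.FormConj.JordanForms
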