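import Mathlib
import Cfsg.Prelude.Def_Transfer
import Cfsg.Agent.Lib.ClassicalSylowTwo.Linear

/-!
The normal 2-rank of `GL_n(q)`, `q` odd.
-/

set_option autoImplicit false

namespace Cfsg.Agent.Lib.FormConj.NormalTwoRank

open Matrix Cfsg.Agent.Lib.ClassicalSylowTwo

universe u

variable {F : Type u} [Field F]

/-! ### Commuting involutions -/

variable {n : Type*} [Fintype n] [DecidableEq n]

theorem span_eigvec_eq_top (h2 : (2 : F) ≠ 0) (s : Finset (Matrix n n F)) :
    (∀ a ∈ s, a * a = 1) → (∀ a ∈ s, ∀ b ∈ s, a * b = b * a) →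
      Submodule.span F {v : n → F | ∀ a ∈ s, a *ᵥ v = v ∨ a *ᵥ v = -v} = ⊤ := by
  classical
  induction s using Finset.induction with
  | empty => intro _ _; simp
  | insert a s has ih =>
    intro hinv hcomm
    rw [eq_top_iff, ← ih (fun b hb => hinv b (Finset.mem_insert_of_mem hb))
      (fun b hb c hc => hcomm b (Finset.mem_insert_of_mem hb) c (Finset.mem_insert_of_mem hc)),
      Submodule.span_le]
    intro v hv
    have key : ∀ ε : F, ε * ε = 1 → v + ε • (a *ᵥ v) ∈
        {v : n → F | ∀ c ∈ insert a s, c *ᵥ v = v ∨ c *ᵥ v = -v} := fun ε hε c hc => by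
      rcases Finset.mem_insert.1 hc with rfl | hc
      · have : c *ᵥ (v + ε • (c *ᵥ v)) = ε • (v + ε • (c *ᵥ v)) := by
          rw [mulVec_add, mulVec_smul, mulVec_mulVec, hinv c (Finset.mem_insert_self _ _), one_mulVec,
            smul_add, smul_smul, hε, one_smul, add_comm]
        rcases mul_self_eq_one_iff.1 hε with rfl | rfl
        · exact Or.inl (this.trans (one_smul _ _))
        · exact Or.inr (this.trans (neg_one_smul _ _))
      · rw [mulVec_add, mulVec_smul, mulVec_mulVec,
          hcomm c (Finset.mem_insert_of_mem hc) a (Finset.mem_insert_self _ _), ← mulVec_mulVec]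
        rcases hv c hc with h | h
        · exact Or.inl (by rw [h])
        · exact Or.inr (by rw [h, mulVec_neg, smul_neg, neg_add])
    have : v = (2 : F)⁻¹ • ((v + (1 : F) • (a *ᵥ v)) + (v + (-1 : F) • (a *ᵥ v))) := by
      rw [one_smul, neg_one_smul, show v + a *ᵥ v + (v + -(a *ᵥ v)) = (2 : F) • v by
        rw [two_smul]; abel, smul_smul, inv_mul_cancel₀ h2, one_smul]
    rw [SetLike.mem_coe, this]
    exact Submodule.smul_mem _ _ (Submodule.add_mem _ (Submodule.subset_span (key 1 (one_mul _)))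
      (Submodule.subset_span (key (-1) (neg_mul_neg 1 1 |>.trans (one_mul _)))))

/-- a basis of common eigenvectors -/
theorem exists_eigbasis [Fintype F] (h2 : (2 : F) ≠ 0) (E : Subgroup (GL n F))
    (hinv : ∀ a ∈ E, a * a = 1) (hcomm : ∀ a ∈ E, ∀ b ∈ E, a * b = b * a) :
    ∃ (b : Module.Basis n F (n → F)) (χ : n → E → F), ∀ i (a : E),
      (χ i a = 1 ∨ χ i a = -1) ∧ ((a : GL n F) : Matrix n n F) *ᵥ b i = χ i a • b i := by
  classical
  let s : Finset (Matrix n n F) := Finset.image (fun a : E => ((a : GL n F) : Matrix n n F)) Finset.univ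
  have hs := span_eigvec_eq_top h2 s
    (fun a ha => by
      obtain ⟨e, -, rfl⟩ := Finset.mem_image.1 ha
      exact congrArg Units.val (hinv e.1 e.2))
    (fun a ha c hc => by
      obtain ⟨e, -, rfl⟩ := Finset.mem_image.1 ha
      obtain ⟨e', -, rfl⟩ := Finset.mem_image.1 hc
      exact congrArg Units.val (hcomm e.1 e.2 e'.1 e'.2))
  obtain ⟨t, hts, htspan, htli⟩ := exists_linearIndependent F
    {v : n → F | ∀ a ∈ s, a *ᵥ v = v ∨ a *ᵥ v = -v}
  rw [hs] at htspan
  let b₀ : Module.Basis t F (n → F) := Module.Basis.mk htli (by rw [Subtype.range_coe, htspan])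
  haveI : Fintype t := FiniteDimensional.fintypeBasisIndex b₀
  let e : t ≃ n := Fintype.equivOfCardEq (by
    rw [← Module.finrank_eq_card_basis b₀, Module.finrank_fintype_fun_eq_card])
  let b := b₀.reindex e
  refine ⟨b, fun i a => if ((a : GL n F) : Matrix n n F) *ᵥ b i = b i then 1 else -1, fun i a => ⟨?_, ?_⟩⟩
  · beta_reduce
    split_ifs <;> simp
  · beta_reduce
    have hmem : b i ∈ {v : n → F | ∀ a ∈ s, a *ᵥ v = v ∨ a *ᵥ v = -v} := by
      refine hts ?_
      simp [b, b₀]
    split_ifs with h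
    · rw [one_smul]; exact h
    · rcases hmem _ (Finset.mem_image_of_mem _ (Finset.mem_univ a)) with h' | h'
      · exact absurd h' h
      · rw [h', neg_one_smul]

theorem eq_of_mulVec_basis {M M' : Matrix n n F} (b : Module.Basis n F (n → F))
    (h : ∀ i, M *ᵥ b i = M' *ᵥ b i) : M = M' :=
  Matrix.toLin'.injective (b.ext fun i => by simpa using h i)

/-- an elementary abelian 2-subgroup has at most `2 ^ n` elements -/
theorem card_le_two_pow [Fintype F] (h2 : (2 : F) ≠ 0) (E : Subgroup (GL n F))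
    (hinv : ∀ a ∈ E, a * a = 1) (hcomm : ∀ a ∈ E, ∀ b ∈ E, a * b = b * a) :
    Nat.card E ≤ 2 ^ Fintype.card n := by
  classical
  obtain ⟨b, χ, hχ⟩ := exists_eigbasis h2 E hinv hcomm
  calc Nat.card E ≤ Nat.card (n → Bool) :=
        Nat.card_le_card_of_injective (fun a i => decide (χ i a = 1)) fun a a' h => by
          refine Subtype.ext (Units.ext (eq_of_mulVec_basis b fun i => ?_))
          have h' := congrFun h i
          simp only [decide_eq_decide] at h'
          rw [(hχ i a).2, (hχ i a').2]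
          congr 1
          rcases (hχ i a).1 with e | e
          · rw [e, h'.1 e]
          · rcases (hχ i a').1 with e' | e'
            · rw [e', h'.2 e']
            · rw [e, e']
    _ = 2 ^ Fintype.card n := by rw [Nat.card_eq_fintype_card, Fintype.card_fun, Fintype.card_bool]

/-- if `Y` normalises `E`, `Y ^ 8 = 1` and `Y - 1` has rank at most 2, then `Y ^ 2` centralises `E` -/
theorem sq_commute [Fintype F] (h2 : (2 : F) ≠ 0) (E : Subgroup (GL n F))
    (hinv : ∀ a ∈ E, a * a = 1) (hcomm : ∀ a ∈ E, ∀ b ∈ E, a * b = b * a) (Y : GL n F)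
    (hY : ∀ a ∈ E, Y⁻¹ * a * Y ∈ E) (h8 : Y ^ 8 = 1)
    (hr : ((Y : Matrix n n F) - 1).rank ≤ 2) : ∀ a ∈ E, a * Y ^ 2 = Y ^ 2 * a := by
  classical
  obtain ⟨b, χ, hχ⟩ := exists_eigbasis h2 E hinv hcomm
  let al : E → E := fun a => ⟨Y⁻¹ * (a : GL n F) * Y, hY _ a.2⟩
  have hal : ∀ (j : ℕ) (a : E), ((al^[j] a : E) : GL n F) = (Y ^ j)⁻¹ * (a : GL n F) * Y ^ j := by
    intro j
    induction j with
    | zero => intro a; simp
    | succ j ih =>
      intro a
      rw [Function.iterate_succ_apply', show ∀ c : E, ((al c : E) : GL n F) = Y⁻¹ * (c : GL n F) * Y from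
        fun _ => rfl, ih, pow_succ]
      group
  have h8' : ∀ a : E, al^[8] a = a := fun a => Subtype.ext (by rw [hal, h8]; simp)
  have heig : ∀ i (j : ℕ) (a : E), ((a : GL n F) : Matrix n n F) *ᵥ (((Y ^ j : GL n F) : Matrix n n F) *ᵥ b i)
      = χ i (al^[j] a) • (((Y ^ j : GL n F) : Matrix n n F) *ᵥ b i) := fun i j a => by
    rw [mulVec_mulVec, ← mulVec_smul, ← (hχ i _).2, mulVec_mulVec, ← Units.val_mul, ← Units.val_mul, hal]
    congr 2
    group
  have main : ∀ i (a : E), χ i (al^[2] a) = χ i a := by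
    by_contra hcon
    push Not at hcon
    obtain ⟨i, a₀, ha₀⟩ := hcon
    -- the four characters are distinct
    let ψ : ℕ → E → F := fun j a => χ i (al^[j] a)
    have hper : ∀ d : ℕ, 0 < d → d ≤ 3 → ∀ c : ℕ, c + d ≤ 3 → ψ c ≠ ψ (c + d) := by
      intro d hd hd3 c hc heq
      have hp : ∀ a : E, χ i (al^[d] a) = χ i a := fun a => by
        have h1 := congrFun heq (al^[8 - c] a)
        simp only [ψ, ← Function.iterate_add_apply] at h1
        rw [show c + (8 - c) = 8 by omega, show c + d + (8 - c) = d + 8 by omega,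
          Function.iterate_add_apply, h8'] at h1
        exact h1.symm
      have hd2 : ∀ a : E, χ i (al^[2] a) = χ i a := by
        interval_cases d
        · intro a
          exact (hp (al a)).trans (hp a)
        · exact hp
        · intro a
          have e1 : ∀ a : E, χ i (al^[9] a) = χ i a := fun a => by
            rw [show (9 : ℕ) = 3 + (3 + 3) from rfl, Function.iterate_add_apply, hp,
              Function.iterate_add_apply, hp, hp]
          have e1' : ∀ a : E, χ i (al a) = χ i a := fun a => by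
            have := e1 a
            rwa [show (9 : ℕ) = 1 + 8 from rfl, Function.iterate_add_apply, h8'] at this
          exact (e1' (al a)).trans (e1' a)
      exact ha₀ (hd2 a₀)
    let w : ℕ → (n → F) := fun j => ((Y ^ j : GL n F) : Matrix n n F) *ᵥ b i
    have hsupp : ∀ j k l, b.repr (w j) l ≠ 0 → b.repr (w k) l ≠ 0 → ψ j = ψ k := by
      intro j k l hj hk
      have key : ∀ j, b.repr (w j) l ≠ 0 → ∀ a : E, χ l a = ψ j a := fun j hj a => by
        have hlin : ∀ v, b.repr (((a : GL n F) : Matrix n n F) *ᵥ v) l = χ l a * b.repr v l := by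
          intro v
          have : (b.coord l).comp (Matrix.mulVecLin ((a : GL n F) : Matrix n n F))
              = χ l a • b.coord l := b.ext fun k' => by
            simp only [LinearMap.comp_apply, Matrix.mulVecLin_apply, LinearMap.smul_apply, (hχ k' a).2,
              map_smul, Module.Basis.coord_apply, Module.Basis.repr_self, smul_eq_mul]
            by_cases hkl : k' = l
            · rw [hkl]
            · rw [Finsupp.single_eq_of_ne (Ne.symm hkl)]; simp
          exact LinearMap.congr_fun this v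
        have h1 := hlin (w j)
        rw [heig, map_smul, Finsupp.smul_apply, smul_eq_mul] at h1
        exact (mul_right_cancel₀ hj h1).symm
      funext a
      rw [← key j hj a, key k hk a]
    have hne : ∀ j, w j ≠ 0 := fun j h => b.ne_zero i (by
      have : (((Y ^ j)⁻¹ : GL n F) : Matrix n n F) *ᵥ w j = b i := by
        rw [mulVec_mulVec, ← Units.val_mul, inv_mul_cancel]; simp
      rw [← this, h, mulVec_zero])
    have hli : LinearIndependent F (fun j : Fin 3 => w (j + 1) - w j) := by
      rw [Fintype.linearIndependent_iff]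
      intro g hg
      have hc : ∀ j : ℕ, j ≤ 3 → ∃ l, b.repr (w j) l ≠ 0 ∧ ∀ k ≤ 3, k ≠ j → b.repr (w k) l = 0 := by
        intro j hj
        obtain ⟨l, hl⟩ : ∃ l, b.repr (w j) l ≠ 0 := by
          by_contra h
          push Not at h
          exact hne j (b.repr.map_eq_zero_iff.1 (Finsupp.ext h))
        refine ⟨l, hl, fun k hk hkj => ?_⟩
        by_contra h
        have e := hsupp j k l hl h
        rcases lt_or_gt_of_ne hkj with hlt | hlt
        · exact hper (j - k) (by omega) (by omega) k (by omega) (by rw [Nat.add_sub_cancel' hlt.le]; exact e.symm)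
        · exact hper (k - j) (by omega) (by omega) j (by omega) (by rw [Nat.add_sub_cancel' hlt.le]; exact e)
      have hev : ∀ l, g 0 * (b.repr (w 1) l - b.repr (w 0) l) + g 1 * (b.repr (w 2) l - b.repr (w 1) l)
          + g 2 * (b.repr (w 3) l - b.repr (w 2) l) = 0 := fun l => by
        have := congrArg (fun v => b.repr v l) hg
        simpa [Fin.sum_univ_three] using this
      obtain ⟨l0, h0, z0⟩ := hc 0 (by omega)
      obtain ⟨l3, h3, z3⟩ := hc 3 (by omega)
      obtain ⟨l1, h1, z1⟩ := hc 1 (by omega)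
      have a0 := hev l0
      rw [z0 1 (by omega) (by omega), z0 2 (by omega) (by omega), z0 3 (by omega) (by omega)] at a0
      have a3 := hev l3
      rw [z3 0 (by omega) (by omega), z3 1 (by omega) (by omega), z3 2 (by omega) (by omega)] at a3
      have a1 := hev l1
      rw [z1 0 (by omega) (by omega), z1 2 (by omega) (by omega), z1 3 (by omega) (by omega)] at a1
      have g0 : g 0 = 0 := by simpa [h0] using a0
      have g2 : g 2 = 0 := by simpa [h3] using a3
      have g1 : g 1 = 0 := by simpa [g0, g2, h1] using a1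
      intro j
      fin_cases j <;> assumption
    have hsub : Submodule.span F (Set.range fun j : Fin 3 => w (j + 1) - w j) ≤
        LinearMap.range ((Y : Matrix n n F) - 1).mulVecLin := by
      rw [Submodule.span_le]
      rintro _ ⟨j, rfl⟩
      refine ⟨w j, ?_⟩
      rw [Matrix.mulVecLin_apply, sub_mulVec, one_mulVec]
      show _ = w (j + 1) - w j
      congr 1
      show (Y : Matrix n n F) *ᵥ (((Y ^ (j : ℕ) : GL n F) : Matrix n n F) *ᵥ b i) = _
      rw [mulVec_mulVec, ← Units.val_mul, ← pow_succ']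
    have := Submodule.finrank_mono hsub
    rw [finrank_span_eq_card hli, Fintype.card_fin] at this
    rw [Matrix.rank] at hr
    omega
  intro a ha
  refine Units.ext (eq_of_mulVec_basis b fun i => ?_)
  rw [Units.val_mul, Units.val_mul, ← mulVec_mulVec, heig i 2 ⟨a, ha⟩, main,
    ← mulVec_mulVec, ← mulVec_smul, (hχ i ⟨a, ha⟩).2]

/-! ### Block monomial groups -/

variable {κ : Type*} [Fintype κ] [DecidableEq κ]

/-- permutations acting on families -/
def permAut (m : ℕ) (D : Type*) [Group D] : Equiv.Perm (Fin m) →* MulAut (Fin m → D) where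
  toFun σ := { toFun := fun f x => f (σ⁻¹ x), invFun := fun f x => f (σ x),
               left_inv := fun f => by funext x; simp, right_inv := fun f => by funext x; simp,
               map_mul' := fun f g => rfl }
  map_one' := by ext f x; simp
  map_mul' σ τ := by ext f x; simp

theorem permAut_apply {m : ℕ} {D : Type*} [Group D] (σ : Equiv.Perm (Fin m)) (f : Fin m → D) (k : Fin m) :
    permAut m D σ f k = f (σ⁻¹ k) := rfl

/-- block monomial matrix of a permutation -/
def blockMat {m : ℕ} (A : Fin m → Matrix κ κ F) (σ : Equiv.Perm (Fin m)) : Matrix (κ × Fin m) (κ × Fin m) F :=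
  Matrix.of fun a b => if b.2 = σ⁻¹ a.2 then A a.2 a.1 b.1 else 0

theorem blockMat_mul {m : ℕ} (A B : Fin m → Matrix κ κ F) (σ τ : Equiv.Perm (Fin m)) :
    blockMat A σ * blockMat B τ = blockMat (fun x => A x * B (σ⁻¹ x)) (σ * τ) := by
  ext ⟨i, x⟩ ⟨k, z⟩
  simp only [blockMat, Matrix.mul_apply, Fintype.sum_prod_type, Matrix.of_apply]
  rw [Finset.sum_comm, Finset.sum_eq_single (σ⁻¹ x) (fun y _ hy => Finset.sum_eq_zero fun a _ => by
      rw [if_neg hy, zero_mul])
    (fun h => absurd (Finset.mem_univ _) h)]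
  simp only [_root_.mul_inv_rev, Equiv.Perm.mul_apply, if_true]
  split_ifs with h
  · rfl
  · simp

variable (F) (κ)

/-- the block group -/
abbrev Block (m δ : ℕ) : Type _ :=
  ((Fin m → GL κ F) ⋊[permAut m (GL κ F)] Equiv.Perm (Fin m)) × (Fin δ → Fˣ)

/-- its natural representation -/
def blockHom (m δ : ℕ) : Block F κ m δ →* Matrix ((κ × Fin m) ⊕ Fin δ) ((κ × Fin m) ⊕ Fin δ) F where
  toFun x := Matrix.fromBlocks (blockMat (fun k => (x.1.left k : Matrix κ κ F)) x.1.right) 0 0
    (Matrix.diagonal fun k => (x.2 k : F))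
  map_one' := by
    have : blockMat (fun _ : Fin m => (1 : Matrix κ κ F)) 1 = 1 := by
      ext ⟨i, x⟩ ⟨j, y⟩
      by_cases hx : x = y <;> simp [blockMat, hx, Ne.symm, Matrix.one_apply, eq_comm]
    simp [this]
  map_mul' x y := by
    rw [Matrix.fromBlocks_multiply, blockMat_mul, Matrix.diagonal_mul_diagonal]
    simp only [Prod.fst_mul, Prod.snd_mul, SemidirectProduct.mul_left, SemidirectProduct.mul_right,
      Pi.mul_apply, Units.val_mul, permAut_apply, Matrix.mul_zero, Matrix.zero_mul, add_zero, zero_add]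

variable {F} {κ}

theorem blockHom_injective [Nonempty κ] (m δ : ℕ) : Function.Injective (blockHom F κ m δ) := by
  intro a b h
  obtain ⟨h1, -, -, h4⟩ := Matrix.fromBlocks_inj.1 h
  have hl : ∀ (x : Fin m) (i j : κ), (a.1.left x : Matrix κ κ F) i j
      = if a.1.right⁻¹ x = b.1.right⁻¹ x then (b.1.left x : Matrix κ κ F) i j else 0 := fun x i j => by
    have := congrFun (congrFun h1 (i, x)) (j, a.1.right⁻¹ x)
    simpa [blockMat] using this
  have hr : a.1.right = b.1.right := by
    refine inv_injective (Equiv.ext fun x => ?_)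
    by_contra hne
    exact (a.1.left x).isUnit.ne_zero (by
      ext i j
      have h' := hl x i j
      rw [if_neg hne] at h'
      exact h')
  refine Prod.ext (SemidirectProduct.ext (funext fun x => Units.ext ?_) hr) (funext fun k => Units.ext ?_)
  · ext i j; simpa [hr] using hl x i j
  · simpa using congrFun (congrFun h4 k) k

/-- central signs in each block -/
def signHom (m δ : ℕ) : (Fin m → ℤˣ) × (Fin δ → ℤˣ) →* Block F κ m δ :=
  ((SemidirectProduct.inl.comp ((Units.map (Int.castRingHom (Matrix κ κ F)).toMonoidHom).compLeft (Fin m)))).prodMap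
    ((Units.map (Int.castRingHom F).toMonoidHom).compLeft (Fin δ))

theorem signHom_injective [Nonempty κ] (h2 : (2 : F) ≠ 0) (m δ : ℕ) : Function.Injective (signHom (F := F) (κ := κ) m δ) := by
  have hne : (1 : F) ≠ -1 := fun h => h2 (by linear_combination h)
  have hF : Function.Injective (Units.map (Int.castRingHom F).toMonoidHom) := fun a b h => by
    have := congrArg Units.val h
    rcases Int.units_eq_one_or a with rfl | rfl <;> rcases Int.units_eq_one_or b with rfl | rfl <;>
      simp at this <;> first | rfl | exact absurd this hne | exact absurd this.symm hne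
  have hM : Function.Injective (Units.map (Int.castRingHom (Matrix κ κ F)).toMonoidHom) := fun a b h => by
    have := congrArg Units.val h
    obtain ⟨i⟩ := ‹Nonempty κ›
    have := congrFun (congrFun this i) i
    rcases Int.units_eq_one_or a with rfl | rfl <;> rcases Int.units_eq_one_or b with rfl | rfl <;>
      simp at this <;> first | rfl | exact absurd this hne | exact absurd this.symm hne
  rintro ⟨a, c⟩ ⟨a', c'⟩ h
  obtain ⟨h1, h3⟩ := Prod.mk.inj h
  exact Prod.ext (funext fun k => hM (congrFun (SemidirectProduct.inl_injective h1) k))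
    (funext fun k => hF (congrFun h3 k))

theorem signHom_normal (m δ : ℕ) : (signHom (F := F) (κ := κ) m δ).range.Normal := by
  refine ⟨?_⟩
  rintro _ ⟨⟨a, c⟩, rfl⟩ x
  refine ⟨⟨fun k => a (x.1.right⁻¹ k), c⟩, Prod.ext (SemidirectProduct.ext (funext fun k => ?_) ?_) ?_⟩
  · have hc : ∀ (e : ℤˣ) (M : GL κ F), Commute M (Units.map (Int.castRingHom (Matrix κ κ F)).toMonoidHom e) :=
      fun e M => Units.ext (Int.cast_commute _ _).symm.eq
    obtain ⟨⟨A, σ⟩, u⟩ := x
    show Units.map (Int.castRingHom (Matrix κ κ F)).toMonoidHom (a (σ⁻¹ k))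
      = (⟨A, σ⟩ * SemidirectProduct.inl (fun j => Units.map (Int.castRingHom (Matrix κ κ F)).toMonoidHom (a j))
          * ⟨A, σ⟩⁻¹ : (Fin m → GL κ F) ⋊[permAut m (GL κ F)] Equiv.Perm (Fin m)).left k
    simp only [SemidirectProduct.mul_left, SemidirectProduct.mul_right, SemidirectProduct.inv_left,
      SemidirectProduct.left_inl, SemidirectProduct.right_inl, permAut_apply, Pi.mul_apply, Pi.inv_apply,
      inv_inv, mul_one, Equiv.Perm.inv_def, Equiv.symm_symm, Equiv.apply_symm_apply]
    rw [(hc _ _).eq, mul_assoc, mul_inv_cancel, mul_one]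
  · simp [signHom]
  · simp [signHom, mul_comm]

theorem natCard_block [Fintype F] (m δ : ℕ) :
    Nat.card (Block F κ m δ) = Nat.card (GL κ F) ^ m * m.factorial * (Fintype.card F - 1) ^ δ := by
  rw [Nat.card_prod, SemidirectProduct.card, Nat.card_fun, Nat.card_fun, Nat.card_perm, Nat.card_units]
  simp [Nat.card_eq_fintype_card]

theorem v_block [Fintype F] (m δ : ℕ) :
    (Nat.card (Block F κ m δ)).factorization 2 =
      m * (Nat.card (GL κ F)).factorization 2 + padicValNat 2 m.factorial + δ * padicValNat 2 (Fintype.card F - 1) := by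
  have : 2 ≤ Fintype.card F := Fintype.one_lt_card
  rw [natCard_block, Nat.factorization_mul (mul_ne_zero (pow_ne_zero _ Nat.card_pos.ne') m.factorial_ne_zero)
      (pow_ne_zero _ (by omega)),
    Nat.factorization_mul (pow_ne_zero _ Nat.card_pos.ne') m.factorial_ne_zero, Finsupp.add_apply,
    Finsupp.add_apply, Nat.factorization_pow, Nat.factorization_pow, Finsupp.smul_apply, Finsupp.smul_apply]
  simp [Nat.factorization_def _ Nat.prime_two]

/-- from a group with full 2-part to a Sylow subgroup -/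
theorem exists_normal_elab {X G : Type*} [Group X] [Finite X] [Group G] [Finite G] (f : X →* G)
    (hf : Function.Injective f) (hv : (Nat.card X).factorization 2 = (Nat.card G).factorization 2)
    (E : Subgroup X) (hE : E.Normal) (hEa : Cfsg.IsElementaryAbelian 2 E) (S : Sylow 2 G) :
    ∃ E' : Subgroup (S : Subgroup G), E'.Normal ∧ Cfsg.IsElementaryAbelian 2 E' ∧ Nat.card E' = Nat.card E := by
  haveI : Fact (Nat.Prime 2) := ⟨Nat.prime_two⟩
  haveI := hE
  obtain ⟨P⟩ : Nonempty (Sylow 2 X) := inferInstance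
  have hEP : E ≤ P := IsPGroup.le_sylow_of_normal (fun a => ⟨1, Subtype.ext (hEa.2 a a.2)⟩) P
  obtain ⟨e⟩ := exists_sylow_equiv (f.comp (P : Subgroup X).subtype) (hf.comp Subtype.val_injective)
    (by rw [Sylow.card_eq_multiplicity, hv]) S
  refine ⟨(E.subgroupOf P).map e.toMonoidHom, ?_, ⟨?_, ?_⟩, ?_⟩
  · exact (Subgroup.Normal.subgroupOf hE _).map _ e.surjective
  · refine ⟨⟨?_⟩⟩
    rintro ⟨_, x, hx, rfl⟩ ⟨_, y, hy, rfl⟩
    refine Subtype.ext ?_
    show e x * e y = e y * e x
    rw [← map_mul, ← map_mul]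
    congr 1
    exact Subtype.ext (congrArg (fun c : E => (c : X)) (hEa.1.is_comm.comm ⟨x.1, hx⟩ ⟨y.1, hy⟩))
  · rintro _ ⟨x, hx, rfl⟩
    show e x ^ 2 = 1
    rw [← map_pow, show x ^ 2 = 1 from Subtype.ext (hEa.2 x.1 hx), map_one]
  · rw [Subgroup.card_map_of_injective e.injective, Nat.card_congr (Subgroup.subgroupOfEquivOfLe hEP).toEquiv]

variable [Fintype F]

/-- the representation moved to `GL_n` -/
noncomputable def toGLn {m δ n : ℕ} (e : (κ × Fin m) ⊕ Fin δ ≃ Fin n) : Block F κ m δ →* GL (Fin n) F :=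
  (reindexHom e (blockHom F κ m δ)).toHomUnits

theorem lower [Nonempty κ] (h2 : (2 : F) ≠ 0) {m δ n : ℕ} (e : (κ × Fin m) ⊕ Fin δ ≃ Fin n)
    (hv : (Nat.card (GL (Fin n) F)).factorization 2
      = m * (Nat.card (GL κ F)).factorization 2 + padicValNat 2 m.factorial + δ * padicValNat 2 (Fintype.card F - 1))
    (S : Sylow 2 (GL (Fin n) F)) :
    ∃ E : Subgroup (S : Subgroup (GL (Fin n) F)), E.Normal ∧ Cfsg.IsElementaryAbelian 2 E ∧ 2 ^ (m + δ) ≤ Nat.card E := by
  haveI : Finite (Block F κ m δ) := Nat.finite_of_card_ne_zero (by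
    rw [natCard_block]
    have : 2 ≤ Fintype.card F := Fintype.one_lt_card
    exact mul_ne_zero (mul_ne_zero (pow_ne_zero _ Nat.card_pos.ne') m.factorial_ne_zero) (pow_ne_zero _ (by omega)))
  obtain ⟨E, hE1, hE2, hE3⟩ := exists_normal_elab (toGLn (F := F) e)
    (fun a b h => reindexHom_injective e _ (blockHom_injective m δ) (congrArg Units.val h))
    (by rw [v_block, hv]) (signHom m δ).range (signHom_normal m δ)
    ⟨⟨⟨by
      rintro ⟨_, x, rfl⟩ ⟨_, y, rfl⟩
      refine Subtype.ext ?_
      show signHom m δ x * signHom m δ y = signHom m δ y * signHom m δ x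
      rw [← map_mul, ← map_mul, mul_comm]⟩⟩, by
      rintro _ ⟨x, rfl⟩
      rw [← map_pow, show x ^ 2 = 1 from Prod.ext (funext fun _ => Int.units_sq _) (funext fun _ => Int.units_sq _),
        map_one]⟩ S
  refine ⟨E, hE1, hE2, le_of_eq ?_⟩
  rw [hE3, ← Nat.card_congr (MonoidHom.ofInjective (signHom_injective h2 m δ)).toEquiv]
  simp [Nat.card_eq_fintype_card, pow_add]

/-! ### Upper bound for `q ≡ 3 (mod 4)` -/

open scoped _root_.Classical in
theorem exists_root (hq3 : Fintype.card F % 4 = 3) :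
    ∃ a : F, (2 * a ^ 2 = 1 ∨ 2 * a ^ 2 = -1) := by
  have hc : ringChar F ≠ 2 := fun h => by
    have := FiniteField.even_card_of_char_two h
    omega
  have h2 : (2 : F) ≠ 0 := Ring.two_ne_zero hc
  rcases em (IsSquare ((2 : F)⁻¹)) with ⟨a, ha⟩ | hns
  · exact ⟨a, Or.inl (by rw [sq, ← ha, mul_inv_cancel₀ h2])⟩
  · have hm1 : ¬ IsSquare (-1 : F) := fun h => by
      rw [FiniteField.isSquare_neg_one_iff] at h; omega
    have h1 := (quadraticChar_neg_one_iff_not_isSquare (F := F)).2 hns
    have h3 := (quadraticChar_neg_one_iff_not_isSquare (F := F)).2 hm1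
    obtain ⟨a, ha⟩ : IsSquare (-1 * (2 : F)⁻¹) := by
      rw [← quadraticChar_one_iff_isSquare (mul_ne_zero (neg_ne_zero.2 one_ne_zero) (inv_ne_zero h2)), map_mul, h1, h3]
      rfl
    exact ⟨a, Or.inr (by rw [sq, ← ha]; field_simp)⟩

open scoped _root_.Classical in
theorem upper3 (hq3 : Fintype.card F % 4 = 3) {m δ n : ℕ} (hδ : δ ≤ 1) (e : (Fin 2 × Fin m) ⊕ Fin δ ≃ Fin n)
    (S : Sylow 2 (GL (Fin n) F)) (E : Subgroup (S : Subgroup (GL (Fin n) F))) (hEn : E.Normal)
    (hE : Cfsg.IsElementaryAbelian 2 E) : Nat.card E ≤ 2 ^ (m + δ) := by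
  classical
  haveI : Fact (Nat.Prime 2) := ⟨Nat.prime_two⟩
  have h2 : (2 : F) ≠ 0 := Ring.two_ne_zero fun h => by
    have := FiniteField.even_card_of_char_two h
    omega
  obtain ⟨a, ha⟩ := exists_root hq3
  let J : Matrix (Fin 2) (Fin 2) F := !![0, -1; 1, 0]
  have hJ : J * J = -1 := by ext i j; fin_cases i <;> fin_cases j <;> simp [J, Matrix.mul_apply]
  let z : Matrix (Fin 2) (Fin 2) F := (2 * a ^ 2) • J
  let y : Matrix (Fin 2) (Fin 2) F := a • (1 + J)
  have hy2 : y * y = z := by
    simp only [y, z, smul_mul_smul_comm, mul_add, add_mul, one_mul, mul_one, hJ]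
    rw [show (1 : Matrix (Fin 2) (Fin 2) F) + J + (J + -1) = (2 : F) • J by rw [two_smul]; abel, smul_smul]
    congr 1; ring
  have hy8 : y ^ 8 = 1 := by
    have h4 : (z * z) = -1 := by
      simp only [z, smul_mul_smul_comm, hJ]
      rw [show 2 * a ^ 2 * (2 * a ^ 2) = 1 by rcases ha with h | h <;> rw [h] <;> ring, one_smul]
    rw [show (8 : ℕ) = 2 * 2 * 2 from rfl, pow_mul, pow_mul, pow_two y, hy2, pow_two z, h4, neg_one_sq]
  let yu : GL (Fin 2) F := Units.ofPowEqOne y 8 hy8 (by norm_num)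
  let ι : (Fin m → GL (Fin 2) F) →* GL (Fin n) F :=
    (toGLn (F := F) e).comp ((MonoidHom.inl _ _).comp SemidirectProduct.inl)
  let D₀ : Subgroup (GL (Fin n) F) := (Subgroup.pi Set.univ fun _ : Fin m => Subgroup.zpowers yu).map ι
  have hD₀ : IsPGroup 2 D₀ := by
    refine IsPGroup.map ?_ ι
    intro g
    refine ⟨3, Subtype.ext (funext fun k => ?_)⟩
    obtain ⟨l, hl⟩ := Subgroup.mem_zpowers_iff.1 (g.2 k (Set.mem_univ k))
    show (g : Fin m → GL (Fin 2) F) k ^ 8 = 1
    rw [← hl, ← zpow_natCast, ← _root_.zpow_mul, mul_comm, _root_.zpow_mul, zpow_natCast,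
      show yu ^ 8 = 1 from Units.pow_ofPowEqOne hy8 (by norm_num), _root_.one_zpow]
  obtain ⟨S', hS'⟩ := hD₀.exists_le_sylow
  obtain ⟨c, hc⟩ := MulAction.exists_smul_eq (GL (Fin n) F) S S'
  let cj : GL (Fin n) F →* GL (Fin n) F := (MulAut.conj c).toMonoidHom
  let E' : Subgroup (GL (Fin n) F) := (E.map (S : Subgroup (GL (Fin n) F)).subtype).map cj
  have hcard : Nat.card E' = Nat.card E := by
    rw [Subgroup.card_map_of_injective (MulAut.conj c).injective,
      Subgroup.card_map_of_injective Subtype.val_injective]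
  have hinv : ∀ x ∈ E', x * x = 1 := by
    rintro _ ⟨_, ⟨x, hx, rfl⟩, rfl⟩
    rw [← map_mul, ← map_mul, ← pow_two, hE.2 x hx, map_one, map_one]
  have hcomm : ∀ x ∈ E', ∀ w ∈ E', x * w = w * x := by
    rintro _ ⟨_, ⟨x, hx, rfl⟩, rfl⟩ _ ⟨_, ⟨w, hw, rfl⟩, rfl⟩
    rw [← map_mul, ← map_mul, ← map_mul, ← map_mul]
    congr 2
    exact congrArg Subtype.val (hE.1.is_comm.comm ⟨x, hx⟩ ⟨w, hw⟩)
  have hnorm : ∀ d ∈ D₀, ∀ x ∈ E', d⁻¹ * x * d ∈ E' := by
    intro d hd
    have hd' : d ∈ ((c • S : Sylow 2 (GL (Fin n) F)) : Subgroup (GL (Fin n) F)) := by rw [hc]; exact hS' hd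
    obtain ⟨s, hs, rfl⟩ := hd'
    rintro _ ⟨_, ⟨x, hx, rfl⟩, rfl⟩
    refine ⟨_, ⟨(⟨s, hs⟩ : (S : Subgroup (GL (Fin n) F)))⁻¹ * x * ⟨s, hs⟩, ?_, rfl⟩, ?_⟩
    · have := hEn.conj_mem x hx (⟨s, hs⟩ : (S : Subgroup (GL (Fin n) F)))⁻¹
      rwa [inv_inv] at this
    · show cj (s⁻¹ * (x : GL (Fin n) F) * s) = (cj s)⁻¹ * cj x * cj s
      rw [map_mul, map_mul, map_inv]
  rw [← hcard]
  -- everything is scalar in each block
  let Bl : GL (Fin n) F → Matrix ((Fin 2 × Fin m) ⊕ Fin δ) ((Fin 2 × Fin m) ⊕ Fin δ) F :=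
    fun x => Matrix.reindex e.symm e.symm (x : Matrix (Fin n) (Fin n) F)
  have hBlmul : ∀ x w, Bl (x * w) = Bl x * Bl w := fun x w => by simp [Bl, Matrix.submatrix_mul_equiv]
  have hBlι : ∀ f, Bl (ι f) = blockHom F (Fin 2) m δ (SemidirectProduct.inl f, 1) := fun f => by
    simp [Bl, ι, toGLn, reindexHom]
  let Z : Fin m → Matrix ((Fin 2 × Fin m) ⊕ Fin δ) ((Fin 2 × Fin m) ⊕ Fin δ) F := fun k =>
    Matrix.fromBlocks (Matrix.of fun p r => if r.2 = p.2 then (if p.2 = k then z else 1) p.1 r.1 else 0) 0 0 1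
  have hZ : ∀ x ∈ E', ∀ k, Bl x * Z k = Z k * Bl x := by
    intro x hx k
    have hY : ι (Pi.mulSingle k yu) ∈ D₀ := Subgroup.mem_map_of_mem ι (fun l _ => by
      rcases eq_or_ne l k with rfl | h
      · simp
      · simp [h])
    have hr : (((ι (Pi.mulSingle k yu) : GL (Fin n) F) : Matrix (Fin n) (Fin n) F) - 1).rank ≤ 2 := by
      rw [← Matrix.rank_reindex e.symm e.symm]
      show (((Matrix.reindexAlgEquiv F F e.symm)) (_ - 1)).rank ≤ 2
      rw [map_sub, map_one, Matrix.reindexAlgEquiv_apply, show Matrix.reindex e.symm e.symm _ = Bl _ from rfl, hBlι]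
      let P : Matrix ((Fin 2 × Fin m) ⊕ Fin δ) (Fin 2) F :=
        Matrix.of fun p i => if p = Sum.inl (i, k) then 1 else 0
      let R : Matrix (Fin 2) ((Fin 2 × Fin m) ⊕ Fin δ) F :=
        Matrix.of fun i r => Sum.elim (fun r => if r.2 = k then (y - 1) i r.1 else 0) (fun _ => 0) r
      have hPR : blockHom F (Fin 2) m δ (SemidirectProduct.inl (Pi.mulSingle k yu), 1) - 1 = P * R := by
        ext p r
        rcases p with ⟨i, x⟩ | x <;> rcases r with ⟨j, w⟩ | w <;>
          simp only [P, R, blockHom, blockMat, MonoidHom.coe_mk, OneHom.coe_mk, Matrix.sub_apply, Matrix.mul_apply,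
            Matrix.of_apply, Matrix.fromBlocks_apply₁₁, Matrix.fromBlocks_apply₁₂, Matrix.fromBlocks_apply₂₁,
            Matrix.fromBlocks_apply₂₂, SemidirectProduct.left_inl, SemidirectProduct.right_inl, Sum.elim_inl,
            Sum.elim_inr, inv_one, Equiv.Perm.coe_one, id_eq]
        · rcases eq_or_ne x k with rfl | hxk
          · rcases eq_or_ne w x with rfl | hwx
            · simp [yu, Matrix.one_apply]
            · simp [hwx, Matrix.one_apply, Ne.symm hwx]
          · rcases eq_or_ne w x with rfl | hwx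
            · simp [hxk, Matrix.one_apply]
            · simp [hxk, hwx, Matrix.one_apply, Ne.symm hwx]
        all_goals simp [Matrix.one_apply, Matrix.diagonal_apply, eq_comm]
      rw [hPR]
      exact (Matrix.rank_mul_le_right _ _).trans ((Matrix.rank_le_card_height _).trans (by simp))
    have h8 : ι (Pi.mulSingle k yu) ^ 8 = 1 := by
      rw [← map_pow, ← Pi.mulSingle_pow, show yu ^ 8 = 1 from Units.pow_ofPowEqOne hy8 (by norm_num),
        Pi.mulSingle_one, map_one]
    have h := congrArg Bl (sq_commute h2 E' hinv hcomm (ι (Pi.mulSingle k yu)) (hnorm _ hY) h8 hr x hx)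
    rw [← map_pow, hBlmul, hBlmul, hBlι, ← Pi.mulSingle_pow] at h
    convert h using 2 <;>
    · simp only [Z, blockHom, blockMat, MonoidHom.coe_mk, OneHom.coe_mk, SemidirectProduct.left_inl,
        SemidirectProduct.right_inl, Pi.one_apply, Units.val_one, Matrix.diagonal_one]
      congr 1
      ext p r
      rcases eq_or_ne p.2 k with h | h
      · simp [h, ← hy2, yu, pow_two]
      · simp [h]
  have hzent : ∀ b : Fin 2, z b b = 0 ∧ z b (1 - b) ≠ 0 ∧ z 0 1 = -z 1 0 := by
    have hc : (2 * a ^ 2) ≠ 0 := by rcases ha with h | h <;> rw [h] <;> simp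
    intro b; fin_cases b <;> simp [z, J, hc] <;> exact (mul_ne_zero_iff.1 hc)
  -- the block entries
  have hent : ∀ x ∈ E', (∀ p r, Bl x p r ≠ 0 → p = r) ∧
      (∀ k, Bl x (Sum.inl (0, k)) (Sum.inl (0, k)) = Bl x (Sum.inl (1, k)) (Sum.inl (1, k))) := by
    intro x hx
    set M := Bl x with hM
    obtain ⟨c₁, hc₁, hz01, hz10⟩ : ∃ c₁ : F, c₁ ≠ 0 ∧ z 0 1 = -c₁ ∧ z 1 0 = c₁ :=
      ⟨z 1 0, (hzent 1).2.1, (hzent 0).2.2, rfl⟩
    have hz00 := (hzent 0).1
    have hz11 := (hzent 1).1
    have hc1sq : c₁ * c₁ = 1 := by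
      have h : c₁ = 2 * a ^ 2 := by rw [← hz10]; simp [z, J]
      rcases ha with h' | h' <;> rw [h, h'] <;> ring
    have off1 : ∀ (p : (Fin 2 × Fin m) ⊕ Fin δ) k, (∀ i, p ≠ Sum.inl (i, k)) →
        ∀ i, M p (Sum.inl (i, k)) = 0 ∧ M (Sum.inl (i, k)) p = 0 := by
      intro p k hp
      have hcol : ∀ j, M p (Sum.inl (0, k)) * z 0 j + M p (Sum.inl (1, k)) * z 1 j = M p (Sum.inl (j, k)) := by
        intro j
        have h := congrFun (congrFun (hZ x hx k) p) (Sum.inl (j, k))
        simp only [Matrix.mul_apply, Fintype.sum_sum_type, Fintype.sum_prod_type] at h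
        rcases p with ⟨i, w⟩ | w
        · have hw : w ≠ k := fun e => hp i (by rw [e])
          simpa [Z, hw, Ne.symm hw, Fin.sum_univ_two, Finset.sum_ite_eq', Matrix.one_apply, hM] using h
        · simpa [Z, Fin.sum_univ_two, Finset.sum_ite_eq', Matrix.one_apply, hM] using h
      have hrow : ∀ j, z j 0 * M (Sum.inl (0, k)) p + z j 1 * M (Sum.inl (1, k)) p = M (Sum.inl (j, k)) p := by
        intro j
        have h := (congrFun (congrFun (hZ x hx k) (Sum.inl (j, k))) p).symm
        simp only [Matrix.mul_apply, Fintype.sum_sum_type, Fintype.sum_prod_type] at h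
        rcases p with ⟨i, w⟩ | w
        · have hw : w ≠ k := fun e => hp i (by rw [e])
          simpa [Z, hw, Ne.symm hw, Fin.sum_univ_two, Finset.sum_ite_eq, Matrix.one_apply, hM] using h
        · simpa [Z, Fin.sum_univ_two, Finset.sum_ite_eq, Matrix.one_apply, hM] using h
      have c0 := hcol 0; have c1' := hcol 1; have r0 := hrow 0; have r1 := hrow 1
      rw [hz00, hz10] at c0; rw [hz01, hz11] at c1'; rw [hz00, hz01] at r0; rw [hz10, hz11] at r1
      have A0 : M p (Sum.inl (0, k)) = 0 := by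
        have e : (2 : F) * M p (Sum.inl (0, k)) = 0 := by
          linear_combination (-1 : F) * c0 - c₁ * c1' - M p (Sum.inl (0, k)) * hc1sq
        exact (mul_eq_zero.1 e).resolve_left h2
      have A1 : M p (Sum.inl (1, k)) = 0 := by linear_combination (-1 : F) * c1' - c₁ * A0
      have B0 : M (Sum.inl (0, k)) p = 0 := by
        have e : (2 : F) * M (Sum.inl (0, k)) p = 0 := by
          linear_combination (-1 : F) * r0 + c₁ * r1 - M (Sum.inl (0, k)) p * hc1sq
        exact (mul_eq_zero.1 e).resolve_left h2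
      have B1 : M (Sum.inl (1, k)) p = 0 := by linear_combination (-1 : F) * r1 + c₁ * B0
      intro i; fin_cases i
      · exact ⟨A0, B0⟩
      · exact ⟨A1, B1⟩
    have hin : ∀ k, M (Sum.inl (0, k)) (Sum.inl (1, k)) = 0 ∧ M (Sum.inl (1, k)) (Sum.inl (0, k)) = 0 ∧
        M (Sum.inl (0, k)) (Sum.inl (0, k)) = M (Sum.inl (1, k)) (Sum.inl (1, k)) := by
      intro k
      have h00 := congrFun (congrFun (hZ x hx k) (Sum.inl (0, k))) (Sum.inl (0, k))
      have h01 := congrFun (congrFun (hZ x hx k) (Sum.inl (0, k))) (Sum.inl (1, k))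
      simp only [Matrix.mul_apply, Fintype.sum_sum_type, Fintype.sum_prod_type] at h00 h01
      simp [Z, Fin.sum_univ_two, Finset.sum_ite_eq', Finset.sum_ite_eq, Matrix.one_apply, ← hM, hz00, hz01, hz10, hz11] at h00 h01
      have hsum : M (Sum.inl (0, k)) (Sum.inl (1, k)) + M (Sum.inl (1, k)) (Sum.inl (0, k)) = 0 := by
        have e : c₁ * (M (Sum.inl (0, k)) (Sum.inl (1, k)) + M (Sum.inl (1, k)) (Sum.inl (0, k))) = 0 := by
          linear_combination h00
        exact (mul_eq_zero.1 e).resolve_left hc₁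
      have hdiag : M (Sum.inl (0, k)) (Sum.inl (0, k)) = M (Sum.inl (1, k)) (Sum.inl (1, k)) := by
        have e : c₁ * (M (Sum.inl (1, k)) (Sum.inl (1, k)) - M (Sum.inl (0, k)) (Sum.inl (0, k))) = 0 := by
          linear_combination -h01
        exact (sub_eq_zero.1 ((mul_eq_zero.1 e).resolve_left hc₁)).symm
      -- the square of the block
      have hsq : M * M = 1 := by rw [hM, ← hBlmul, hinv x hx]; simp [Bl]
      have s00 := congrFun (congrFun hsq (Sum.inl (0, k))) (Sum.inl (0, k))
      have s10 := congrFun (congrFun hsq (Sum.inl (1, k))) (Sum.inl (0, k))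
      rw [Matrix.mul_apply, Fintype.sum_sum_type, Fintype.sum_prod_type, Fin.sum_univ_two,
        Finset.sum_eq_single k (fun w _ hw => by rw [((off1 (Sum.inl (0, w)) k (fun i => by simp [hw])) 0).2]; simp)
          (by simp),
        Finset.sum_eq_single k (fun w _ hw => by rw [((off1 (Sum.inl (1, w)) k (fun i => by simp [hw])) 0).2]; simp)
          (by simp),
        Finset.sum_eq_zero (fun w _ => by rw [((off1 (Sum.inr w) k (fun i => by simp)) 0).2]; simp), add_zero,
        Matrix.one_apply_eq] at s00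
      rw [Matrix.mul_apply, Fintype.sum_sum_type, Fintype.sum_prod_type, Fin.sum_univ_two,
        Finset.sum_eq_single k (fun w _ hw => by rw [((off1 (Sum.inl (0, w)) k (fun i => by simp [hw])) 1).2]; simp)
          (by simp),
        Finset.sum_eq_single k (fun w _ hw => by rw [((off1 (Sum.inl (1, w)) k (fun i => by simp [hw])) 1).2]; simp)
          (by simp),
        Finset.sum_eq_zero (fun w _ => by rw [((off1 (Sum.inr w) k (fun i => by simp)) 1).2]; simp), add_zero,
        Matrix.one_apply_ne (by simp)] at s10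
      have hb : M (Sum.inl (1, k)) (Sum.inl (0, k)) = 0 := by
        have e : (2 : F) * (M (Sum.inl (0, k)) (Sum.inl (0, k)) * M (Sum.inl (1, k)) (Sum.inl (0, k))) = 0 := by
          rw [← hdiag] at s10
          linear_combination s10
        rcases mul_eq_zero.1 ((mul_eq_zero.1 e).resolve_left h2) with e0 | e0
        · exfalso
          rw [e0, zero_mul, zero_add, eq_neg_of_add_eq_zero_left hsum] at s00
          have : IsSquare (-1 : F) := ⟨M (Sum.inl (1, k)) (Sum.inl (0, k)), by linear_combination s00⟩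
          rw [FiniteField.isSquare_neg_one_iff] at this
          omega
        · exact e0
      refine ⟨?_, hb, hdiag⟩
      rw [hb, add_zero] at hsum; exact hsum
    refine ⟨fun p r hne => ?_, fun k => (hin k).2.2⟩
    by_contra hpr
    rcases p with ⟨i, k⟩ | w <;> rcases r with ⟨j, l⟩ | w'
    · rcases eq_or_ne l k with rfl | hlk
      · obtain ⟨h01, h10, -⟩ := hin l
        fin_cases i <;> fin_cases j <;> first | exact hpr rfl | exact hne h01 | exact hne h10
      · exact hne (off1 (Sum.inl (i, k)) l (fun i' => by simp [Ne.symm hlk]) j).1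
    · exact hne (off1 (Sum.inr w') k (fun i' => by simp) i).2
    · exact hne (off1 (Sum.inr w) l (fun i' => by simp) j).1
    · exact hpr (congrArg Sum.inr (haveI := Fin.subsingleton_iff_le_one.2 hδ; Subsingleton.elim w w'))
  calc Nat.card E' ≤ Nat.card ((Fin m → Bool) × (Fin δ → Bool)) := by
        refine Nat.card_le_card_of_injective (fun x =>
          ((fun k => decide (Bl x.1 (Sum.inl (0, k)) (Sum.inl (0, k)) = 1)),
            (fun w => decide (Bl x.1 (Sum.inr w) (Sum.inr w) = 1)))) fun x w h => ?_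
        have pm : ∀ u ∈ E', ∀ p, Bl u p p = 1 ∨ Bl u p p = -1 := fun u hu p => by
          have h1 : (Bl u * Bl u) p p = 1 := by rw [← hBlmul, hinv u hu]; simp [Bl]
          rw [Matrix.mul_apply, Finset.sum_eq_single p (fun r _ hr => by
            by_contra hc'
            exact hr ((hent u hu).1 p r (left_ne_zero_of_mul hc')).symm) (by simp)] at h1
          exact mul_self_eq_one_iff.1 h1
        have hdec : ∀ p, decide (Bl x.1 p p = 1) = decide (Bl w.1 p p = 1) → Bl x.1 p p = Bl w.1 p p := fun p hp => by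
          rw [decide_eq_decide] at hp
          rcases pm x.1 x.2 p with e1 | e1
          · rw [e1, hp.1 e1]
          · rcases pm w.1 w.2 p with e2 | e2
            · rw [e2, hp.2 e2]
            · rw [e1, e2]
        obtain ⟨hf, hg⟩ := Prod.mk.inj h
        refine Subtype.ext (Units.ext ((Matrix.reindex e.symm e.symm).injective ?_))
        show Bl x.1 = Bl w.1
        ext p r
        rcases eq_or_ne p r with rfl | hpr
        · rcases p with ⟨i, k⟩ | u
          · have := hdec _ (congrFun hf k)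
            fin_cases i
            · exact this
            · exact ((hent x.1 x.2).2 k).symm.trans (this.trans ((hent w.1 w.2).2 k))
          · exact hdec _ (congrFun hg u)
        · rw [not_not.1 (fun hne => hpr ((hent x.1 x.2).1 p r hne)),
            not_not.1 (fun hne => hpr ((hent w.1 w.2).1 p r hne))]
    _ = 2 ^ (m + δ) := by simp [Nat.card_eq_fintype_card, pow_add]

theorem v_pow_sub_one_one_mod_four {q : ℕ} (hq4 : q % 4 = 1) (hq2 : 2 ≤ q) {i : ℕ} (hi : i ≠ 0) :
    padicValNat 2 (q ^ i - 1) = padicValNat 2 (q - 1) + padicValNat 2 i := by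
  have hq : Odd q := Nat.odd_iff.2 (by omega)
  rcases Nat.even_or_odd' i with ⟨k, rfl | rfl⟩
  · have hk : k ≠ 0 := by omega
    have h1 : q ^ 2 - 1 = (q - 1) * (q + 1) := by
      rw [show q ^ 2 - 1 = q ^ 2 - 1 ^ 2 by simp, Nat.sq_sub_sq, mul_comm]
    have h2 : padicValNat 2 (q + 1) = 1 := by
      obtain ⟨l, hl⟩ : ∃ l, q + 1 = 2 * (2 * l + 1) := ⟨q / 4, by omega⟩
      rw [hl, padicValNat.mul two_ne_zero (by omega), padicValNat.self one_lt_two,
        padicValNat.eq_zero_of_not_dvd (by omega)]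
    rw [v_even hq hq2 hk, h1, padicValNat.mul (by omega) (by omega), h2, padicValNat.mul two_ne_zero hk,
      padicValNat.self one_lt_two]
    omega
  · rw [v_odd hq (odd_two_mul_add_one k), padicValNat.eq_zero_of_not_dvd (show ¬ 2 ∣ 2 * k + 1 by omega), add_zero]

theorem v_glProd_one_mod_four {q : ℕ} (hq4 : q % 4 = 1) (hq2 : 2 ≤ q) : ∀ n : ℕ,
    padicValNat 2 (glProd q n) = n * padicValNat 2 (q - 1) + padicValNat 2 n.factorial
  | 0 => by simp [glProd]
  | n + 1 => by
    rw [show glProd q (n + 1) = glProd q n * (q ^ (n + 1) - 1) from Finset.prod_range_succ _ _,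
      padicValNat.mul (glProd_ne_zero hq2 _) (pred_pow_ne_zero hq2 (by omega)),
      v_glProd_one_mod_four hq4 hq2 n, v_pow_sub_one_one_mod_four hq4 hq2 n.succ_ne_zero, Nat.factorial_succ,
      padicValNat.mul n.succ_ne_zero n.factorial_ne_zero, Nat.add_one_mul]
    ring

theorem main {q : ℕ} (hF : Fintype.card F = q) (hodd : Odd q) (n : ℕ)
    (S : Sylow 2 (GL (Fin n) F)) :
    (q % 4 = 1 → ((∃ E : Subgroup (S : Subgroup (GL (Fin n) F)), E.Normal ∧ Cfsg.IsElementaryAbelian 2 E ∧ 2 ^ n ≤ Nat.card E) ∧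
      ∀ E : Subgroup (S : Subgroup (GL (Fin n) F)), E.Normal → Cfsg.IsElementaryAbelian 2 E → Nat.card E ≤ 2 ^ n)) ∧
    (q % 4 = 3 → ((∃ E : Subgroup (S : Subgroup (GL (Fin n) F)), E.Normal ∧ Cfsg.IsElementaryAbelian 2 E ∧ 2 ^ ((n + 1) / 2) ≤ Nat.card E) ∧
      ∀ E : Subgroup (S : Subgroup (GL (Fin n) F)), E.Normal → Cfsg.IsElementaryAbelian 2 E → Nat.card E ≤ 2 ^ ((n + 1) / 2))) := by
  subst hF
  have h2 : (2 : F) ≠ 0 := Ring.two_ne_zero fun h => by
    have := FiniteField.even_card_of_char_two h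
    rw [Nat.odd_iff] at hodd
    omega
  have hq2 : 2 ≤ Fintype.card F := Fintype.one_lt_card
  refine ⟨fun h1 => ⟨?_, fun E _ hE => ?_⟩, fun h3 => ?_⟩
  · let e : (Fin 1 × Fin n) ⊕ Fin 0 ≃ Fin n := Fintype.equivFinOfCardEq (by simp)
    have h := lower (κ := Fin 1) h2 e (by
      have h10 : padicValNat 2 (glProd (Fintype.card F) 1) = padicValNat 2 (Fintype.card F - 1) := by
        simp [glProd]
      rw [v_general hodd, v_general hodd, h10, v_glProd_one_mod_four h1 hq2]
      ring) S
    simpa using h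
  · refine le_of_eq_of_le (Subgroup.card_map_of_injective
      (f := (S : Subgroup (GL (Fin n) F)).subtype) Subtype.val_injective).symm ?_
    refine (card_le_two_pow h2 _ ?_ ?_).trans (le_of_eq (by rw [Fintype.card_fin]))
    · rintro _ ⟨x, hx, rfl⟩
      rw [← map_mul, ← pow_two, hE.2 x hx, map_one]
    · rintro _ ⟨x, hx, rfl⟩ _ ⟨w, hw, rfl⟩
      rw [← map_mul, ← map_mul]
      exact congrArg (S : Subgroup (GL (Fin n) F)).subtype (congrArg Subtype.val (hE.1.is_comm.comm ⟨x, hx⟩ ⟨w, hw⟩))
  · obtain ⟨m, δ, hδ, rfl⟩ : ∃ m δ, δ ≤ 1 ∧ n = 2 * m + δ := ⟨n / 2, n % 2, by omega, by omega⟩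
    let e : (Fin 2 × Fin m) ⊕ Fin δ ≃ Fin (2 * m + δ) := Fintype.equivFinOfCardEq (by simp)
    rw [show (2 * m + δ + 1) / 2 = m + δ by omega]
    refine ⟨lower (κ := Fin 2) h2 e ?_ S, upper3 h3 hδ e S⟩
    have hv2 := v_general_even hodd 1
    rw [show 2 * 1 = 2 from rfl] at hv2
    rw [hv2]
    interval_cases δ
    · rw [Nat.add_zero, v_general_even hodd]; simp
    · rw [v_general hodd, v_glProd_succ_odd hodd hq2, ← v_general hodd, v_general_even hodd]; simp

end Cfsg.Agent.Lib.FormConj.NormalTwoRank
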