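import Mathlib
import Cfsg.Agent.Lib.FormConj.CharTwoGauss

/-!
Matrices with prescribed symmetrisation and prescribed diagonal, or with `(Σ_k S_ik)² + S_ii` prescribed.
-/

set_option autoImplicit false

namespace Cfsg.Agent.Lib.FormConj.SymRows

open CharTwoGauss

variable {F : Type*} [Field F] [CharP F 2]

/-- matrices with prescribed symmetrisation and diagonal are given by the entries above the diagonal -/
def diagEquiv {s : ℕ} (G : Matrix (Fin s) (Fin s) F) (hG : ∀ i j, G i j = G j i) (hG0 : ∀ i, G i i = 0)
    (c : Fin s → F) :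
    {S : Matrix (Fin s) (Fin s) F // (∀ i j, S i j + S j i = G i j) ∧ ∀ i, S i i = c i} ≃
      ({p : Fin s × Fin s // p.1 < p.2} → F) where
  toFun S p := S.1 p.1.1 p.1.2
  invFun f := ⟨Matrix.of fun i j =>
      if h : i < j then f ⟨(i, j), h⟩ else if h' : j < i then G i j - f ⟨(j, i), h'⟩ else c i,
    fun i j => by
      rcases lt_trichotomy i j with h | h | h
      · simp [h, h.not_gt, hG j i]
      · subst h; simp [hG0, CharTwo.add_self_eq_zero]
      · simp [h, h.not_gt],
    fun i => by simp⟩
  left_inv S := by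
    refine Subtype.ext (Matrix.ext fun i j => ?_)
    by_cases h : i < j
    · simp [h]
    · by_cases h' : j < i
      · simp only [Matrix.of_apply, dif_neg h, dif_pos h']
        rw [← S.2.1 i j]; ring
      · obtain rfl : i = j := le_antisymm (not_lt.1 h') (not_lt.1 h)
        simp [S.2.2 i]
  right_inv f := funext fun p => by simp [p.2]

theorem natCard_strictPairs (s : ℕ) :
    Nat.card {p : Fin s × Fin s // p.1 < p.2} = s.choose 2 := by
  classical
  have h1 : Fintype.card {p : Fin s × Fin s // p.1 ≤ p.2} = (s + 1).choose 2 := by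
    rw [← Fintype.card_congr (Sym2.sortEquiv (α := Fin s)), Sym2.card, Fintype.card_fin]
  have h2 : Fintype.card {p : Fin s × Fin s // p.1 ≤ p.2}
      = Fintype.card {p : Fin s × Fin s // p.1 < p.2 ∨ p.1 = p.2} :=
    Fintype.card_congr (Equiv.subtypeEquivRight fun p => le_iff_lt_or_eq)
  have h3 : Fintype.card {p : Fin s × Fin s // p.1 = p.2} = s := by
    rw [Fintype.card_congr (
      { toFun := fun p => p.1.1
        invFun := fun i => ⟨(i, i), rfl⟩
        left_inv := fun p => Subtype.ext (Prod.ext rfl p.2)
        right_inv := fun i => rfl } : {p : Fin s × Fin s // p.1 = p.2} ≃ Fin s), Fintype.card_fin]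
  rw [Fintype.card_subtype_or_disjoint, h1, h3] at h2
  · rw [Nat.card_eq_fintype_card]
    have h4 : (s + 1).choose 2 = s + s.choose 2 := by rw [Nat.choose_succ_succ', Nat.choose_one_right]
    omega
  · rw [disjoint_iff_inf_le]
    rintro p ⟨hlt, heq⟩
    exact absurd heq hlt.ne

variable [Finite F] {n : ℕ} (G : Matrix (Fin (n + 1)) (Fin (n + 1)) F) (c : Fin (n + 1) → F)

/-- the first column below the diagonal forced by the lower right block -/
noncomputable def colVal (T : Matrix (Fin n) (Fin n) F) (i : Fin n) : F :=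
  sqrtVal (c i.succ + T i i) + ∑ k, T i k

/-- the off-diagonal sum of the first row -/
noncomputable def rowVal (T : Matrix (Fin n) (Fin n) F) : F :=
  ∑ k : Fin n, (G 0 k.succ + colVal c T k)

theorem colVal_spec (T : Matrix (Fin n) (Fin n) F) (i : Fin n) :
    (colVal c T i + ∑ k, T i k) * (colVal c T i + ∑ k, T i k) + T i i = c i.succ := by
  rw [colVal, add_assoc (sqrtVal _), CharTwo.add_self_eq_zero, add_zero, sqrtVal_spec, add_assoc,
    CharTwo.add_self_eq_zero, add_zero]

theorem colVal_unique (T : Matrix (Fin n) (Fin n) F) (i : Fin n) {a : F}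
    (h : (a + ∑ k, T i k) * (a + ∑ k, T i k) + T i i = c i.succ) : a = colVal c T i := by
  have : sqrtVal (c i.succ + T i i) = a + ∑ k, T i k := sqrtVal_eq (by
    rw [← h, add_assoc _ (T i i), CharTwo.add_self_eq_zero, add_zero])
  rw [colVal, this, add_assoc, CharTwo.add_self_eq_zero, add_zero]

theorem natCard_rows (hG : ∀ i j, G i j = G j i) (hG0 : ∀ i, G i i = 0)
    (hcons : ∀ T : Matrix (Fin n) (Fin n) F, (∀ i j, T i j + T j i = G i.succ j.succ) →
      (∑ i, c i) + (∑ k : Fin n, G 0 k.succ) + (∑ i, ∑ k, T i k) + ∑ i, T i i ∈ (sqAdd (F := F)).range) :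
    Nat.card {S : {S : Matrix (Fin (n + 1)) (Fin (n + 1)) F // ∀ i j, S i j + S j i = G i j} //
      ∀ i, (∑ k, S.1 i k) * (∑ k, S.1 i k) + S.1 i i = c i}
      = Nat.card {T : Matrix (Fin n) (Fin n) F // ∀ i j, T i j + T j i = G i.succ j.succ} * 2 := by
  let e : {S : {S : Matrix (Fin (n + 1)) (Fin (n + 1)) F // ∀ i j, S i j + S j i = G i j} //
      ∀ i, (∑ k, S.1 i k) * (∑ k, S.1 i k) + S.1 i i = c i} ≃
      Σ T : {T : Matrix (Fin n) (Fin n) F // ∀ i j, T i j + T j i = G i.succ j.succ},
        {z : F // z * z + z = c 0 + rowVal G c T.1} :=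
    { toFun := fun S => ⟨⟨Matrix.of fun i k => S.1.1 i.succ k.succ, fun i j => S.1.2 i.succ j.succ⟩,
        ⟨∑ k, S.1.1 0 k, by
          have hcol : ∀ i : Fin n, S.1.1 i.succ 0
              = colVal c (Matrix.of fun i k => S.1.1 i.succ k.succ) i := fun i => by
            refine colVal_unique c _ i ?_
            have := S.2 i.succ
            rw [Fin.sum_univ_succ] at this
            exact this
          have hrow : ∑ k : Fin n, S.1.1 0 k.succ
              = rowVal G c (Matrix.of fun i k => S.1.1 i.succ k.succ) := by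
            refine Finset.sum_congr rfl fun k _ => ?_
            rw [← hcol, ← S.1.2 0 k.succ, add_assoc, CharTwo.add_self_eq_zero, add_zero]
          have h0 := S.2 0
          rw [← hrow, ← h0, Fin.sum_univ_succ]
          ring⟩⟩
      invFun := fun z => ⟨⟨Matrix.of fun i k => Fin.cases
          (Fin.cases (z.2.1 + rowVal G c z.1.1) (fun k => G 0 k.succ + colVal c z.1.1 k) k)
          (fun i => Fin.cases (colVal c z.1.1 i) (fun k => z.1.1 i k) k) i,
        fun i j => by
          refine Fin.cases ?_ (fun i => ?_) i <;> refine Fin.cases ?_ (fun j => ?_) j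
          · simp [hG0, CharTwo.add_self_eq_zero]
          · simp [add_assoc, CharTwo.add_self_eq_zero]
          · simp only [Matrix.of_apply, Fin.cases_succ, Fin.cases_zero]
            rw [hG i.succ 0]
            linear_combination (colVal c z.1.1 i) * (CharTwo.two_eq_zero (R := F))
          · simpa using z.1.2 i j⟩,
        fun i => by
          refine Fin.cases ?_ (fun i => ?_) i
          · simp only [Fin.sum_univ_succ, Matrix.of_apply, Fin.cases_succ, Fin.cases_zero]
            have := z.2.2
            rw [show ∑ k : Fin n, (G 0 k.succ + colVal c z.1.1 k) = rowVal G c z.1.1 from rfl]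
            linear_combination this + (2 * z.2.1 * rowVal G c z.1.1 + 2 * rowVal G c z.1.1 * rowVal G c z.1.1
              + rowVal G c z.1.1) * (CharTwo.two_eq_zero (R := F))
          · simp only [Fin.sum_univ_succ, Matrix.of_apply, Fin.cases_succ, Fin.cases_zero]
            exact colVal_spec c z.1.1 i⟩
      left_inv := fun S => by
        have hcol : ∀ i : Fin n, S.1.1 i.succ 0
            = colVal c (Matrix.of fun i k => S.1.1 i.succ k.succ) i := fun i => by
          refine colVal_unique c _ i ?_
          have := S.2 i.succ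
          rw [Fin.sum_univ_succ] at this
          exact this
        have hrow : ∀ k : Fin n, S.1.1 0 k.succ
            = G 0 k.succ + colVal c (Matrix.of fun i k => S.1.1 i.succ k.succ) k := fun k => by
          rw [← hcol, ← S.1.2 0 k.succ, add_assoc, CharTwo.add_self_eq_zero, add_zero]
        refine Subtype.ext (Subtype.ext (Matrix.ext fun i k => ?_))
        refine Fin.cases ?_ (fun i => ?_) i <;> refine Fin.cases ?_ (fun k => ?_) k
        · simp only [Matrix.of_apply, Fin.cases_zero, Fin.sum_univ_succ]
          rw [show ∑ k : Fin n, S.1.1 0 k.succ = rowVal G c (Matrix.of fun i k => S.1.1 i.succ k.succ)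
            from Finset.sum_congr rfl fun k _ => hrow k, add_assoc, CharTwo.add_self_eq_zero, add_zero]
        · simp only [Matrix.of_apply, Fin.cases_zero, Fin.cases_succ]; exact (hrow k).symm
        · simp only [Matrix.of_apply, Fin.cases_zero, Fin.cases_succ]; exact (hcol i).symm
        · simp
      right_inv := fun z => by
        refine Sigma.subtype_ext (Subtype.ext (Matrix.ext fun i k => by simp)) ?_
        simp only [Fin.sum_univ_succ, Matrix.of_apply, Fin.cases_zero, Fin.cases_succ]
        rw [show ∑ k : Fin n, (G 0 k.succ + colVal c z.1.1 k) = rowVal G c z.1.1 from rfl, add_assoc,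
          CharTwo.add_self_eq_zero, add_zero] }
  have h2 : ∀ T : {T : Matrix (Fin n) (Fin n) F // ∀ i j, T i j + T j i = G i.succ j.succ},
      Nat.card {z : F // z * z + z = c 0 + rowVal G c T.1} = 2 := fun T => natCard_sqAdd_eq (by
    have hsq : ∑ i : Fin n, sqAdd (sqrtVal (c i.succ + T.1 i i)) ∈ (sqAdd (F := F)).range :=
      sum_mem fun i _ => ⟨_, rfl⟩
    have e : c 0 + rowVal G c T.1
        = ((∑ i, c i) + (∑ k : Fin n, G 0 k.succ) + (∑ i, ∑ k, T.1 i k) + ∑ i, T.1 i i)
          + ∑ i : Fin n, sqAdd (sqrtVal (c i.succ + T.1 i i)) := by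
      simp only [sqAdd_apply, sqrtVal_spec, rowVal, colVal, Finset.sum_add_distrib, Fin.sum_univ_succ c]
      linear_combination -(∑ i : Fin n, c i.succ + ∑ i, T.1 i i) * (CharTwo.two_eq_zero (R := F))
    rw [e]
    exact add_mem (hcons T.1 T.2) hsq)
  rw [Nat.card_congr e]
  haveI := Fintype.ofFinite {T : Matrix (Fin n) (Fin n) F // ∀ i j, T i j + T j i = G i.succ j.succ}
  rw [Nat.card_sigma, Finset.sum_congr rfl (fun T _ => h2 T), Finset.sum_const, smul_eq_mul,
    Finset.card_univ, Nat.card_eq_fintype_card]

end Cfsg.Agent.Lib.FormConj.SymRows
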