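import Mathlib
import Cfsg.Agent.Lib.FormConj.InvolutionCentraliser
import Cfsg.Agent.Lib.FormConj.SymRows

/-!
The centraliser of a standard involution in an orthogonal group in characteristic two.
-/

set_option autoImplicit false

namespace Cfsg.Agent.Lib.FormConj.InvCentraliser

open InvolutionTwo Classical CharTwoGauss SymRows

variable {F V : Type*} [Field F] [CharP F 2] [AddCommGroup V] [Module F V] [FiniteDimensional F V]
  {B : LinearMap.BilinForm F V} {s : ℕ} {r d : Fin s → V} {ε : Bool} {Q : QuadraticForm F V}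

theorem quad_add (hQ : ∀ x y, QuadraticMap.polar ⇑Q x y = B x y) (x y : V) :
    Q (x + y) = Q x + Q y + B x y := by rw [QuadraticMap.map_add (⇑Q), hQ]

theorem quad_nilMap (hQ : ∀ x y, QuadraticMap.polar ⇑Q x y = B x y)
    (hN : ∀ x, Q (x + nilMap B ε r x) = Q x) (z : V) :
    Q (nilMap B ε r z) = B z (nilMap B ε r z) := by
  have h := hN z
  rw [quad_add hQ] at h
  linear_combination h - (B z (nilMap B ε r z)) * (CharTwo.two_eq_zero (R := F))

theorem DualPair.d_isoFrame (hp : DualPair B r d) : IsoFrame B d := by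
  refine ⟨Fintype.linearIndependent_iff.2 fun c hc i => ?_, hp.dd⟩
  have := congrArg (B (r i)) hc
  simpa [map_sum, hp.rd] using this

/-- the sum over a family against a matrix with the same symmetrisation -/
theorem quad_sum_sym (hQ : ∀ x y, QuadraticMap.polar ⇑Q x y = B x y) {κ : Type*}
    (v : κ → V) (T : κ → κ → F) (hT : ∀ i j, T i j + T j i = B (v i) (v j)) (t : Finset κ) :
    Q (∑ i ∈ t, v i) + ∑ i ∈ t, Q (v i) = ∑ i ∈ t, ∑ k ∈ t, T i k + ∑ i ∈ t, T i i := by
  classical
  induction t using Finset.induction_on with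
  | empty => simp
  | insert j t hj ih =>
    simp only [Finset.sum_insert hj, quad_add hQ, map_sum, Finset.sum_add_distrib]
    rw [Finset.sum_congr rfl (fun k _ => (hT j k).symm), Finset.sum_add_distrib]
    linear_combination ih + (Q (v j) - T j j) * (CharTwo.two_eq_zero (R := F))

theorem natCard_sigma_const {α : Type*} {β : α → Type*} [Finite α] [∀ a, Finite (β a)] {n : ℕ}
    (h : ∀ a, Nat.card (β a) = n) : Nat.card (Σ a, β a) = Nat.card α * n := by
  haveI := Fintype.ofFinite α
  rw [Nat.card_sigma, Finset.sum_congr rfl (fun a _ => h a), Finset.sum_const, smul_eq_mul,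
    Finset.card_univ, Nat.card_eq_fintype_card]

/-- centraliser elements preserving the quadratic form -/
def centQSet (Q : QuadraticForm F V) (B : LinearMap.BilinForm F V) (ε : Bool) (r : Fin s → V) : Type _ :=
  {g : centSet B ε r // ∀ x, Q (g.1 x) = Q x}

variable (hA : B.IsAlt) (hB : B.Nondegenerate) (hp : DualPair B r d)
  (hQ : ∀ x y, QuadraticMap.polar ⇑Q x y = B x y) (hN : ∀ x, Q (x + nilMap B ε r x) = Q x)

include hA hp hQ hN

theorem centMap_quad_iff (D : {D : Fin s → V // ValidImage B ε r D})
    (k : biIsoGroup (F := F) (fun u v : restSpace B r d => B.restrict (restSpace B r d) u v)) :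
    (∀ x, Q (centMap hA hp D k x) = Q x) ↔
      (∀ j, Q (D.1 j) = Q (d j)) ∧ ∀ w : restSpace B r d,
        Q (k.1 w : V) + ∑ i, B (k.1 w : V) (restMap B r d (D.1 i))
          * B (k.1 w : V) (restMap B r d (D.1 (typePerm ε i))) = Q (w : V) := by
  set g := centMap hA hp D k with hg
  have hw : ∀ w : restSpace B r d, Q (g w) = Q (k.1 w : V) +
      ∑ i, B (k.1 w : V) (restMap B r d (D.1 i)) * B (k.1 w : V) (restMap B r d (D.1 (typePerm ε i))) := by
    intro w
    have h0 : (⟨restMap B r d (w : V), restMap_mem hA hp _⟩ : restSpace B r d) = w :=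
      Subtype.ext (restMap_of_mem hA hp w.2)
    have hβ : ∀ i, B (k.1 w : V) (D.1 i) = B (k.1 w : V) (restMap B r d (D.1 i)) := fun i => by
      rw [pairing hA hp (k.1 w : V) (D.1 i), restMap_of_mem hA hp (k.1 w).2]
      simp [((k.1 w).2 _).1, ((k.1 w).2 _).2]
    have hgw : g (w : V) = (k.1 w : V) + nilMap B ε r
        (∑ i, B (k.1 w : V) (D.1 i) • D.1 (typePerm ε i)) := by
      rw [hg, centMap_apply, h0]
      simp [(w.2 _).1, (w.2 _).2, map_sum]
    rw [hgw, quad_add hQ, nilMap_perp_rest (k.1 w).2, add_zero, quad_nilMap hQ hN]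
    congr 1
    have hDN : ∀ i l, B (D.1 (typePerm ε i)) (nilMap B ε r (D.1 (typePerm ε l)))
        = if typePerm ε i = l then 1 else 0 := fun i l => by
      rw [bilin_symm hA, D.2.2, typePerm_involutive ε l]
    simp only [map_sum, map_smul, LinearMap.sum_apply, LinearMap.smul_apply, smul_eq_mul, hDN, mul_ite,
      mul_one, mul_zero]
    rw [← Equiv.sum_comp (Function.Involutive.toPerm _ (typePerm_involutive (s := s) ε))]
    refine Finset.sum_congr rfl fun i _ => ?_
    simp [typePerm_involutive ε i, hβ, mul_comm, (typePerm_involutive ε).injective.eq_iff]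
  constructor
  · intro h
    exact ⟨fun j => by rw [← centMap_d hA hp D k j, ← hg, h], fun w => by rw [← hw, h]⟩
  · rintro ⟨hd, hk⟩
    let K : Submodule F V :=
      { carrier := {x | Q (g x) = Q x}
        add_mem' := fun {x y} (hx : _ = _) (hy : _ = _) => by
          show Q (g (x + y)) = Q (x + y)
          rw [map_add, quad_add hQ, quad_add hQ, hx, hy, hg, centMap_preserves]
        zero_mem' := by simp
        smul_mem' := fun c x (hx : _ = _) => by
          show Q (g (c • x)) = Q (c • x)
          rw [map_smul, QuadraticMap.map_smul, QuadraticMap.map_smul, hx] }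
    intro x
    show x ∈ K
    rw [decompose hA hp x]
    refine add_mem ?_ (add_mem (sum_mem fun i _ => K.smul_mem _ ?_) (sum_mem fun i _ => K.smul_mem _ ?_))
    · exact (hw ⟨_, restMap_mem hA hp x⟩).trans (hk _)
    · show Q (g (r i)) = Q (r i)
      have e : r i = nilMap B ε r (d (typePerm ε i)) := by
        rw [nilMap_dual hp.rd, typePerm_involutive ε i]
      rw [e, hg, centMap_comm, quad_nilMap hQ hN, ← centMap_comm, centMap_preserves, ← quad_nilMap hQ hN]
    · show Q (g (d i)) = Q (d i)
      rw [hg, centMap_d, hd]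

theorem quad_image (D : {D : Fin s → V // ValidImage B ε r D}) (i : Fin s) :
    Q (D.1 i) = Q ((validEquiv hA hp D).2.1 i : V) +
      Q (∑ k, (validEquiv hA hp D).1.1 i k • d k) + (validEquiv hA hp D).2.2.1 i i +
      ∑ k, B (D.1 i) (d k) * B (D.1 i) (d k) * (if typePerm ε k = k then (1 : F) else 0) := by
  have hA' : (validEquiv hA hp D).2.2.1 i i = ∑ k, B (D.1 i) (d k) * B (D.1 i) (r k) := rfl
  have hU : ((validEquiv hA hp D).2.1 i : V) = restMap B r d (D.1 i) := rfl
  have hE : ∀ k, (validEquiv hA hp D).1.1 i k = B (D.1 i) (r k) := fun k => rfl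
  rw [hA', hU]
  simp only [hE]
  conv_lhs => rw [decompose hA hp (D.1 i)]
  have hm := restMap_mem hA hp (D.1 i)
  have hr : ∀ k, Q (r k) = if typePerm ε k = k then (1 : F) else 0 := fun k => by
    have e : r k = nilMap B ε r (d (typePerm ε k)) := by
      rw [nilMap_dual hp.rd, typePerm_involutive ε k]
    rw [e, quad_nilMap hQ hN, nilMap_dual hp.rd, bilin_symm hA, hp.rd, typePerm_involutive ε k]
    exact if_congr eq_comm rfl rfl
  rw [quad_add hQ, quad_add hQ, quad_sum_orth hQ hp.iso]
  simp [map_sum, LinearMap.sum_apply, hr, hp.rd, fun k => (hm k).1, fun k => (hm k).2]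
  simp only [mul_comm (B (D.1 i) (r _))]
  ring

omit hQ hN in
include hB in
/-- an element of the centraliser of the form is given by its data -/
theorem natCard_centQSet :
    Nat.card (centQSet Q B ε r) = Nat.card
      {p : {D : Fin s → V // ValidImage B ε r D} ×
        biIsoGroup (F := F) (fun u v : restSpace B r d => B.restrict (restSpace B r d) u v) //
        ∀ x, Q (centMap hA hp p.1 p.2 x) = Q x} :=
  (Nat.card_congr ((Equiv.ofBijective _ (centElem_bijective (ε := ε) hA hB hp)).subtypeEquiv
    (fun p => Iff.rfl))).symm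

end Cfsg.Agent.Lib.FormConj.InvCentraliser
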