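import Mathlib
import Cfsg.Agent.Lib.FormConj.InvolutionCentraliser

/-!
Isometries of a symmetric, non-alternating form in characteristic two: the vector `j` with
`φ(x, x) = φ(x, j)²` is fixed, and the group is a symplectic group or a translation extension of one.
-/

set_option autoImplicit false

namespace Cfsg.Agent.Lib.FormConj.InvCentraliser

open InvolutionTwo Classical

variable {F V : Type*} [Field F] [CharP F 2] [AddCommGroup V] [Module F V] [FiniteDimensional F V]
  {φ : LinearMap.BilinForm F V} {j : V}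

/-- the data of a non-alternating symmetric form -/
structure SquareForm (φ : LinearMap.BilinForm F V) (j : V) : Prop where
  symm : ∀ x y, φ x y = φ y x
  nondeg : ∀ z, (∀ y, φ z y = 0) → z = 0
  sq : ∀ x, φ x x = φ x j * φ x j

theorem SquareForm.eq_of_sq {a b : F} (h : a * a = b * b) : a = b := by
  have : (a + b) * (a + b) = 0 := by
    linear_combination h + (a * b + b * b) * (CharTwo.two_eq_zero (R := F))
  have h0 : a + b = 0 := mul_self_eq_zero.1 this
  rw [← sub_eq_zero, CharTwo.sub_eq_add, h0]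

theorem SquareForm.fixes (h : SquareForm φ j) (g : biIsoGroup (F := F) (fun u v : V => φ u v)) :
    g.1 j = j := by
  refine sub_eq_zero.1 (h.nondeg _ fun y => ?_)
  obtain ⟨x, rfl⟩ := g.1.surjective y
  have h1 : φ (g.1 x) (g.1 j) = φ x j := g.2 x j
  have h2 : φ (g.1 x) j = φ x j := SquareForm.eq_of_sq (by
    rw [← h.sq, ← h.sq]; exact g.2 x x)
  rw [h.symm, map_sub, h1, h2, sub_self]

/-- an endomorphism preserving the form is injective -/
noncomputable def isoOfPreserves (h : SquareForm φ j) (f : V →ₗ[F] V) (hf : ∀ x y, φ (f x) (f y) = φ x y) :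
    biIsoGroup (F := F) (fun u v : V => φ u v) :=
  ⟨LinearEquiv.ofInjectiveEndo f (fun x y hxy => sub_eq_zero.1 (h.nondeg _ fun z => by
    rw [← hf, map_sub, sub_eq_zero.2 hxy, map_zero, LinearMap.zero_apply])), hf⟩

theorem isoOfPreserves_apply (h : SquareForm φ j) (f : V →ₗ[F] V)
    (hf : ∀ x y, φ (f x) (f y) = φ x y) (x : V) : (isoOfPreserves h f hf).1 x = f x := rfl

theorem finrank_ker_pair {ℓ : V →ₗ[F] F} {y : V} (hy : ℓ y = 1) :
    Module.finrank F (LinearMap.ker ℓ) + 1 = Module.finrank F V := by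
  have h := finrank_inf_ker (U := ⊤) ℓ Submodule.mem_top hy
  rw [top_inf_eq, finrank_top] at h
  exact h

/-! ### Odd dimension -/

theorem natCard_iso_odd [Finite F] (h : SquareForm φ j) (hj : φ j j = 1) {k : ℕ}
    (hk : Module.finrank F V = k + k + 1) :
    Nat.card (biIsoGroup (F := F) (fun u v : V => φ u v))
      = Nat.card F ^ (k ^ 2) * ∏ i ∈ Finset.range k, (Nat.card F ^ (2 * (i + 1)) - 1) := by
  let H : Submodule F V := LinearMap.ker (φ j)
  have hH : ∀ {x : V}, x ∈ H ↔ φ x j = 0 := fun {x} => by rw [LinearMap.mem_ker, h.symm]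
  let P : V →ₗ[F] H := (LinearMap.id + (φ.flip j).smulRight j).codRestrict H fun x => hH.2 (by
    simp [hj, CharTwo.add_self_eq_zero])
  have hP : ∀ x, (P x : V) = x + φ x j • j := fun x => rfl
  have hPx : ∀ x, x = φ x j • j + (P x : V) := fun x => by
    rw [hP, add_comm x, ← add_assoc, add_self_vec (K := F), zero_add]
  have hS : IsSympForm (φ.restrict H) := by
    refine ⟨fun v => ?_, fun z hz => Subtype.ext (h.nondeg _ fun y => ?_)⟩
    · show φ v.1 v.1 = 0
      rw [h.sq, hH.1 v.2, mul_zero]
    · rw [hPx y, map_add, map_smul, hH.1 z.2, smul_zero, zero_add]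
      exact hz (P y)
  have hHk : Module.finrank F H = k + k := by
    have := finrank_ker_pair (ℓ := φ j) (y := j) hj
    simp only [H] at *
    omega
  rw [← natCard_sympIso hS hHk]
  have hpair : ∀ x y, φ x y = φ x j * φ y j + φ (P x : V) (P y : V) := fun x y => by
    have e1 : φ j (P y : V) = 0 := by rw [h.symm]; exact hH.1 (P y).2
    conv_lhs => rw [hPx x, hPx y]
    simp [hj, hH.1 (P x).2, e1, mul_comm]
  let ext : biIsoGroup (F := F) (fun u v : H => φ.restrict H u v) →
      biIsoGroup (F := F) (fun u v : V => φ u v) := fun g =>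
    isoOfPreserves h ((φ.flip j).smulRight j + H.subtype.comp (g.1.toLinearMap.comp P)) fun x y => by
      have e : φ ((g.1 (P x) : H) : V) ((g.1 (P y) : H) : V) = φ (P x : V) (P y : V) := g.2 (P x) (P y)
      have e1 : φ j ((g.1 (P y) : H) : V) = 0 := by rw [h.symm]; exact hH.1 (g.1 (P y)).2
      rw [hpair x y]
      simp [hj, hH.1 (g.1 (P x)).2, e1, e, mul_comm]
  have hext : ∀ g x, (ext g).1 x = φ x j • j + ((g.1 (P x) : H) : V) := fun g x => rfl
  refine (Nat.card_congr (Equiv.ofBijective ext ⟨fun g g' e => ?_, fun g => ?_⟩)).symm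
  · refine Subtype.ext (LinearEquiv.ext fun w => Subtype.ext ?_)
    have := congrArg (fun t : biIsoGroup (F := F) (fun u v : V => φ u v) => t.1 (w : V)) e
    have hw : P (w : V) = w := Subtype.ext (by rw [hP, hH.1 w.2, zero_smul, add_zero])
    simpa [hext, hH.1 w.2, hw] using this
  · have hmem : ∀ w : H, g.1 (w : V) ∈ H := fun w => hH.2 (by
      have : φ (g.1 (w : V)) (g.1 j) = φ (w : V) j := g.2 _ _
      rw [h.fixes g] at this; rw [this, hH.1 w.2])
    let k₀ : H →ₗ[F] H := (g.1.toLinearMap.comp H.subtype).codRestrict H hmem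
    have hinj : Function.Injective k₀ := fun a b e =>
      Subtype.ext (g.1.injective (congrArg Subtype.val e))
    refine ⟨⟨LinearEquiv.ofInjectiveEndo k₀ hinj, fun a b => g.2 (a : V) (b : V)⟩,
      Subtype.ext (LinearEquiv.ext fun x => ?_)⟩
    rw [hext]
    conv_rhs => rw [hPx x, map_add, map_smul, h.fixes g]
    rfl

/-! ### Even dimension -/

theorem natCard_iso_even [Finite F] (h : SquareForm φ j) (hj : φ j j = 0) {c : V} (hc : φ c j = 1)
    {k : ℕ} (hk : Module.finrank F V = k + k + 2) :
    Nat.card (biIsoGroup (F := F) (fun u v : V => φ u v))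
      = Nat.card {v : V // φ v j = 1} *
        (Nat.card F ^ (k ^ 2) * ∏ i ∈ Finset.range k, (Nat.card F ^ (2 * (i + 1)) - 1)) := by
  have hcc : φ c c = 1 := by rw [h.sq, hc, one_mul]
  have hjc : φ j c = 1 := by rw [h.symm, hc]
  let W : Submodule F V := LinearMap.ker (φ j) ⊓ LinearMap.ker (φ c)
  have hW : ∀ {x : V}, x ∈ W ↔ φ x j = 0 ∧ φ x c = 0 := fun {x} => by
    show φ j x = 0 ∧ φ c x = 0 ↔ _
    rw [h.symm j, h.symm c]
  let P : V →ₗ[F] W :=
    (LinearMap.id + ((φ.flip j).smulRight c + (φ.flip c + φ.flip j).smulRight j)).codRestrict W fun x =>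
      hW.2 ⟨by simp [hc, hj, CharTwo.add_self_eq_zero], by
        simp [hcc, hjc]
        linear_combination (φ x c + φ x j) * (CharTwo.two_eq_zero (R := F))⟩
  have hP : ∀ x, (P x : V) = x + (φ x j • c + (φ x c + φ x j) • j) := fun x => rfl
  have hPx : ∀ x, x = φ x j • c + (φ x c + φ x j) • j + (P x : V) := fun x => by
    rw [hP, add_comm x, ← add_assoc, add_self_vec (K := F), zero_add]
  have hWl : ∀ w : W, φ j (w : V) = 0 ∧ φ c (w : V) = 0 := fun w => by
    rw [h.symm j, h.symm c]; exact hW.1 w.2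
  have hS : IsSympForm (φ.restrict W) := by
    refine ⟨fun v => ?_, fun z hz => Subtype.ext (h.nondeg _ fun y => ?_)⟩
    · show φ v.1 v.1 = 0
      rw [h.sq, (hW.1 v.2).1, mul_zero]
    · rw [hPx y, map_add, map_add, map_smul, map_smul, (hW.1 z.2).1, (hW.1 z.2).2]
      simpa using hz (P y)
  have hWk : Module.finrank F W = k + k := by
    have h1 := finrank_ker_pair (ℓ := φ j) (y := c) hjc
    have h2 := finrank_inf_ker (U := LinearMap.ker (φ j)) (φ c) (y := j)
      (LinearMap.mem_ker.2 hj) hc
    simp only [W] at *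
    omega
  rw [← natCard_sympIso hS hWk, ← Nat.card_prod]
  have hpair : ∀ x y, φ x y = φ x j * φ y j + φ x j * (φ y c + φ y j) + (φ x c + φ x j) * φ y j
      + φ (P x : V) (P y : V) := fun x y => by
    conv_lhs => rw [hPx x, hPx y]
    simp [hj, hc, hcc, hjc, (hW.1 (P x).2).1, (hW.1 (P x).2).2, (hWl (P y)).1, (hWl (P y)).2]
    ring
  let mk : {v : V // φ v j = 1} × biIsoGroup (F := F) (fun u v : W => φ.restrict W u v) →
      (V →ₗ[F] V) := fun p =>
    (φ.flip j).smulRight p.1.1 + (φ.flip c + φ.flip j).smulRight j +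
      (W.subtype.comp (p.2.1.toLinearMap.comp P) +
        ((φ.flip p.1.1).comp (W.subtype.comp (p.2.1.toLinearMap.comp P))).smulRight j)
  have hmk : ∀ p x, mk p x = φ x j • p.1.1 + (φ x c + φ x j) • j +
      ((p.2.1 (P x) : V) + φ (p.2.1 (P x) : V) p.1.1 • j) := fun p x => rfl
  have hpres : ∀ p x y, φ (mk p x) (mk p y) = φ x y := fun p x y => by
    obtain ⟨⟨v, hv⟩, g⟩ := p
    have hvv : φ v v = 1 := by rw [h.sq, hv, one_mul]
    have hjv : φ j v = 1 := by rw [h.symm, hv]
    have e : φ ((g.1 (P x) : W) : V) ((g.1 (P y) : W) : V) = φ (P x : V) (P y : V) := g.2 (P x) (P y)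
    rw [hpair x y, hmk, hmk]
    simp [hj, hvv, hjv, hv, e, (hW.1 (g.1 (P x)).2).1, (hWl (g.1 (P y))).1,
      h.symm v ((g.1 (P y) : W) : V)]
    linear_combination (φ x j * φ (g.1 (P y) : V) v + φ y j * φ (g.1 (P x) : V) v) *
      (CharTwo.two_eq_zero (R := F))
  have hP0 : ∀ {x : V}, x = c ∨ x = j → P x = 0 := fun {x} hx => Subtype.ext (by
    rcases hx with rfl | rfl
    · simp [hP, hc, hcc, CharTwo.add_self_eq_zero, add_self_vec (K := F)]
    · simp [hP, hj, hjc, add_self_vec (K := F)])
  refine (Nat.card_congr (Equiv.ofBijective (fun p => isoOfPreserves h (mk p) (hpres p))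
    ⟨fun p p' e => ?_, fun g => ?_⟩)).symm
  · have e' : ∀ x, mk p x = mk p' x := fun x =>
      congrArg (fun t : biIsoGroup (F := F) (fun u v : V => φ u v) => t.1 x) e
    have hv : p.1 = p'.1 := by
      have := e' c
      simp [hmk, hP0 (Or.inl rfl), hc, hcc, CharTwo.add_self_eq_zero] at this
      exact Subtype.ext this
    refine Prod.ext hv (Subtype.ext (LinearEquiv.ext fun w => Subtype.ext ?_))
    have hw : P (w : V) = w := Subtype.ext (by simp [hP, (hW.1 w.2).1, (hW.1 w.2).2])
    have := e' (w : V)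
    simp only [hmk, hw, (hW.1 w.2).1, (hW.1 w.2).2, hv, zero_smul, add_zero, zero_add] at this
    have hc2 := congrArg (fun z => z + φ z p'.1.1 • j) this
    simp only [map_add, map_smul, LinearMap.add_apply, LinearMap.smul_apply, smul_eq_mul,
      h.symm j p'.1.1, p'.1.2, mul_one, CharTwo.add_self_eq_zero, zero_smul, add_zero] at hc2
    have hd := congrArg (fun z => φ z c) this
    simp only [map_add, map_smul, LinearMap.add_apply, LinearMap.smul_apply, smul_eq_mul, hjc, mul_one,
      (hW.1 (p.2.1 w).2).2, (hW.1 (p'.2.1 w).2).2, zero_add] at hd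
    rw [hd] at this
    exact add_right_cancel this
  · have hv : φ (g.1 c) j = 1 := by
      have : φ (g.1 c) (g.1 j) = φ c j := g.2 _ _
      rwa [h.fixes g, hc] at this
    have hgj : ∀ w : W, φ (g.1 (w : V)) j = 0 := fun w => by
      have : φ (g.1 (w : V)) (g.1 j) = φ (w : V) j := g.2 _ _
      rw [h.fixes g] at this
      rw [this, (hW.1 w.2).1]
    let k₀ : W →ₗ[F] W := P.comp (g.1.toLinearMap.comp W.subtype)
    have hk₀ : ∀ w : W, (k₀ w : V) = g.1 (w : V) + φ (g.1 (w : V)) c • j := fun w => by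
      show (P (g.1 (w : V)) : V) = _
      rw [hP, hgj, zero_smul, zero_add, add_zero]
    have hk₀p : ∀ a b : W, φ (k₀ a : V) (k₀ b : V) = φ (a : V) (b : V) := fun a b => by
      have : φ (g.1 (a : V)) (g.1 (b : V)) = φ (a : V) (b : V) := g.2 _ _
      rw [hk₀, hk₀]
      simp [this, hj, hgj, h.symm j (g.1 (b : V))]
    have hinj : Function.Injective k₀ := fun a b e => sub_eq_zero.1 (hS.nondeg _ fun z => by
      show φ ((a - b : W) : V) (z : V) = 0
      rw [← hk₀p, map_sub, e, sub_self]; simp)
    refine ⟨(⟨g.1 c, hv⟩, ⟨LinearEquiv.ofInjectiveEndo k₀ hinj, hk₀p⟩), Subtype.ext (LinearEquiv.ext fun x => ?_)⟩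
    show mk _ x = g.1 x
    rw [hmk]
    conv_rhs => rw [hPx x, map_add, map_add, map_smul, map_smul, h.fixes g]
    congr 1
    show (k₀ (P x) : V) + φ (k₀ (P x) : V) (g.1 c) • j = g.1 (P x : V)
    have hwc : φ (g.1 (P x : V)) (g.1 c) = 0 := (g.2 _ _).trans (hW.1 (P x).2).2
    rw [hk₀, map_add, map_smul, LinearMap.add_apply, LinearMap.smul_apply, hwc, h.symm j (g.1 c), hv,
      smul_eq_mul, mul_one, zero_add, add_assoc, add_self_vec (K := F), add_zero]

/-! ### The two standard Gram matrices -/

theorem natCard_typeGroup_transpose [Finite F] (ε : Bool) (s : ℕ) :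
    Nat.card {E : Matrix (Fin s) (Fin s) F // E * typeMatrix F ε s * E.transpose = typeMatrix F ε s}
      = Nat.card (biIsoGroup (F := F) (fun u v : Fin s → F =>
          Matrix.toLinearMap₂' F (typeMatrix F ε s) u v)) := by
  have e : (fun u v : Fin s → F => Matrix.toLinearMap₂' F (typeMatrix F ε s) u v)
      = fun u v => dotProduct u (Matrix.mulVec (typeMatrix F ε s) v) := by
    funext u v; exact Matrix.toLinearMap₂'_apply' _ _ _
  rw [e, ← natCard_matrix_iso _ (det_typeMatrix_ne_zero s)]
  exact Nat.card_congr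
    { toFun := fun E => ⟨E.1.transpose, by rw [Matrix.transpose_transpose]; exact E.2⟩
      invFun := fun M => ⟨M.1.transpose, by rw [Matrix.transpose_transpose]; exact M.2⟩
      left_inv := fun E => Subtype.ext (Matrix.transpose_transpose _)
      right_inv := fun M => Subtype.ext (Matrix.transpose_transpose _) }

theorem typeMatrix_bilin (ε : Bool) {s : ℕ} (u v : Fin s → F) :
    Matrix.toLinearMap₂' F (typeMatrix F ε s) u v = ∑ i, u i * v (typePerm ε i) := by
  rw [Matrix.toLinearMap₂'_apply']
  simp [dotProduct, Matrix.mulVec, typeMatrix, ite_mul]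

theorem natCard_typeGroup_true [Finite F] (k : ℕ) :
    Nat.card {E : Matrix (Fin (k + k)) (Fin (k + k)) F //
        E * typeMatrix F true (k + k) * E.transpose = typeMatrix F true (k + k)}
      = Nat.card F ^ (k ^ 2) * ∏ i ∈ Finset.range k, (Nat.card F ^ (2 * (i + 1)) - 1) := by
  rw [natCard_typeGroup_transpose]
  refine natCard_sympIso ⟨fun v => ?_, fun z hz => funext fun i => ?_⟩ (by simp)
  · rw [typeMatrix_bilin]
    refine Finset.sum_involution (fun i _ => typePerm true i) ?_ ?_ (fun _ _ => Finset.mem_univ _) ?_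
    · intro i _
      rw [typePerm_involutive true i, mul_comm (v (typePerm true i)), CharTwo.add_self_eq_zero]
    · intro i _ _
      exact typePerm_true_ne ⟨k, rfl⟩ i
    · intro i _; exact typePerm_involutive true i
  · have := hz (Pi.single (typePerm true i) 1)
    rw [typeMatrix_bilin, Finset.sum_eq_single i] at this
    · simpa using this
    · intro b _ hb
      rw [Pi.single_eq_of_ne (fun e => hb ((typePerm_involutive true).injective e)), mul_zero]
    · simp

theorem squareForm_dot (s : ℕ) :
    SquareForm (Matrix.toLinearMap₂' F (typeMatrix F false s)) (fun _ => (1 : F)) := by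
  refine ⟨fun x y => ?_, fun z hz => funext fun i => ?_, fun x => ?_⟩
  · simp [typeMatrix_bilin, typePerm, mul_comm]
  · simpa [typeMatrix_bilin, typePerm, Pi.single_apply] using hz (Pi.single i 1)
  · simp only [typeMatrix_bilin, typePerm, id, mul_one]
    exact (CharTwo.sum_mul_self (R := F) _ _).symm

theorem natCard_typeGroup_odd [Finite F] (k : ℕ) :
    Nat.card {E : Matrix (Fin (k + k + 1)) (Fin (k + k + 1)) F //
        E * typeMatrix F false (k + k + 1) * E.transpose = typeMatrix F false (k + k + 1)}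
      = Nat.card F ^ (k ^ 2) * ∏ i ∈ Finset.range k, (Nat.card F ^ (2 * (i + 1)) - 1) := by
  rw [natCard_typeGroup_transpose]
  refine natCard_iso_odd (squareForm_dot _) ?_ (by simp)
  simp [typeMatrix_bilin, CharTwo.add_self_eq_zero]

theorem natCard_typeGroup_even [Finite F] (k : ℕ) :
    Nat.card {E : Matrix (Fin (k + k + 2)) (Fin (k + k + 2)) F //
        E * typeMatrix F false (k + k + 2) * E.transpose = typeMatrix F false (k + k + 2)}
      = Nat.card F ^ (k + k + 1) *
        (Nat.card F ^ (k ^ 2) * ∏ i ∈ Finset.range k, (Nat.card F ^ (2 * (i + 1)) - 1)) := by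
  have hone : ∀ v : Fin (k + k + 2) → F,
      Matrix.toLinearMap₂' F (typeMatrix F false (k + k + 2)) v (fun _ => (1 : F)) = ∑ i, v i := fun v => by
    simp only [typeMatrix_bilin]
    simp [typePerm]
  rw [natCard_typeGroup_transpose,
    natCard_iso_even (squareForm_dot (k + k + 2)) (c := Pi.single 0 1) (by simp [typeMatrix_bilin, CharTwo.add_self_eq_zero, CharTwo.two_eq_zero])
      (by simp [hone]) (k := k) (by simp)]
  congr 1
  let e : {v : Fin (k + k + 2) → F //
      Matrix.toLinearMap₂' F (typeMatrix F false (k + k + 2)) v (fun _ => (1 : F)) = 1} ≃ (Fin (k + k + 1) → F) :=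
    { toFun := fun v i => v.1 i.succ
      invFun := fun f => ⟨Fin.cons (1 + ∑ i, f i) f, by
        rw [hone, Fin.sum_univ_succ]; simp [add_assoc, CharTwo.add_self_eq_zero]⟩
      left_inv := fun v => by
        refine Subtype.ext (funext fun i => ?_)
        refine Fin.cases ?_ (fun i => ?_) i
        · have := v.2
          rw [hone, Fin.sum_univ_succ] at this
          simp only [Fin.cons_zero]
          linear_combination -(this) + (∑ i : Fin (k + k + 1), v.1 i.succ) * (CharTwo.two_eq_zero (R := F))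
        · simp
      right_inv := fun f => funext fun i => by simp }
  rw [Nat.card_congr e, Nat.card_fun, Nat.card_fin]

end Cfsg.Agent.Lib.FormConj.InvCentraliser
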