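import Mathlib
import Cfsg.Agent.Lib.FormConj.OrthInvolutionCentraliser
import Cfsg.Agent.Lib.FormConj.SquareSumGroup

/-!
Orders of the centralisers of standard involutions in an orthogonal group in characteristic two.
-/

set_option autoImplicit false

namespace Cfsg.Agent.Lib.FormConj.InvCentraliser

open InvolutionTwo Classical CharTwoGauss SymRows

variable {F V : Type*} [Field F] [Finite F] [CharP F 2] [AddCommGroup V] [Module F V]
  [FiniteDimensional F V] {B : LinearMap.BilinForm F V} {Q : QuadraticForm F V}

/-- the alternating type -/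
theorem natCard_centQSet_true {s l : ℕ} {r d : Fin s → V} (he : Even s) (hA : B.IsAlt)
    (hB : B.Nondegenerate) (hp : DualPair B r d) (hQ : ∀ x y, QuadraticMap.polar ⇑Q x y = B x y)
    (hN : ∀ x, Q (x + nilMap B true r x) = Q x)
    (hl : Module.finrank F (restSpace B r d) = l + l) :
    Nat.card (centQSet Q B true r) =
      Nat.card {E : Matrix (Fin s) (Fin s) F // E * typeMatrix F true s * E.transpose = typeMatrix F true s}
        * ((Nat.card F ^ (2 * l)) ^ s * Nat.card F ^ s.choose 2)
        * Nat.card (isoGroup (F := F) (fun w : restSpace B r d => Q (w : V))) := by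
  haveI : Finite V := Module.finite_of_finite F
  let E0 := {E : Matrix (Fin s) (Fin s) F // E * typeMatrix F true s * E.transpose = typeMatrix F true s}
  let cval : E0 → (Fin s → restSpace B r d) → Fin s → F := fun E U i =>
    Q (d i) + Q (U i : V) + Q (∑ k, E.1 i k • d k)
  let IsQ := fun k : biIsoGroup (F := F) (fun u v : restSpace B r d => B.restrict (restSpace B r d) u v) =>
    ∀ w : restSpace B r d, Q (k.1 w : V) = Q (w : V)
  have hcond : ∀ p : {D : Fin s → V // ValidImage B true r D} ×
      biIsoGroup (F := F) (fun u v : restSpace B r d => B.restrict (restSpace B r d) u v),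
      (∀ x, Q (centMap hA hp p.1 p.2 x) = Q x) ↔
        (∀ i, (validEquiv hA hp p.1).2.2.1 i i
          = cval (validEquiv hA hp p.1).1 (validEquiv hA hp p.1).2.1 i) ∧ IsQ p.2 := fun p => by
    rw [centMap_quad_iff hA hp hQ hN]
    refine and_congr (forall_congr' fun i => ?_) (forall_congr' fun w => ?_)
    · rw [quad_image hA hp hQ hN]
      have h0 : ∑ k, B (p.1.1 i) (d k) * B (p.1.1 i) (d k)
          * (if typePerm true k = k then (1 : F) else 0) = 0 :=
        Finset.sum_eq_zero fun k _ => by rw [if_neg (typePerm_true_ne he k), mul_zero]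
      rw [h0, add_zero]
      simp only [cval]
      constructor <;> intro h
      · linear_combination h - (Q ((validEquiv hA hp p.1).2.1 i : V)
          + Q (∑ k, (validEquiv hA hp p.1).1.1 i k • d k)) * (CharTwo.two_eq_zero (R := F))
      · linear_combination h + (Q ((validEquiv hA hp p.1).2.1 i : V)
          + Q (∑ k, (validEquiv hA hp p.1).1.1 i k • d k)) * (CharTwo.two_eq_zero (R := F))
    · have h0 : ∑ i, B (p.2.1 w : V) (restMap B r d (p.1.1 i))
          * B (p.2.1 w : V) (restMap B r d (p.1.1 (typePerm true i))) = 0 := by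
        refine Finset.sum_involution (fun i _ => typePerm true i) ?_ ?_ (fun _ _ => Finset.mem_univ _) ?_
        · intro i _
          rw [typePerm_involutive true i, mul_comm (B (p.2.1 w : V) (restMap B r d (p.1.1 (typePerm true i)))),
            CharTwo.add_self_eq_zero]
        · intro i _ _
          exact typePerm_true_ne he i
        · intro i _; exact typePerm_involutive true i
      rw [h0, add_zero]
  let ek : {k // IsQ k} ≃ isoGroup (F := F) (fun w : restSpace B r d => Q (w : V)) :=
    { toFun := fun k => ⟨k.1.1, k.2⟩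
      invFun := fun g => ⟨⟨g.1, fun u v => by
          show B (g.1 u : V) (g.1 v : V) = B (u : V) (v : V)
          have h := g.2 (u + v)
          simp only [map_add, Submodule.coe_add, quad_add hQ] at h
          rw [show Q (g.1 u : V) = Q (u : V) from g.2 u, show Q (g.1 v : V) = Q (v : V) from g.2 v] at h
          exact add_left_cancel h⟩, g.2⟩
      left_inv := fun k => rfl
      right_inv := fun g => rfl }
  let G : (Fin s → restSpace B r d) → Matrix (Fin s) (Fin s) F := fun U =>
    Matrix.of fun i j => B (U i : V) (U j : V)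
  let eS : {D : {D : Fin s → V // ValidImage B true r D} //
      ∀ i, (validEquiv hA hp D).2.2.1 i i = cval (validEquiv hA hp D).1 (validEquiv hA hp D).2.1 i} ≃
      E0 × (Fin s → restSpace B r d) × ({p : Fin s × Fin s // p.1 < p.2} → F) :=
    ((validEquiv (ε := true) hA hp).subtypeEquiv
        (q := fun z => ∀ i, z.2.2.1 i i = cval z.1 z.2.1 i) (fun D => Iff.rfl)).trans
      (({ toFun := fun z => ⟨z.1.1, z.1.2.1, ⟨z.1.2.2.1, z.1.2.2.2, z.2⟩⟩
          invFun := fun z => ⟨⟨z.1, z.2.1, ⟨z.2.2.1, z.2.2.2.1⟩⟩, z.2.2.2.2⟩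
          left_inv := fun z => rfl
          right_inv := fun z => rfl } : _ ≃ Σ E : E0, Σ U : Fin s → restSpace B r d,
            {S : Matrix (Fin s) (Fin s) F // (∀ i j, S i j + S j i = G U i j) ∧ ∀ i, S i i = cval E U i}).trans
        ((Equiv.sigmaCongrRight fun E => (Equiv.sigmaCongrRight fun U =>
          diagEquiv (G U) (fun i j => bilin_symm hA _ _) (fun i => hA.self_eq_zero _) _).trans
            (Equiv.sigmaEquivProd _ _)).trans (Equiv.sigmaEquivProd _ _)))
  rw [natCard_centQSet hA hB hp, Nat.card_congr ((Equiv.subtypeEquivRight hcond).trans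
      (Equiv.subtypeProdEquivProd (p := fun D : {D : Fin s → V // ValidImage B true r D} =>
        ∀ i, (validEquiv hA hp D).2.2.1 i i = cval (validEquiv hA hp D).1 (validEquiv hA hp D).2.1 i)
        (q := IsQ))),
    Nat.card_prod, Nat.card_congr eS, Nat.card_congr ek, Nat.card_prod, Nat.card_prod, Nat.card_fun,
    Nat.card_fun, Nat.card_fin, natCard_strictPairs,
    Module.natCard_eq_pow_finrank (K := F) (V := restSpace B r d), hl, two_mul l]

/-- the other type -/
theorem natCard_centQSet_false {n l : ℕ} {r d : Fin (n + 1) → V} (hA : B.IsAlt)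
    (hB : B.Nondegenerate) (hp : DualPair B r d) (hQ : ∀ x y, QuadraticMap.polar ⇑Q x y = B x y)
    (hN : ∀ x, Q (x + nilMap B false r x) = Q x)
    (hl : Module.finrank F (restSpace B r d) = l + l) :
    Nat.card (centQSet Q B false r) =
      Nat.card {E : Matrix (Fin (n + 1)) (Fin (n + 1)) F //
          E * typeMatrix F false (n + 1) * E.transpose = typeMatrix F false (n + 1)}
        * ((Nat.card F ^ (l ^ 2) * ∏ i ∈ Finset.range l, (Nat.card F ^ (2 * (i + 1)) - 1))
          * ((Nat.card F ^ (2 * l)) ^ n * (Nat.card F ^ (n + 1).choose 2 * 2))) := by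
  haveI : Finite V := Module.finite_of_finite F
  let E0 := {E : Matrix (Fin (n + 1)) (Fin (n + 1)) F //
    E * typeMatrix F false (n + 1) * E.transpose = typeMatrix F false (n + 1)}
  let K := biIsoGroup (F := F) (fun u v : restSpace B r d => B.restrict (restSpace B r d) u v)
  let cval : E0 → (Fin (n + 1) → restSpace B r d) → Fin (n + 1) → F := fun E U i =>
    Q (d i) + Q (U i : V) + Q (∑ k, E.1 i k • d k)
  let Rel : K → restSpace B r d → Prop := fun k v => ∀ w : restSpace B r d,
    Q (k.1 w : V) + B (k.1 w : V) (v : V) * B (k.1 w : V) (v : V) = Q (w : V)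
  let G : (Fin (n + 1) → restSpace B r d) → Matrix (Fin (n + 1)) (Fin (n + 1)) F := fun U =>
    Matrix.of fun i j => B (U i : V) (U j : V)
  have hone : typeMatrix F false (n + 1) = 1 := by
    ext i j; simp [typeMatrix, typePerm, Matrix.one_apply, eq_comm]
  have hcolsum : ∀ (E : E0) (k : Fin (n + 1)), ∑ i, E.1 i k * E.1 i k = 1 := fun E k => by
    have key : ∀ M : Matrix (Fin (n + 1)) (Fin (n + 1)) F,
        M * typeMatrix F false (n + 1) * M.transpose = typeMatrix F false (n + 1) → M * M.transpose = 1 :=
      fun M h => by rwa [hone, Matrix.mul_one] at h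
    have h : E.1 * E.1.transpose = 1 := key E.1 E.2
    have h2 := congrArg (fun M : Matrix (Fin (n + 1)) (Fin (n + 1)) F => M k k) (mul_eq_one_comm.1 h)
    simpa [Matrix.mul_apply] using h2
  have hcond : ∀ p : {D : Fin (n + 1) → V // ValidImage B false r D} × K,
      (∀ x, Q (centMap hA hp p.1 p.2 x) = Q x) ↔
        (∀ i, (∑ k, (validEquiv hA hp p.1).2.2.1 i k) * (∑ k, (validEquiv hA hp p.1).2.2.1 i k)
          + (validEquiv hA hp p.1).2.2.1 i i
          = cval (validEquiv hA hp p.1).1 (validEquiv hA hp p.1).2.1 i) ∧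
        Rel p.2 (∑ i, (validEquiv hA hp p.1).2.1 i) := fun p => by
    rw [centMap_quad_iff hA hp hQ hN]
    refine and_congr (forall_congr' fun i => ?_) (forall_congr' fun w => ?_)
    · rw [quad_image hA hp hQ hN]
      have hrow : ∑ k, (validEquiv hA hp p.1).2.2.1 i k = ∑ l, B (p.1.1 i) (d l) := by
        show ∑ k, ∑ l, B (p.1.1 i) (d l) * B (p.1.1 k) (r l) = _
        rw [Finset.sum_comm]
        refine Finset.sum_congr rfl fun l _ => ?_
        rw [← Finset.mul_sum]
        have h1 : (∑ k, B (p.1.1 k) (r l)) * (∑ k, B (p.1.1 k) (r l)) = 1 * 1 := by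
          rw [CharTwo.sum_mul_self, mul_one]
          exact hcolsum (validEquiv hA hp p.1).1 l
        rw [sq_self_injective h1, mul_one]
      have h0 : ∑ k, B (p.1.1 i) (d k) * B (p.1.1 i) (d k)
          * (if typePerm false k = k then (1 : F) else 0)
          = (∑ k, (validEquiv hA hp p.1).2.2.1 i k) * (∑ k, (validEquiv hA hp p.1).2.2.1 i k) := by
        rw [hrow, CharTwo.sum_mul_self]
        exact Finset.sum_congr rfl fun k _ => by simp [typePerm]
      rw [h0]
      simp only [cval]
      constructor <;> intro h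
      · linear_combination h - (Q ((validEquiv hA hp p.1).2.1 i : V)
          + Q (∑ k, (validEquiv hA hp p.1).1.1 i k • d k)) * (CharTwo.two_eq_zero (R := F))
      · linear_combination h + (Q ((validEquiv hA hp p.1).2.1 i : V)
          + Q (∑ k, (validEquiv hA hp p.1).1.1 i k • d k)) * (CharTwo.two_eq_zero (R := F))
    · have h0 : ∑ i, B (p.2.1 w : V) (restMap B r d (p.1.1 i))
          * B (p.2.1 w : V) (restMap B r d (p.1.1 (typePerm false i)))
          = B (p.2.1 w : V) ((∑ i, (validEquiv hA hp p.1).2.1 i : restSpace B r d) : V)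
            * B (p.2.1 w : V) ((∑ i, (validEquiv hA hp p.1).2.1 i : restSpace B r d) : V) := by
        rw [Submodule.coe_sum, map_sum, CharTwo.sum_mul_self]
        rfl
      rw [h0]
  -- the vector attached to an element of the rest group
  have hex : ∀ k : K, ∃ v, ∀ v', Rel k v' ↔ v' = v := by
    intro k
    have hS := isSympForm_rest hA hp hB
    let f : restSpace B r d →ₗ[F] F :=
      { toFun := fun y => sqrtVal (Q (k.1.symm y : V) + Q (y : V))
        map_add' := fun x y => sqrtVal_eq (by
          have hk : B ((k.1.symm x : restSpace B r d) : V) ((k.1.symm y : restSpace B r d) : V)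
              = B (x : V) (y : V) := by
            have := k.2 (k.1.symm x) (k.1.symm y)
            simp only [LinearEquiv.apply_symm_apply] at this
            exact this.symm
          simp only [map_add, Submodule.coe_add, quad_add hQ, hk]
          linear_combination sqrtVal_spec (Q (k.1.symm x : V) + Q (x : V))
            + sqrtVal_spec (Q (k.1.symm y : V) + Q (y : V))
            + (sqrtVal (Q (k.1.symm x : V) + Q (x : V)) * sqrtVal (Q (k.1.symm y : V) + Q (y : V))
              - B (x : V) (y : V)) * (CharTwo.two_eq_zero (R := F)))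
        map_smul' := fun c y => sqrtVal_eq (by
          simp only [map_smul, Submodule.coe_smul, QuadraticMap.map_smul, RingHom.id_apply, smul_eq_mul]
          linear_combination (c * c) * sqrtVal_spec (Q (k.1.symm y : V) + Q (y : V))) }
    have hbij : Function.Bijective (fun v : restSpace B r d =>
        ((B.restrict (restSpace B r d)).flip v : restSpace B r d →ₗ[F] F)) := by
      have hinj : Function.Injective ((B.restrict (restSpace B r d)).flip) := by
        intro a b h
        refine sub_eq_zero.1 (hS.nondeg _ fun z => ?_)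
        have := LinearMap.congr_fun h z
        replace this : B.restrict (restSpace B r d) z a = B.restrict (restSpace B r d) z b := this
        rw [hS.flip, map_sub, this, sub_self, neg_zero]
      exact ⟨hinj, (LinearMap.injective_iff_surjective_of_finrank_eq_finrank
        Subspace.dual_finrank_eq.symm).1 hinj⟩
    obtain ⟨v, hv⟩ := hbij.2 f
    refine ⟨v, fun v' => ⟨fun h => hbij.1 ?_, ?_⟩⟩
    · refine (LinearMap.ext fun y => ?_).trans hv.symm
      show B (y : V) (v' : V) = sqrtVal _
      refine (sqrtVal_eq ?_).symm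
      have := h (k.1.symm y)
      rw [LinearEquiv.apply_symm_apply] at this
      linear_combination this - Q (y : V) * (CharTwo.two_eq_zero (R := F))
    · rintro rfl w
      have := LinearMap.congr_fun hv (k.1 w)
      have e : B (k.1 w : V) (v' : V) = sqrtVal (Q (k.1.symm (k.1 w) : V) + Q (k.1 w : V)) := this
      rw [e, sqrtVal_spec, LinearEquiv.symm_apply_apply]
      linear_combination Q (k.1 w : V) * (CharTwo.two_eq_zero (R := F))
  choose vk hvk using hex
  let eS : {p : {D : Fin (n + 1) → V // ValidImage B false r D} × K //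
        (∀ i, (∑ k, (validEquiv hA hp p.1).2.2.1 i k) * (∑ k, (validEquiv hA hp p.1).2.2.1 i k)
          + (validEquiv hA hp p.1).2.2.1 i i
          = cval (validEquiv hA hp p.1).1 (validEquiv hA hp p.1).2.1 i) ∧
        Rel p.2 (∑ i, (validEquiv hA hp p.1).2.1 i)} ≃
      Σ E : E0, Σ k : K, Σ U : {U : Fin (n + 1) → restSpace B r d // ∑ i, U i = vk k},
        {S : {S : Matrix (Fin (n + 1)) (Fin (n + 1)) F // ∀ i j, S i j + S j i = G U.1 i j} //
          ∀ i, (∑ k, S.1 i k) * (∑ k, S.1 i k) + S.1 i i = cval E U.1 i} :=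
    (((validEquiv (ε := false) hA hp).prodCongr (Equiv.refl K)).subtypeEquiv
      (q := fun z => (∀ i, (∑ k, z.1.2.2.1 i k) * (∑ k, z.1.2.2.1 i k) + z.1.2.2.1 i i
          = cval z.1.1 z.1.2.1 i) ∧ Rel z.2 (∑ i, z.1.2.1 i)) (fun p => Iff.rfl)).trans
      { toFun := fun z => ⟨z.1.1.1, z.1.2, ⟨z.1.1.2.1, (hvk _ _).1 z.2.2⟩, z.1.1.2.2, z.2.1⟩
        invFun := fun z => ⟨(⟨z.1, z.2.2.1.1, z.2.2.2.1⟩, z.2.1), z.2.2.2.2, (hvk _ _).2 z.2.2.1.2⟩
        left_inv := fun z => rfl
        right_inv := fun z => rfl }
  have hS : ∀ (E : E0) (k : K) (U : {U : Fin (n + 1) → restSpace B r d // ∑ i, U i = vk k}),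
      Nat.card {S : {S : Matrix (Fin (n + 1)) (Fin (n + 1)) F // ∀ i j, S i j + S j i = G U.1 i j} //
          ∀ i, (∑ k, S.1 i k) * (∑ k, S.1 i k) + S.1 i i = cval E U.1 i}
        = Nat.card F ^ (n + 1).choose 2 * 2 := by
    intro E k U
    rw [natCard_rows (G U.1) (cval E U.1) (fun i j => bilin_symm hA _ _) (fun i => hA.self_eq_zero _)]
    · show Nat.card {T : Matrix (Fin n) (Fin n) F //
        ∀ i j, T i j + T j i = (Matrix.of fun i j => G U.1 (Fin.succ i) (Fin.succ j)) i j} * 2 = _
      rw [Nat.card_congr (symEquiv (Matrix.of fun i j => G U.1 (Fin.succ i) (Fin.succ j))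
        (fun i j => bilin_symm hA _ _) (fun i => hA.self_eq_zero _)), Nat.card_fun, natCard_symPairs]
    intro T hT
    have hQU : Q ((∑ i, U.1 i : restSpace B r d) : V) ∈ (sqAdd (F := F)).range := by
      refine mem_range_of_twist (Q := fun w : restSpace B r d => Q (w : V))
        (B := B.restrict (restSpace B r d)) (fun x y => quad_add hQ _ _)
        (fun z hz => (isSympForm_rest hA hp hB).nondeg z fun w => by
          rw [(isSympForm_rest hA hp hB).flip, hz, neg_zero]) k.1 (fun y => ?_)
      have := (hvk k _).2 U.2 (k.1.symm y)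
      rw [LinearEquiv.apply_symm_apply] at this
      show Q (y : V) + Q (k.1.symm y : V)
        = B (y : V) ((∑ i, U.1 i : restSpace B r d) : V) * B (y : V) ((∑ i, U.1 i : restSpace B r d) : V)
      linear_combination -this + Q (y : V) * (CharTwo.two_eq_zero (R := F))
    have hd2 : ∑ i, Q (∑ k, E.1 i k • d k) = ∑ i, Q (d i) := by
      simp only [quad_sum_orth hQ hp.d_isoFrame]
      rw [Finset.sum_comm]
      refine Finset.sum_congr rfl fun k _ => ?_
      rw [← Finset.sum_mul, hcolsum, one_mul]
    have hsum : Q ((∑ i, U.1 i : restSpace B r d) : V)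
        = (∑ i, cval E U.1 i) + (∑ k : Fin n, G U.1 0 k.succ) + (∑ i, ∑ k, T i k) + ∑ i, T i i := by
      have h1 := quad_sum_sym hQ (fun i : Fin n => (U.1 i.succ : V)) (fun i j => T i j) hT Finset.univ
      have h2 : ((∑ i, U.1 i : restSpace B r d) : V) = (U.1 0 : V) + ∑ i : Fin n, (U.1 i.succ : V) := by
        rw [Fin.sum_univ_succ, Submodule.coe_add, Submodule.coe_sum]
      rw [h2, quad_add hQ, map_sum (B (U.1 0 : V))]
      simp only [cval, G, Finset.sum_add_distrib, hd2, Matrix.of_apply]
      rw [Fin.sum_univ_succ (fun i => Q (U.1 i : V))]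
      linear_combination h1 - (∑ i, Q (d i) + ∑ i : Fin n, Q (U.1 i.succ : V))
        * (CharTwo.two_eq_zero (R := F))
    rwa [← hsum]
  have hU : ∀ k : K, Nat.card {U : Fin (n + 1) → restSpace B r d // ∑ i, U i = vk k}
      = (Nat.card F ^ (2 * l)) ^ n := fun k => by
    rw [Nat.card_congr (
      { toFun := fun U i => U.1 i.succ
        invFun := fun u => ⟨Fin.cons (vk k - ∑ i, u i) u, by simp [Fin.sum_univ_succ]⟩
        left_inv := fun U => by
          refine Subtype.ext (funext fun i => ?_)
          refine Fin.cases ?_ (fun i => ?_) i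
          · have := U.2
            rw [Fin.sum_univ_succ] at this
            simp [← this]
          · simp
        right_inv := fun u => funext fun i => by simp } :
      {U : Fin (n + 1) → restSpace B r d // ∑ i, U i = vk k} ≃ (Fin n → restSpace B r d)),
      Nat.card_fun, Nat.card_fin, Module.natCard_eq_pow_finrank (K := F) (V := restSpace B r d), hl, two_mul l]
  haveI : Finite K := by
    haveI : Finite (restSpace B r d →ₗ[F] restSpace B r d) := Module.finite_of_finite F
    exact Finite.of_injective (fun k : K => k.1.toLinearMap)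
      (fun a b h => Subtype.ext (LinearEquiv.toLinearMap_injective h))
  rw [natCard_centQSet hA hB hp, Nat.card_congr ((Equiv.subtypeEquivRight hcond).trans eS),
    natCard_sigma_const (n := Nat.card K * ((Nat.card F ^ (2 * l)) ^ n * (Nat.card F ^ (n + 1).choose 2 * 2)))
      (fun E => natCard_sigma_const (fun k => by rw [natCard_sigma_const (fun U => hS E k U), hU k])),
    show Nat.card K = _ from natCard_sympIso (isSympForm_rest hA hp hB) hl]

end Cfsg.Agent.Lib.FormConj.InvCentraliser
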