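import Mathlib
import Cfsg.Agent.Lib.InvolutionTwo.Omega
import Cfsg.Agent.Lib.FormConj.OrthCentraliserCount

/-!
Centraliser orders of involutions in `Ω⁺_{2m}(q)`, `q` even.
-/

set_option autoImplicit false

namespace Cfsg.Agent.Lib.FormConj.InvCentraliser

open InvolutionTwo Classical StdForms Orth

variable {F : Type*} [Field F] [Finite F] [CharP F 2] {m : ℕ}

theorem exists_plus_data (x : ↥(Cfsg.isometryGroup F ⇑(plusQ F m))) (hx : x ^ 2 = 1) {s : ℕ}
    (hs : (((x : Matrix.GeneralLinearGroup (Fin m ⊕ Fin m) F) :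
      Matrix (Fin m ⊕ Fin m) (Fin m ⊕ Fin m) F) - 1).rank = s) :
    s ≤ m ∧ ∃ (ε : Bool) (r : Fin s → Fin m ⊕ Fin m → F),
      IsoFrame (QuadraticMap.polarBilin (plusQ F m)) r ∧ (ε = true → Even s) ∧ FrameValues (plusQ F m) ε r ∧
      (∀ v, app x v = v + nilMap (QuadraticMap.polarBilin (plusQ F m)) ε r v) ∧
      (1 ≤ s → (ε = true ↔ ∀ v, plusQ F m ((((x : Matrix.GeneralLinearGroup (Fin m ⊕ Fin m) F) :
        Matrix (Fin m ⊕ Fin m) (Fin m ⊕ Fin m) F) - 1).mulVec v) = 0)) := by
  haveI : PerfectRing F 2 := PerfectRing.ofFiniteOfIsReduced 2 F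
  have hQ := plusQ_nondegenerate (F := F) m
  have hA := isAlt_polar (plusQ F m)
  set S := orthSetting (plusQ F m) hQ
  obtain ⟨s', ε, r, hr, he, hxr⟩ := InvolutionTwo.exists_standard hA hQ (S.act x) (S.preserves x)
    (fun v => by
      rw [← LinearEquiv.mul_apply, ← map_mul, ← pow_two, hx, map_one]; rfl)
  have happ : ∀ v, app x v = v + nilMap (QuadraticMap.polarBilin (plusQ F m)) ε r v :=
    fun v => (act_eq_app hQ x v).symm.trans (hxr v)
  have hN : ∀ v, (((x : Matrix.GeneralLinearGroup (Fin m ⊕ Fin m) F) :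
      Matrix (Fin m ⊕ Fin m) (Fin m ⊕ Fin m) F) - 1).mulVec v
      = nilMap (QuadraticMap.polarBilin (plusQ F m)) ε r v := fun v => by
    rw [Matrix.sub_mulVec, Matrix.one_mulVec]
    exact sub_eq_iff_eq_add'.2 (happ v)
  obtain rfl : s' = s := by
    rw [← hs, Matrix.rank, show (((x : Matrix.GeneralLinearGroup (Fin m ⊕ Fin m) F) :
      Matrix (Fin m ⊕ Fin m) (Fin m ⊕ Fin m) F) - 1).mulVecLin
      = nilMap (QuadraticMap.polarBilin (plusQ F m)) ε r from LinearMap.ext hN,
      finrank_range_nilMap hQ hr.li]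
  have hv : FrameValues (plusQ F m) ε r := S.adm_of_involution x ε r hr he hxr
  refine ⟨?_, ε, r, hr, he, hv, happ, fun h1 => ?_⟩
  · have := hr.two_mul_le hQ
    simp at this
    omega
  · rw [type_iff hA hQ hr h1 he]
    refine forall_congr' fun v => ?_
    rw [hN, map_add, hA.self_eq_zero, zero_add,
      quad_nilMap (Q := plusQ F m) (fun _ _ => rfl) fun w => by rw [← happ]; exact Q_app x w]

variable {s : ℕ} {ε : Bool} {r : Fin s → Fin m ⊕ Fin m → F}

theorem natCard_centralizer_centQSet (x : ↥(Cfsg.isometryGroup F ⇑(plusQ F m)))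
    (happ : ∀ v, app x v = v + nilMap (QuadraticMap.polarBilin (plusQ F m)) ε r v) :
    Nat.card ↥(Subgroup.centralizer ({x} : Set ↥(Cfsg.isometryGroup F ⇑(plusQ F m))))
      = Nat.card (centQSet (plusQ F m) (QuadraticMap.polarBilin (plusQ F m)) ε r) := by
  have hQ := plusQ_nondegenerate (F := F) m
  set S := orthSetting (plusQ F m) hQ with hS
  have hx : ∀ v, S.act x v = v + nilMap (QuadraticMap.polarBilin (plusQ F m)) ε r v := fun v =>
    (act_eq_app hQ x v).trans (happ v)
  refine Nat.card_congr (Equiv.ofBijective (fun g => ⟨⟨S.act g.1, S.preserves g.1, fun v => ?_⟩,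
    fun v => (congrArg (plusQ F m) (act_eq_app hQ g.1 v)).trans (Q_app g.1 v)⟩) ⟨?_, ?_⟩)
  · have h := congrArg (fun a => S.act a v) (Subgroup.mem_centralizer_singleton_iff.1 g.2)
    simp only [map_mul, LinearEquiv.mul_apply, hx, map_add, add_right_inj] at h
    first | exact h | exact h.symm
  · intro g g' h
    exact Subtype.ext (S.act_injective (congrArg (fun z => z.1.1) h))
  · rintro ⟨⟨e, he1, he2⟩, he3⟩
    have ha0 : S.act ((isometryGroupEquiv (⇑(plusQ F m))).symm ⟨e, he3⟩) = e :=
      congrArg Subtype.val ((isometryGroupEquiv (⇑(plusQ F m))).apply_symm_apply _)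
    refine ⟨⟨(isometryGroupEquiv (⇑(plusQ F m))).symm ⟨e, he3⟩, ?_⟩, ?_⟩
    · rw [Subgroup.mem_centralizer_singleton_iff]
      refine S.act_injective (LinearEquiv.ext fun v => ?_)
      rw [map_mul, map_mul, ha0, LinearEquiv.mul_apply, LinearEquiv.mul_apply, hx, hx, map_add, he2]
    · exact Subtype.ext (Subtype.ext ha0)

/-- the part of the centraliser in `Ω` -/
theorem natCard_omega_part (h : Nat.card F ≠ 2 ∨ m ≠ 2) (x : ↥(Cfsg.isometryGroup F ⇑(plusQ F m)))
    (happ : ∀ v, app x v = v + nilMap (QuadraticMap.polarBilin (plusQ F m)) ε r v)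
    (hv : ∃ v, plusQ F m v ≠ 0 ∧ ∀ i, QuadraticMap.polar ⇑(plusQ F m) v (r i) = 0) :
    2 * Nat.card {g : ↥(Cfsg.Omega F ⇑(plusQ F m)) //
        (g : ↥(Cfsg.isometryGroup F ⇑(plusQ F m))) * x = x * (g : ↥(Cfsg.isometryGroup F ⇑(plusQ F m)))}
      = Nat.card ↥(Subgroup.centralizer ({x} : Set ↥(Cfsg.isometryGroup F ⇑(plusQ F m)))) := by
  have hQ := plusQ_nondegenerate (F := F) m
  have hA := isAlt_polar (plusQ F m)
  set C := Subgroup.centralizer ({x} : Set ↥(Cfsg.isometryGroup F ⇑(plusQ F m)))
  set χ := (Dickson.dickson hQ).comp C.subtype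
  have hmem : ∀ g, g ∈ Cfsg.Omega F ⇑(plusQ F m) ↔ Dickson.dickson hQ g = 1 := fun g =>
    Dickson.mem_omega_iff_charTwo hQ (Dickson.exceptional_free (h.imp_right fun e => by simp; omega))
      _ (fun v hv => Dickson.dickson_refl hQ hv) g
  obtain ⟨v, hv0, hvr⟩ := hv
  have hσ : refl (plusQ F m) v hv0 ∈ C := by
    rw [Subgroup.mem_centralizer_singleton_iff]
    have hBv : ∀ i, QuadraticMap.polarBilin (plusQ F m) (r i) v = 0 := fun i => by
      rw [bilin_symm hA]; exact hvr i
    refine (orthSetting (plusQ F m) hQ).act_injective (LinearEquiv.ext fun z => ?_)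
    rw [map_mul, map_mul, LinearEquiv.mul_apply, LinearEquiv.mul_apply, act_eq_app, act_eq_app,
      act_eq_app, act_eq_app, happ, happ, app_refl, app_refl, map_sub, map_smul,
      nilMap_eq_zero_of_perp hBv, smul_zero, sub_zero]
    have hz : QuadraticMap.polar ⇑(plusQ F m) v (z + nilMap (QuadraticMap.polarBilin (plusQ F m)) ε r z)
        = QuadraticMap.polar ⇑(plusQ F m) v z := by
      show QuadraticMap.polarBilin (plusQ F m) v _ = QuadraticMap.polarBilin (plusQ F m) v z
      rw [map_add, bilin_symm hA v, bilin_symm hA _ v]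
      simp [nilMap_apply, map_sum, fun i => show QuadraticMap.polarBilin (plusQ F m) v (r i) = 0 from hvr i,
        bilin_symm hA (r _) v]
    rw [hz]
    abel
  have hχ : χ ⟨_, hσ⟩ = -1 := Dickson.dickson_refl hQ hv0
  have hcard := χ.ker.card_mul_index
  rw [Orth.index_ker_eq_two χ hχ, mul_comm] at hcard
  rw [← hcard]
  congr 1
  refine Nat.card_congr
    { toFun := fun g => ⟨⟨g.1.1, Subgroup.mem_centralizer_singleton_iff.2 (by
          first | exact g.2 | exact g.2.symm)⟩, (hmem _).1 g.1.2⟩
      invFun := fun g => ⟨⟨g.1.1, (hmem _).2 g.2⟩, by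
        have := Subgroup.mem_centralizer_singleton_iff.1 g.1.2
        first | exact this | exact this.symm⟩
      left_inv := fun g => rfl
      right_inv := fun g => rfl }

/-- the maximal alternating type: the centraliser lies in `Ω` -/
theorem natCard_omega_part_lagr (h : Nat.card F ≠ 2 ∨ m ≠ 2) (x : ↥(Cfsg.isometryGroup F ⇑(plusQ F m)))
    {r : Fin m → Fin m ⊕ Fin m → F} (he : Even m)
    (hr : IsoFrame (QuadraticMap.polarBilin (plusQ F m)) r) (hval : FrameValues (plusQ F m) true r)
    (happ : ∀ v, app x v = v + nilMap (QuadraticMap.polarBilin (plusQ F m)) true r v) :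
    Nat.card {g : ↥(Cfsg.Omega F ⇑(plusQ F m)) //
        (g : ↥(Cfsg.isometryGroup F ⇑(plusQ F m))) * x = x * (g : ↥(Cfsg.isometryGroup F ⇑(plusQ F m)))}
      = Nat.card ↥(Subgroup.centralizer ({x} : Set ↥(Cfsg.isometryGroup F ⇑(plusQ F m)))) := by
  have hQ := plusQ_nondegenerate (F := F) m
  have hx : ∀ v, (orthSetting (plusQ F m) hQ).act x v
      = v + nilMap (QuadraticMap.polarBilin (plusQ F m)) true r v := fun v =>
    (act_eq_app hQ x v).trans (happ v)
  have hsub : ∀ g ∈ Subgroup.centralizer ({x} : Set ↥(Cfsg.isometryGroup F ⇑(plusQ F m))),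
      g ∈ Cfsg.Omega F ⇑(plusQ F m) := fun g hg => by
    rw [OmegaPlusLevi.mem_omega_iff_classSign h]
    set S := orthSetting (plusQ F m) hQ
    have hc := Subgroup.mem_centralizer_singleton_iff.1 hg
    have himg : (Submodule.span F (Set.range r)).map (S.act g).toLinearMap
        = Submodule.span F (Set.range r) := by
      rw [← range_act_add_id hr hx, ← LinearMap.range_comp]
      have e : (S.act g).toLinearMap.comp ((S.act x).toLinearMap + LinearMap.id)
          = ((S.act x).toLinearMap + LinearMap.id).comp (S.act g).toLinearMap := LinearMap.ext fun v => by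
        have h1 := congrArg (fun a => S.act a v) hc
        simp only [map_mul, LinearEquiv.mul_apply] at h1
        simp [h1]
      rw [e, LinearMap.range_comp_of_range_eq_top _ (S.act g).range]
    have := par_image g (isLagr_span he hr hval)
    rw [himg] at this
    exact (mul_eq_right.1 this.symm)
  refine Nat.card_congr
    { toFun := fun g => ⟨g.1.1, Subgroup.mem_centralizer_singleton_iff.2 (by
          first | exact g.2 | exact g.2.symm)⟩
      invFun := fun g => ⟨⟨g.1, hsub _ g.2⟩, by
        have := Subgroup.mem_centralizer_singleton_iff.1 g.2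
        first | exact this | exact this.symm⟩
      left_inv := fun g => rfl
      right_inv := fun g => rfl }

/-- the order in the non-alternating case -/
theorem natCard_omega_centraliser_false {n : ℕ} {r : Fin (n + 1) → Fin m ⊕ Fin m → F}
    (h : Nat.card F ≠ 2 ∨ m ≠ 2) (x : ↥(Cfsg.isometryGroup F ⇑(plusQ F m))) (hm : n + 1 ≤ m)
    (hr : IsoFrame (QuadraticMap.polarBilin (plusQ F m)) r) (hval : FrameValues (plusQ F m) false r)
    (happ : ∀ v, app x v = v + nilMap (QuadraticMap.polarBilin (plusQ F m)) false r v) :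
    Nat.card {g : ↥(Cfsg.Omega F ⇑(plusQ F m)) //
        (g : ↥(Cfsg.isometryGroup F ⇑(plusQ F m))) * x = x * (g : ↥(Cfsg.isometryGroup F ⇑(plusQ F m)))}
      = Nat.card {E : Matrix (Fin (n + 1)) (Fin (n + 1)) F //
          E * typeMatrix F false (n + 1) * E.transpose = typeMatrix F false (n + 1)}
        * (Nat.card F ^ (2 * (m - (n + 1)) * n + (n + 1).choose 2))
        * (Nat.card F ^ ((m - (n + 1)) ^ 2) *
          ∏ i : Fin (m - (n + 1)), (Nat.card F ^ (2 * ((i : ℕ) + 1)) - 1)) := by
  have hQ := plusQ_nondegenerate (F := F) m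
  have hA := isAlt_polar (plusQ F m)
  have hN : ∀ v, plusQ F m (v + nilMap (QuadraticMap.polarBilin (plusQ F m)) false r v) = plusQ F m v :=
    fun v => by rw [← happ]; exact Q_app x v
  have hhalf := natCard_omega_part h x happ
    (exists_orth_nonsingular hQ hr hval (Nat.succ_pos n) (Or.inl rfl))
  obtain ⟨d, hp⟩ := exists_dualPair hA hQ hr
  have hl : Module.finrank F (restSpace (QuadraticMap.polarBilin (plusQ F m)) r d)
      = (m - (n + 1)) + (m - (n + 1)) := by
    have h1 := finrank_rest hA hp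
    have h2 : Module.finrank F (Fin m ⊕ Fin m → F) = m + m := by simp
    omega
  rw [natCard_centralizer_centQSet x happ, natCard_centQSet_false hA hQ hp (fun _ _ => rfl) hN hl,
    ← Fin.prod_univ_eq_prod_range (fun i => Nat.card F ^ (2 * (i + 1)) - 1)] at hhalf
  apply Nat.eq_of_mul_eq_mul_left (n := 2) (by norm_num)
  rw [hhalf]
  ring

theorem natCard_omega_centraliser_true {l : ℕ} {r : Fin s → Fin (s + l) ⊕ Fin (s + l) → F}
    (h : Nat.card F ≠ 2 ∨ s + l ≠ 2) (x : ↥(Cfsg.isometryGroup F ⇑(plusQ F (s + l)))) (hs1 : 1 ≤ s)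
    (he : Even s)
    (hr : IsoFrame (QuadraticMap.polarBilin (plusQ F (s + l))) r)
    (hval : FrameValues (plusQ F (s + l)) true r)
    (happ : ∀ v, app x v = v + nilMap (QuadraticMap.polarBilin (plusQ F (s + l))) true r v) :
    (if l = 0 then 1 else 2) * Nat.card {g : ↥(Cfsg.Omega F ⇑(plusQ F (s + l))) //
        (g : ↥(Cfsg.isometryGroup F ⇑(plusQ F (s + l)))) * x
          = x * (g : ↥(Cfsg.isometryGroup F ⇑(plusQ F (s + l))))}
      = Nat.card {E : Matrix (Fin s) (Fin s) F // E * typeMatrix F true s * E.transpose = typeMatrix F true s}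
        * Nat.card F ^ (2 * l * s + s.choose 2)
        * Nat.card (Cfsg.isometryGroup F (Cfsg.quadFormPlus l F)) := by
  have hQ := plusQ_nondegenerate (F := F) (s + l)
  have hA := isAlt_polar (plusQ F (s + l))
  set B := QuadraticMap.polarBilin (plusQ F (s + l)) with hB
  have hN : ∀ v, plusQ F (s + l) (v + nilMap B true r v) = plusQ F (s + l) v :=
    fun v => by rw [← happ]; exact Q_app x v
  -- standard frames
  let r0 : Fin s → Fin (s + l) ⊕ Fin (s + l) → F := fun i => Pi.single (Sum.inl (Fin.castAdd l i)) 1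
  let d0 : Fin s → Fin (s + l) ⊕ Fin (s + l) → F := fun i => Pi.single (Sum.inr (Fin.castAdd l i)) 1
  have hpol : ∀ u v, B u v = QuadraticMap.polar (Cfsg.quadFormPlus (s + l) F) u v := fun u v => by
    rw [hB, QuadraticMap.polarBilin_apply_apply, coe_plusQ]
  have hr0 : IsoFrame B r0 := by
    refine ⟨Fintype.linearIndependent_iff.2 fun c hc i => ?_, fun i j => ?_⟩
    · have := congrFun hc (Sum.inl (Fin.castAdd l i))
      simpa [r0, Finset.sum_apply, Pi.single_apply] using this
    · simp [hpol, polar_plus, r0, Pi.single_apply]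
  have hv0 : FrameValues (plusQ F (s + l)) true r0 := fun i => by
    rw [if_neg (typePerm_true_ne he i), coe_plusQ]
    simp [Cfsg.quadFormPlus, r0, Pi.single_apply]
  obtain ⟨c, hc⟩ := (orthSetting (plusQ F (s + l)) hQ).move true r r0 hr hr0 hval hv0
  set T := (orthSetting (plusQ F (s + l)) hQ).act c with hT
  have hTB : ∀ u v, B (T u) (T v) = B u v := (orthSetting (plusQ F (s + l)) hQ).preserves c
  have hTQ : ∀ u, plusQ F (s + l) (T u) = plusQ F (s + l) u := fun u => by
    rw [hT, act_eq_app]; exact Q_app c u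
  have hrT : ∀ i, r i = T.symm (r0 i) := fun i => by rw [LinearEquiv.eq_symm_apply, hc i]
  let d : Fin s → Fin (s + l) ⊕ Fin (s + l) → F := fun i => T.symm (d0 i)
  have hp : DualPair B r d := by
    refine ⟨hr, fun i j => ?_, fun i j => ?_⟩
    · show B (r i) (T.symm (d0 j)) = _
      rw [hrT, ← hTB, LinearEquiv.apply_symm_apply, LinearEquiv.apply_symm_apply]
      simp [hpol, polar_plus, r0, d0, Pi.single_apply, eq_comm]
    · show B (T.symm (d0 i)) (T.symm (d0 j)) = _
      rw [← hTB, LinearEquiv.apply_symm_apply, LinearEquiv.apply_symm_apply]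
      simp [hpol, polar_plus, d0, Pi.single_apply]
  have hl : Module.finrank F (restSpace B r d) = l + l := by
    have h1 := finrank_rest hA hp
    have h2 : Module.finrank F (Fin (s + l) ⊕ Fin (s + l) → F) = (s + l) + (s + l) := by simp
    omega
  let emb : (Fin l ⊕ Fin l → F) →ₗ[F] (Fin (s + l) ⊕ Fin (s + l) → F) :=
    { toFun := fun u => Sum.elim (Fin.append (fun _ => 0) (fun i => u (Sum.inl i)))
        (Fin.append (fun _ => 0) (fun i => u (Sum.inr i)))
      map_add' := fun u v => by
        funext k; rcases k with k | k <;> refine Fin.addCases (fun a => ?_) (fun a => ?_) k <;> simp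
      map_smul' := fun a u => by
        funext k; rcases k with k | k <;> refine Fin.addCases (fun a => ?_) (fun a => ?_) k <;> simp }
  have hel : ∀ u i, emb u (Sum.inl (Fin.castAdd l i)) = 0 := fun u i => by simp [emb]
  have her : ∀ u i, emb u (Sum.inr (Fin.castAdd l i)) = 0 := fun u i => by simp [emb]
  have hmem : ∀ u, T.symm (emb u) ∈ restSpace B r d := fun u i => by
    refine ⟨?_, ?_⟩
    · rw [hrT, ← hTB, LinearEquiv.apply_symm_apply, LinearEquiv.apply_symm_apply]
      simp [hpol, polar_plus, r0, Pi.single_apply, her]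
    · show B _ (T.symm (d0 i)) = 0
      rw [← hTB, LinearEquiv.apply_symm_apply, LinearEquiv.apply_symm_apply]
      simp [hpol, polar_plus, d0, Pi.single_apply, hel]
  let L : (Fin l ⊕ Fin l → F) →ₗ[F] restSpace B r d :=
    (T.symm.toLinearMap.comp emb).codRestrict _ hmem
  have hLinj : Function.Injective L := fun u v huv => by
    have := T.symm.injective (congrArg Subtype.val huv)
    funext k
    rcases k with k | k
    · simpa [emb] using congrFun this (Sum.inl (Fin.natAdd s k))
    · simpa [emb] using congrFun this (Sum.inr (Fin.natAdd s k))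
  let eL : (Fin l ⊕ Fin l → F) ≃ₗ[F] restSpace B r d :=
    LinearMap.linearEquivOfInjective L hLinj (by rw [hl]; simp)
  have hLQ : ∀ u, plusQ F (s + l) ((eL u : restSpace B r d) : Fin (s + l) ⊕ Fin (s + l) → F)
      = Cfsg.quadFormPlus l F u := fun u => by
    show plusQ F (s + l) (T.symm (emb u)) = _
    rw [← hTQ, LinearEquiv.apply_symm_apply, coe_plusQ]
    simp [Cfsg.quadFormPlus, emb, Fin.sum_univ_add]
  have hiso : Nat.card (isoGroup (F := F) (fun w : restSpace B r d => plusQ F (s + l) (w : _)))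
      = Nat.card (Cfsg.isometryGroup F (Cfsg.quadFormPlus l F)) := by
    rw [Nat.card_congr (isometryGroupEquiv (Cfsg.quadFormPlus l F)).toEquiv]
    exact (Nat.card_congr (isoGroupCongr eL (Q := Cfsg.quadFormPlus l F) 1 fun u => by
      rw [hLQ, Units.val_one, one_mul]).toEquiv).symm
  have hC := natCard_centQSet_true he hA hQ hp (fun _ _ => rfl) hN hl
  rw [← natCard_centralizer_centQSet x happ, hiso, ← pow_mul, ← pow_add] at hC
  rw [← hC]
  by_cases hl0 : l = 0
  · subst hl0
    rw [if_pos rfl, one_mul]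
    exact natCard_omega_part_lagr h x he hr hval happ
  · rw [if_neg hl0]
    exact natCard_omega_part h x happ (exists_orth_nonsingular hQ hr hval hs1
      (Or.inr (by simp; omega)))

end Cfsg.Agent.Lib.FormConj.InvCentraliser
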