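import Mathlib
import Cfsg.Agent.Lib.FormConj.Realise

/-!
Classes of elements of prime order `r` in `G / (scalars in G)` for a group `G ≤ GL_n(F)` of matrices in which
conjugacy is conjugacy in `GL_n`, `r` dividing the order of the group of scalars.
-/

set_option autoImplicit false

namespace Cfsg.Agent.Lib.FormConj

open Matrix Polynomial
open scoped MatrixGroups

section Shift

variable {r : ℕ} [Fact r.Prime]

/-- Multiplicity functions of total `n`, none of them concentrated. -/
def Spread (r n : ℕ) [NeZero r] : Type :=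
  {m : ZMod r → ℕ // ∑ a, m a = n ∧ ∀ a, m a ≠ n}

noncomputable instance instAddActionSpread (n : ℕ) : AddAction (ZMod r) (Spread r n) where
  vadd k m := ⟨fun a => m.1 (a - k),
    (Fintype.sum_equiv (Equiv.subRight k) _ _ fun a => rfl).trans m.2.1, fun a => m.2.2 _⟩
  zero_vadd m := Subtype.ext (funext fun a => congrArg m.1 (sub_zero a))
  add_vadd k l m := Subtype.ext (funext fun a => congrArg m.1 (by abel : a - (k + l) = a - k - l))

theorem vadd_spread_apply {n : ℕ} (k : ZMod r) (m : Spread r n) (a : ZMod r) : (k +ᵥ m).1 a = m.1 (a - k) := rfl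

theorem finite_spread (r n : ℕ) [NeZero r] : Finite (Spread r n) := by
  classical
  haveI : Finite {m : ZMod r → ℕ // ∑ a, m a = n} := Finite.of_equiv _ (Sym.equivNatSumOfFintype (ZMod r) n)
  exact Finite.of_injective (fun m : Spread r n => (⟨m.1, m.2.1⟩ : {m : ZMod r → ℕ // ∑ a, m a = n}))
    fun a b h => Subtype.ext (congrArg Subtype.val h :)

theorem natCard_spread (n : ℕ) (hn : 1 ≤ n) :
    Nat.card (Spread r n) = Nat.choose (n + r - 1) (r - 1) - r := by
  classical
  haveI : Finite {m : ZMod r → ℕ // ∑ a, m a = n} := Finite.of_equiv _ (Sym.equivNatSumOfFintype (ZMod r) n)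
  let T := {m : ZMod r → ℕ // ∑ a, m a = n}
  haveI : Fintype T := Fintype.ofFinite T
  have hT : Fintype.card T = Nat.choose (n + r - 1) (r - 1) := by
    have hr := (Fact.out : r.Prime).two_le
    rw [← Nat.card_eq_fintype_card, Nat.card_congr (Sym.equivNatSumOfFintype (ZMod r) n).symm,
      Nat.card_eq_fintype_card, Sym.card_sym_eq_choose, ZMod.card, Nat.add_comm r n]
    rw [show n + r - 1 = n + (r - 1) by omega]
    exact Nat.choose_symm_add
  have hconc : Fintype.card {m : T // ∃ a, m.1 a = n} = r := by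
    refine Eq.trans ?_ (ZMod.card r)
    refine (Fintype.card_congr (Equiv.ofBijective
      (fun a => ⟨⟨Pi.single a n, Fintype.sum_pi_single' a n⟩, a, by simp⟩) ⟨?_, ?_⟩)).symm
    · intro a b h
      by_contra hab
      have h' := congrFun (congrArg (fun x => x.1.1) h) a
      simp only [Pi.single_eq_same, Pi.single_eq_of_ne hab] at h'
      omega
    · rintro ⟨⟨m, hm⟩, a, ha⟩
      refine ⟨a, Subtype.ext (Subtype.ext (funext fun b => ?_))⟩
      rcases eq_or_ne b a with rfl | hb
      · show (Pi.single b n : ZMod r → ℕ) b = m b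
        rw [Pi.single_eq_same]; exact ha.symm
      · show (Pi.single a n : ZMod r → ℕ) b = m b
        rw [Pi.single_eq_of_ne hb]
        have h1 := Finset.add_sum_erase Finset.univ m (Finset.mem_univ a)
        have h2 := Finset.single_le_sum (f := m) (fun _ _ => Nat.zero_le _)
          (Finset.mem_erase.2 ⟨hb, Finset.mem_univ b⟩)
        have ha' : m a = n := ha
        omega
  let e : Spread r n ≃ {m : T // ¬ ∃ a, m.1 a = n} :=
    { toFun := fun m => ⟨⟨m.1, m.2.1⟩, fun ⟨a, ha⟩ => m.2.2 a ha⟩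
      invFun := fun m => ⟨m.1.1, m.1.2, fun a ha => m.2 ⟨a, ha⟩⟩
      left_inv := fun m => rfl
      right_inv := fun m => rfl }
  rw [Nat.card_congr e, Nat.card_eq_fintype_card, Fintype.card_subtype_compl, hT, hconc]

/-- The number of shift orbits. -/
theorem natCard_orbits (n : ℕ) (hn : 1 ≤ n) :
    Nat.card (Quotient (AddAction.orbitRel (ZMod r) (Spread r n)))
      = (Nat.choose (n + r - 1) (r - 1) - r - (if r ∣ n then 1 else 0)) / r + (if r ∣ n then 1 else 0) := by
  classical
  haveI := finite_spread r n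
  haveI : Fintype (Spread r n) := Fintype.ofFinite _
  haveI : Fintype (Quotient (AddAction.orbitRel (ZMod r) (Spread r n))) := Fintype.ofFinite _
  have hr := (Fact.out : r.Prime)
  set δ := if r ∣ n then 1 else 0 with hδ
  have hfix : ∀ k : ZMod r, k ≠ 0 → Fintype.card (AddAction.fixedBy (Spread r n) k) = δ := by
    intro k hk
    have hconst : ∀ m : Spread r n, k +ᵥ m = m → ∀ a, m.1 a = m.1 0 := by
      intro m hm a
      have h1 : ∀ i : ℕ, ∀ b, m.1 (b - i • k) = m.1 b := fun i => by
        induction i with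
        | zero => simp
        | succ i ih =>
          intro b
          have h2 := congrFun (congrArg Subtype.val hm) (b - i • k)
          rw [vadd_spread_apply, sub_sub, ← succ_nsmul] at h2
          rw [h2, ih]
      have := h1 (-a * k⁻¹).val 0
      rwa [zero_sub, nsmul_eq_mul, ZMod.natCast_zmod_val, mul_assoc, inv_mul_cancel₀ hk, mul_one, neg_neg] at this
    have huni : ∀ m : Spread r n, k +ᵥ m = m → n = r * m.1 0 := fun m hm => by
      conv_lhs => rw [← m.2.1]
      rw [Finset.sum_congr rfl fun a _ => hconst m hm a, Finset.sum_const, Finset.card_univ, ZMod.card,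
        smul_eq_mul]
    rw [hδ]
    split_ifs with hdiv
    · obtain ⟨d, hd⟩ := hdiv
      have hm0 : ∑ _a : ZMod r, d = n ∧ ∀ _a : ZMod r, d ≠ n := by
        refine ⟨by simp [hd], fun _ h => ?_⟩
        have := hr.two_le
        rcases Nat.eq_zero_or_pos d with h0 | h0
        · omega
        · nlinarith
      refine Fintype.card_eq_one_iff.2 ⟨⟨⟨fun _ => d, hm0⟩, Subtype.ext rfl⟩, fun m => ?_⟩
      refine Subtype.ext (Subtype.ext (funext fun a => ?_))
      show m.1.1 a = d
      rw [hconst m.1 m.2 a]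
      exact Nat.eq_of_mul_eq_mul_left hr.pos ((huni m.1 m.2).symm.trans hd)
    · exact Fintype.card_eq_zero_iff.2 ⟨fun m => hdiv ⟨_, huni m.1 m.2⟩⟩
  have hB := AddAction.sum_card_fixedBy_eq_card_orbits_mul_card_addGroup (ZMod r) (Spread r n)
  have h0 : Fintype.card (AddAction.fixedBy (Spread r n) (0 : ZMod r)) = Fintype.card (Spread r n) :=
    Fintype.card_congr (Equiv.subtypeUnivEquiv fun m => zero_vadd (ZMod r) m)
  rw [← Finset.add_sum_erase _ _ (Finset.mem_univ (0 : ZMod r)), h0,
    Finset.sum_congr rfl fun k hk => hfix k (Finset.ne_of_mem_erase hk), Finset.sum_const,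
    Finset.card_erase_of_mem (Finset.mem_univ _), Finset.card_univ, ZMod.card, smul_eq_mul,
    ← Nat.card_eq_fintype_card (α := Spread r n), natCard_spread n hn] at hB
  rw [Nat.card_eq_fintype_card]
  set N := Nat.choose (n + r - 1) (r - 1) - r with hN
  set O := Fintype.card (Quotient (AddAction.orbitRel (ZMod r) (Spread r n)))
  have hδ1 : δ ≤ 1 := by rw [hδ]; split_ifs <;> simp
  have hOr : O * r = N + (r - 1) * δ := hB.symm
  rcases Nat.le_one_iff_eq_zero_or_eq_one.1 hδ1 with h | h
  · rw [h] at hOr ⊢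
    rw [mul_zero, add_zero] at hOr
    rw [Nat.sub_zero, add_zero, ← hOr, Nat.mul_div_cancel _ hr.pos]
  · rw [h] at hOr ⊢
    rw [mul_one] at hOr
    have hO : 1 ≤ O := by
      by_contra h0
      rw [show O = 0 by omega, zero_mul] at hOr
      have := hr.two_le
      omega
    obtain ⟨O', hO'⟩ : ∃ O', O = O' + 1 := ⟨O - 1, by omega⟩
    rw [hO', add_one_mul] at hOr
    rw [show N - 1 = O' * r by have := hr.two_le; omega, Nat.mul_div_cancel _ hr.pos, hO']

end Shift

variable {F : Type*} [Field F] [Fintype F] {r n : ℕ} [Fact r.Prime]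

/-- Scaling by a root of unity shifts multiplicities. -/
theorem HasMult.smul_root {L : Type*} [Field L] (j : F →+* L) {ζ₀ : F} (hζ : IsPrimitiveRoot (j ζ₀) r) (hr : (r : F) ≠ 0)
    {A : Matrix (Fin n) (Fin n) F} (hA : A ^ r = 1) {m : ZMod r → ℕ} (hm : HasMult j (j ζ₀) A m) (k : ZMod r) :
    HasMult j (j ζ₀) ((ζ₀ ^ k.val) • A) (fun a => m (a - k)) := by
  classical
  have hrL : (r : L) ≠ 0 := by rw [← map_natCast j]; exact (map_ne_zero j).2 hr
  obtain ⟨b, hb, P, hP⟩ := exists_conj_diag j hζ ((X : F[X]) ^ r - 1)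
    (by rw [← C_1]; exact separable_X_pow_sub_C 1 hr one_ne_zero) (by simp [hA]) hm hrL
  have hc : IsConj (((ζ₀ ^ k.val) • A).map j) (diagonal fun i => rootAt (j ζ₀) (b i + k)) := by
    refine ⟨P, ?_⟩
    have h1 : ((ζ₀ ^ k.val) • A).map j = rootAt (j ζ₀) k • A.map j := by
      ext x y
      simp [rootAt]
    have h2 : (diagonal fun i => rootAt (j ζ₀) (b i + k)) = rootAt (j ζ₀) k • diagonal fun i => rootAt (j ζ₀) (b i) := by
      rw [← diagonal_smul]
      refine congrArg diagonal (funext fun i => ?_)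
      rw [Pi.smul_apply, smul_eq_mul, rootAt, rootAt, rootAt, ← pow_add]
      refine pow_eq_pow_of_modEq ?_ hζ.pow_eq_one
      rw [ZMod.val_add, Nat.add_comm k.val]
      exact Nat.mod_modEq _ _
    show _ = _
    rw [h1, h2, mul_smul_comm, smul_mul_assoc]
    exact congrArg _ hP
  obtain ⟨Q, hQ⟩ := hc
  rw [HasMult, ← Matrix.charpoly_map, ← Matrix.charpoly_units_conj Q, hQ.eq, mul_assoc, ← Matrix.coe_units_inv,
    Units.mul_inv, mul_one, charpoly_diag hζ]
  refine congrArg (polyOf (j ζ₀)) (funext fun a => ?_)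
  rw [← hb]
  congr 1
  ext i
  simp only [Finset.mem_filter, Finset.mem_univ, true_and]
  exact ⟨fun h => by rw [← h]; abel, fun h => by rw [h]; abel⟩

/-- The scalar matrices. -/
abbrev scal (n : ℕ) (F : Type*) [Field F] : Fˣ →* GL (Fin n) F := Matrix.GeneralLinearGroup.scalar (Fin n)

omit [Fintype F] in
theorem coe_scal (c : Fˣ) : ((scal n F c : GL (Fin n) F) : Matrix (Fin n) (Fin n) F) = (c : F) • 1 := by
  rw [GeneralLinearGroup.coe_scalar, smul_one_eq_diagonal]
  rfl

omit [Fintype F] in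
theorem scal_comm (c : Fˣ) (g : GL (Fin n) F) : Commute (scal n F c) g :=
  Units.ext (by rw [Units.val_mul, Units.val_mul, coe_scal, smul_mul_assoc, one_mul, mul_smul_comm, mul_one])

omit [Fintype F] in
theorem scal_injective (hn : 1 ≤ n) : Function.Injective (scal n F) := fun a b h => by
  have := congrArg (fun g : GL (Fin n) F => (g : Matrix (Fin n) (Fin n) F) ⟨0, hn⟩ ⟨0, hn⟩) h
  skip
  rw [coe_scal, coe_scal, Matrix.smul_apply, Matrix.smul_apply, Matrix.one_apply_eq, smul_eq_mul, smul_eq_mul,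
    mul_one, mul_one] at this
  exact Units.ext this

/-- Counting classes of elements of order `r` modulo the scalars. -/
theorem natCard_classes_projective (hn : 1 ≤ n) (hr : (r : F) ≠ 0) (S : Subgroup Fˣ) (G : Subgroup (GL (Fin n) F))
    (hS : r ∣ Nat.card S)
    (hcenter : ∀ g : G, g ∈ Subgroup.center G ↔ ∃ c ∈ S, (g : GL (Fin n) F) = scal n F c)
    (hscal : ∀ c : Fˣ, scal n F c ∈ G ↔ c ∈ S)
    (hconj : ∀ g h : G, IsConj (g : GL (Fin n) F) (h : GL (Fin n) F) → IsConj g h)
    (hdiag : ∀ (g : GL (Fin n) F) (d : Fin n → F), (∀ i, d i ^ r = 1) →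
      (g : Matrix (Fin n) (Fin n) F) = diagonal d → g ∈ G)
    (hpow : ∀ a ∈ S, (∀ s ∈ S, s ^ r ≠ a) → ∀ c : Fˣ, c ^ r ≠ a)
    (hblock : r ∣ n → ∀ a ∈ S, (∀ s ∈ S, s ^ r ≠ a) → ∃ g ∈ G, g ^ r = scal n F a) :
    Nat.card {C : ConjClasses (↥G ⧸ Subgroup.center ↥G) //
        ∃ g : ↥G ⧸ Subgroup.center ↥G, ConjClasses.mk g = C ∧ orderOf g = r}
      = (Nat.choose (n + r - 1) (r - 1) - r - (if r ∣ n then 1 else 0)) / r + r * (if r ∣ n then 1 else 0) := by
  classical
  have hrp := (Fact.out : r.Prime)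
  -- roots of unity in `S`
  obtain ⟨z, hz⟩ := exists_prime_orderOf_dvd_card' (G := S) r hS
  set ζ₀ : F := ((z : Fˣ) : F) with hζ₀
  have hζ₀p : IsPrimitiveRoot ζ₀ r := by
    rw [hζ₀, IsPrimitiveRoot.iff_orderOf, orderOf_units, Subgroup.orderOf_coe, hz]
  set j := algebraMap F (AlgebraicClosure F)
  have hζ : IsPrimitiveRoot (j ζ₀) r := hζ₀p.map_of_injective j.injective
  have hdet : ∀ A : Matrix (Fin n) (Fin n) F, A ^ r = 1 → IsUnit A := fun A h => IsUnit.of_pow_eq_one h hrp.ne_zero
  -- models for multiplicity functions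
  have hmodel : ∀ m : Spread r n, ∃ g : G, g ^ r = 1 ∧ HasMult j (j ζ₀) ((g : GL (Fin n) F) : Matrix (Fin n) (Fin n) F) m.1 := by
    intro m
    obtain ⟨e⟩ : Nonempty (Fin n ≃ Σ a : ZMod r, Fin (m.1 a)) :=
      ⟨Fintype.equivOfCardEq (by rw [Fintype.card_sigma, Fintype.card_fin]; simp [m.2.1])⟩
    let d : Fin n → F := fun i => ζ₀ ^ ((e i).1).val
    have hd : ∀ i, d i ^ r = 1 := fun i => by
      rw [← pow_mul, mul_comm, pow_mul, hζ₀p.pow_eq_one, one_pow]
    have hdr : diagonal d ^ r = 1 := by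
      rw [diagonal_pow, show d ^ r = 1 from funext hd]; exact diagonal_one
    obtain ⟨g, hg⟩ := hdet _ hdr
    refine ⟨⟨g, hdiag g d hd hg⟩, Subtype.ext (Units.ext ?_), ?_⟩
    · show (g : Matrix (Fin n) (Fin n) F) ^ r = 1
      rw [hg, hdr]
    · show (g : Matrix (Fin n) (Fin n) F).charpoly.map j = _
      rw [hg, ← Matrix.charpoly_map, Matrix.diagonal_map (map_zero j),
        show (fun i => j (d i)) = fun i => rootAt (j ζ₀) (e i).1 from funext fun i => by rw [map_pow, rootAt],
        charpoly_diag hζ]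
      refine congrArg (polyOf (j ζ₀)) (funext fun a => ?_)
      rw [← Fintype.card_subtype]
      exact (Fintype.card_congr ((e.subtypeEquivOfSubtype (p := fun x => x.1 = a)).trans
        (Equiv.sigmaSubtype a))).trans (Fintype.card_fin _)
  choose gm hgm hgmm using hmodel
  -- the non-powers
  let P : Subgroup S := (powMonoidHom r : S →* S).range
  let T := {x : S ⧸ P // x ≠ 1 ∧ r ∣ n}
  have hnotP : ∀ x : T, ∀ s ∈ S, s ^ r ≠ ((Quotient.out x.1 : S) : Fˣ) := by
    intro x s hs h
    refine x.2.1 ?_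
    rw [← Quotient.out_eq x.1]
    exact (QuotientGroup.eq_one_iff _).2 ⟨⟨s, hs⟩, Subtype.ext h⟩
  choose gx hgxG hgx using fun x : T => hblock x.2.2 _ (Quotient.out x.1).2 (hnotP x)
  -- reduction of conjugacy in the quotient
  have hquot : ∀ g h : G, IsConj (QuotientGroup.mk g : ↥G ⧸ Subgroup.center ↥G) (QuotientGroup.mk h) ↔
      ∃ c ∈ S, IsConj (g : GL (Fin n) F) ((h : GL (Fin n) F) * scal n F c) := by
    intro g h
    constructor
    · intro hc
      obtain ⟨y, hy⟩ := isConj_iff.1 hc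
      obtain ⟨x, rfl⟩ := QuotientGroup.mk_surjective y
      rw [← QuotientGroup.mk_inv, ← QuotientGroup.mk_mul, ← QuotientGroup.mk_mul, eq_comm, QuotientGroup.eq,
        hcenter] at hy
      obtain ⟨c, hc, hc'⟩ := hy
      refine ⟨c, hc, isConj_iff.2 ⟨(x : GL (Fin n) F), ?_⟩⟩
      rw [← hc']
      simp
    · rintro ⟨c, hc, hcon⟩
      obtain ⟨w, hw⟩ : ∃ w : G, (w : GL (Fin n) F) = scal n F c := ⟨⟨scal n F c, (hscal c).2 hc⟩, rfl⟩
      have hcon' : IsConj (g : GL (Fin n) F) ((h * w : G) : GL (Fin n) F) := by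
        rw [Subgroup.coe_mul, hw]; exact hcon
      have hwz : w ∈ Subgroup.center ↥G := (hcenter _).2 ⟨c, hc, hw⟩
      have h1 := (QuotientGroup.mk' (Subgroup.center ↥G)).map_isConj (hconj g (h * w) hcon')
      have h2 : QuotientGroup.mk' (Subgroup.center ↥G) w = 1 := (QuotientGroup.eq_one_iff _).2 hwz
      rw [map_mul, h2, mul_one] at h1
      exact h1
  have hord : ∀ g : G, orderOf (QuotientGroup.mk g : ↥G ⧸ Subgroup.center ↥G) = r ↔
      g ^ r ∈ Subgroup.center ↥G ∧ g ∉ Subgroup.center ↥G := fun g => by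
    rw [orderOf_eq_prime_iff, ← QuotientGroup.mk_pow, QuotientGroup.eq_one_iff, ne_eq, QuotientGroup.eq_one_iff]
  -- a scalar `g` with `g ^ r = 1` has a concentrated multiplicity function
  have hscalmult : ∀ (A : Matrix (Fin n) (Fin n) F) (c : F) (m : ZMod r → ℕ), A = c • (1 : Matrix (Fin n) (Fin n) F) →
      A ^ r = 1 → HasMult j (j ζ₀) A m → ∃ a, m a = n := by
    intro A c m hA hAr hm
    have hc : c ^ r = 1 := by
      rw [hA, _root_.smul_pow, one_pow] at hAr
      have := congrFun (congrFun hAr ⟨0, hn⟩) ⟨0, hn⟩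
      simpa using this
    obtain ⟨i, -, hi⟩ := hζ₀p.eq_pow_of_pow_eq_one hc
    have h1 : HasMult j (j ζ₀) (1 : Matrix (Fin n) (Fin n) F) (Pi.single (0 : ZMod r) n) := by
      obtain ⟨m1, hm1⟩ := exists_hasMult j hζ (A := (1 : Matrix (Fin n) (Fin n) F)) (one_pow r)
      have h0 := (eq_one_iff_hasMult j hζ hr (one_pow r) hm1).1 rfl
      have hs := HasMult.sum_eq j hm1
      rw [sum_zmod, Fintype.card_fin, Finset.sum_eq_zero (fun u _ => h0 _ u.ne_zero), add_zero] at hs
      convert hm1 using 1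
      funext a
      rcases eq_or_ne a 0 with rfl | ha
      · rw [Pi.single_eq_same, hs]
      · rw [Pi.single_eq_of_ne ha, h0 a ha]
    have h2 := HasMult.smul_root j hζ hr (one_pow r) h1 (i : ZMod r)
    have hAi : A = (ζ₀ ^ ((i : ZMod r)).val) • (1 : Matrix (Fin n) (Fin n) F) := by
      rw [hA, ← hi, ZMod.val_natCast, pow_eq_pow_of_modEq (Nat.mod_modEq i r) hζ₀p.pow_eq_one]
    rw [← hAi] at h2
    exact ⟨(i : ZMod r), by rw [HasMult.unique j hζ hm h2]; simp⟩
  have hgm_notcentral : ∀ m, gm m ∉ Subgroup.center ↥G := by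
    intro m hmem
    obtain ⟨c, -, hc⟩ := (hcenter _).1 hmem
    obtain ⟨a, ha⟩ := hscalmult _ _ m.1 (by rw [hc, coe_scal])
      (by rw [← Units.val_pow_eq_pow_val, ← SubmonoidClass.coe_pow, hgm m]; rfl) (hgmm m)
    exact m.2.2 a ha
  have hgx_notcentral : ∀ x, (⟨gx x, hgxG x⟩ : G) ∉ Subgroup.center ↥G := by
    intro x hmem
    obtain ⟨c, hcS, hc⟩ := (hcenter _).1 hmem
    refine hnotP x c hcS (scal_injective hn ?_)
    rw [map_pow, ← hgx x]
    exact congrArg (· ^ r) hc.symm
  have hrel : ∀ m m' : Spread r n, AddAction.orbitRel (ZMod r) (Spread r n) m m' →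
      IsConj (QuotientGroup.mk (gm m) : ↥G ⧸ Subgroup.center ↥G) (QuotientGroup.mk (gm m')) := by
    intro m m' hrel
    obtain ⟨k, hk⟩ := AddAction.orbitRel_apply.1 hrel
    refine (hquot _ _).2 ⟨(z : Fˣ) ^ k.val, pow_mem z.2 _, ?_⟩
    have hmul : ((((gm m' : GL (Fin n) F)) * scal n F ((z : Fˣ) ^ k.val) : GL (Fin n) F) : Matrix (Fin n) (Fin n) F)
        = (ζ₀ ^ k.val) • ((gm m' : GL (Fin n) F) : Matrix (Fin n) (Fin n) F) := by
      rw [Units.val_mul, coe_scal, mul_smul_comm, mul_one, Units.val_pow_eq_pow_val]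
    have hpow' : ((gm m' : GL (Fin n) F) : Matrix (Fin n) (Fin n) F) ^ r = 1 := by
      rw [← Units.val_pow_eq_pow_val, ← SubmonoidClass.coe_pow, hgm m']; rfl
    have hAr : ((gm m : GL (Fin n) F) : Matrix (Fin n) (Fin n) F) ^ r = 1 := by
      rw [← Units.val_pow_eq_pow_val, ← SubmonoidClass.coe_pow, hgm m]; rfl
    have h2 := HasMult.smul_root j hζ hr hpow' (hgmm m') k
    obtain ⟨c, hc⟩ := isConj_of_hasMult j hζ hr (B := (ζ₀ ^ k.val) • ((gm m' : GL (Fin n) F) : Matrix _ _ F)) hAr
      (by rw [_root_.smul_pow, hpow', ← pow_mul, mul_comm, pow_mul, hζ₀p.pow_eq_one, one_pow, one_smul])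
      (hgmm m) (by rw [← hk]; exact h2)
    exact isConj_iff.2 ⟨c, mul_inv_eq_iff_eq_mul.2 (Units.ext (by rw [Units.val_mul, Units.val_mul, hmul]; exact hc.eq))⟩
  let f : Quotient (AddAction.orbitRel (ZMod r) (Spread r n)) ⊕ T →
      {C : ConjClasses (↥G ⧸ Subgroup.center ↥G) //
        ∃ g : ↥G ⧸ Subgroup.center ↥G, ConjClasses.mk g = C ∧ orderOf g = r} :=
    Sum.elim
      (Quotient.lift (fun m => ⟨ConjClasses.mk (QuotientGroup.mk (gm m)), _, rfl,
          (hord _).2 ⟨by rw [hgm m]; exact one_mem _, hgm_notcentral m⟩⟩)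
        fun m m' h => Subtype.ext (ConjClasses.mk_eq_mk_iff_isConj.2 (hrel m m' h)))
      (fun x => ⟨ConjClasses.mk (QuotientGroup.mk (⟨gx x, hgxG x⟩ : G)), _, rfl, (hord _).2
        ⟨(hcenter _).2 ⟨_, (Quotient.out x.1).2, hgx x⟩, hgx_notcentral x⟩⟩)
  -- powers of conjugates
  have hpowconj : ∀ (g h : GL (Fin n) F) (a b c : Fˣ), IsConj g (h * scal n F c) → g ^ r = scal n F a →
      h ^ r = scal n F b → a = b * c ^ r := by
    intro g h a b c hgh ha hb
    obtain ⟨y, hy⟩ := isConj_iff.1 hgh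
    have h1 := congrArg (· ^ r) hy
    simp only [conj_pow, ha, (scal_comm c h).symm.mul_pow, hb] at h1
    rw [← (scal_comm a y).eq, mul_inv_cancel_right, ← map_pow, ← map_mul] at h1
    exact scal_injective hn h1
  have hbij : Function.Bijective f := by
    constructor
    · have hP : ∀ (x : T) (s : S), ((Quotient.out x.1 : S) : Fˣ) = (s : Fˣ) ^ r → False := fun x s h =>
        hnotP x s s.2 h.symm
      rintro (a | x) (b | y) h <;> have h := congrArg Subtype.val h
      · induction a using Quotient.inductionOn with | h m => ?_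
        induction b using Quotient.inductionOn with | h m' => ?_
        simp only [f, Sum.elim_inl, Quotient.lift_mk, ConjClasses.mk_eq_mk_iff_isConj] at h
        obtain ⟨c, hcS, hc⟩ := (hquot _ _).1 h
        have hm1 : (gm m : GL (Fin n) F) ^ r = scal n F 1 := by rw [← SubmonoidClass.coe_pow, hgm m, map_one]; rfl
        have hm1' : (gm m' : GL (Fin n) F) ^ r = scal n F 1 := by rw [← SubmonoidClass.coe_pow, hgm m', map_one]; rfl
        have hcr := hpowconj _ _ _ _ _ hc hm1 hm1'
        rw [one_mul] at hcr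
        obtain ⟨i, -, hi⟩ := hζ₀p.eq_pow_of_pow_eq_one (show (c : F) ^ r = 1 by
          rw [← Units.val_pow_eq_pow_val, ← hcr, Units.val_one])
        have hci : (c : F) = ζ₀ ^ (i : ZMod r).val := by
          rw [← hi, ZMod.val_natCast]; exact (pow_eq_pow_of_modEq (Nat.mod_modEq i r) hζ₀p.pow_eq_one).symm
        have h2 := HasMult.smul_root j hζ hr (by rw [← Units.val_pow_eq_pow_val, hm1', map_one]; rfl) (hgmm m') (i : ZMod r)
        have h3 := hasMult_congr j ((Units.coeHom (Matrix (Fin n) (Fin n) F)).map_isConj hc) (hgmm m)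
        rw [Units.coeHom_apply, Units.val_mul, coe_scal, mul_smul_comm, mul_one, hci] at h3
        refine congrArg Sum.inl (Quotient.sound (AddAction.orbitRel_apply.2 ⟨(i : ZMod r), Subtype.ext ?_⟩))
        exact (HasMult.unique j hζ h3 h2).symm
      · induction a using Quotient.inductionOn with | h m => ?_
        simp only [f, Sum.elim_inl, Sum.elim_inr, Quotient.lift_mk, ConjClasses.mk_eq_mk_iff_isConj] at h
        obtain ⟨c, hcS, hc⟩ := (hquot _ _).1 h
        have hcr := hpowconj _ _ _ _ _ hc (show (gm m : GL (Fin n) F) ^ r = scal n F 1 by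
          rw [← SubmonoidClass.coe_pow, hgm m, map_one]; rfl) (hgx y)
        refine (hP y ⟨c⁻¹, inv_mem hcS⟩ ?_).elim
        rw [inv_pow, eq_inv_iff_mul_eq_one, ← hcr]
      · induction b using Quotient.inductionOn with | h m => ?_
        simp only [f, Sum.elim_inl, Sum.elim_inr, Quotient.lift_mk, ConjClasses.mk_eq_mk_iff_isConj] at h
        obtain ⟨c, hcS, hc⟩ := (hquot _ _).1 h
        have hcr := hpowconj _ _ _ _ _ hc (hgx x) (show (gm m : GL (Fin n) F) ^ r = scal n F 1 by
          rw [← SubmonoidClass.coe_pow, hgm m, map_one]; rfl)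
        exact (hP x ⟨c, hcS⟩ (by rw [hcr, one_mul])).elim
      · simp only [f, Sum.elim_inr, ConjClasses.mk_eq_mk_iff_isConj] at h
        obtain ⟨c, hcS, hc⟩ := (hquot _ _).1 h
        have hcr := hpowconj _ _ _ _ _ hc (hgx x) (hgx y)
        refine congrArg Sum.inr (Subtype.ext ?_)
        rw [← Quotient.out_eq x.1, ← Quotient.out_eq y.1]
        refine QuotientGroup.eq.2 ⟨⟨c, hcS⟩⁻¹, Subtype.ext ?_⟩
        show (c⁻¹) ^ r = ((Quotient.out x.1 : S) : Fˣ)⁻¹ * ((Quotient.out y.1 : S) : Fˣ)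
        rw [hcr, inv_pow, _root_.mul_inv_rev, mul_assoc, inv_mul_cancel, mul_one]
    · rintro ⟨C, gq, rfl, hgq⟩
      obtain ⟨g, rfl⟩ := QuotientGroup.mk_surjective gq
      obtain ⟨hgc, hgnc⟩ := (hord g).1 hgq
      obtain ⟨a, haS, ha⟩ := (hcenter _).1 hgc
      rw [SubmonoidClass.coe_pow] at ha
      set A := ((g : GL (Fin n) F) : Matrix (Fin n) (Fin n) F)
      have hAa : A ^ r = (a : F) • 1 := by rw [← Units.val_pow_eq_pow_val, ha, coe_scal]
      by_cases haP : ∃ s ∈ S, s ^ r = a
      · obtain ⟨s, hsS, hs⟩ := haP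
        set g' := (g : GL (Fin n) F) * scal n F s⁻¹
        have hg'r : g' ^ r = 1 := by
          rw [(scal_comm s⁻¹ _).symm.mul_pow, ha, ← map_pow, ← map_mul, ← hs, ← mul_pow, mul_inv_cancel, one_pow,
            map_one]
        have hB : (g' : Matrix (Fin n) (Fin n) F) ^ r = 1 := by rw [← Units.val_pow_eq_pow_val, hg'r, Units.val_one]
        obtain ⟨μ, hμ⟩ := exists_hasMult j hζ hB
        have hμs : ∑ b, μ b = n := (HasMult.sum_eq j hμ).trans (Fintype.card_fin n)
        have hμc : ∀ b, μ b ≠ n := by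
          intro b hb
          have hsingle : μ = fun c => (Pi.single (0 : ZMod r) n : ZMod r → ℕ) (c - b) := funext fun c => by
            rcases eq_or_ne c b with rfl | hc
            · rw [sub_self, Pi.single_eq_same, hb]
            · rw [Pi.single_eq_of_ne (sub_ne_zero.2 hc)]
              have h1 := Finset.add_sum_erase Finset.univ μ (Finset.mem_univ b)
              have h2 := Finset.single_le_sum (f := μ) (fun _ _ => Nat.zero_le _)
                (Finset.mem_erase.2 ⟨hc, Finset.mem_univ c⟩)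
              omega
          have hone : HasMult j (j ζ₀) (1 : Matrix (Fin n) (Fin n) F) (Pi.single (0 : ZMod r) n) := by
            obtain ⟨m1, hm1⟩ := exists_hasMult j hζ (A := (1 : Matrix (Fin n) (Fin n) F)) (one_pow r)
            have h0 := (eq_one_iff_hasMult j hζ hr (one_pow r) hm1).1 rfl
            have hs' := HasMult.sum_eq j hm1
            rw [sum_zmod, Fintype.card_fin, Finset.sum_eq_zero (fun u _ => h0 _ u.ne_zero), add_zero] at hs'
            convert hm1 using 1
            funext c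
            rcases eq_or_ne c 0 with rfl | hc
            · rw [Pi.single_eq_same, hs']
            · rw [Pi.single_eq_of_ne hc, h0 c hc]
          have h2 := HasMult.smul_root j hζ hr (one_pow r) hone b
          rw [← hsingle] at h2
          obtain ⟨Q, hQ⟩ := isConj_of_hasMult j hζ hr hB
            (by rw [_root_.smul_pow, one_pow, ← pow_mul, mul_comm, pow_mul, hζ₀p.pow_eq_one, one_pow, one_smul]) hμ h2
          have hQ' : (Q : Matrix (Fin n) (Fin n) F) * (g' : Matrix (Fin n) (Fin n) F)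
              = (Q : Matrix (Fin n) (Fin n) F) * ((ζ₀ ^ b.val) • 1) := by
            rw [hQ.eq, smul_mul_assoc, one_mul, mul_smul_comm, mul_one]
          refine hgnc ((hcenter g).2 ⟨(z : Fˣ) ^ b.val * s, mul_mem (pow_mem z.2 _) hsS, ?_⟩)
          have hg's : g' = scal n F ((z : Fˣ) ^ b.val) := Units.ext (by
            rw [Q.isUnit.mul_left_cancel hQ', coe_scal, Units.val_pow_eq_pow_val])
          rw [map_mul, ← hg's]
          simp [g', mul_assoc, ← map_mul]
        refine ⟨Sum.inl (Quotient.mk _ ⟨μ, hμs, hμc⟩), Subtype.ext (ConjClasses.mk_eq_mk_iff_isConj.2 ?_)⟩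
        refine (hquot _ _).2 ⟨s⁻¹, inv_mem hsS, ?_⟩
        obtain ⟨Q, hQ⟩ := isConj_of_hasMult j hζ hr
          (by rw [← Units.val_pow_eq_pow_val, ← SubmonoidClass.coe_pow, hgm ⟨μ, hμs, hμc⟩]; rfl) hB
          (hgmm ⟨μ, hμs, hμc⟩) hμ
        exact isConj_iff.2 ⟨Q, mul_inv_eq_iff_eq_mul.2 (Units.ext hQ.eq)⟩
      · push Not at haP
        have hirr : Irreducible ((X : F[X]) ^ r - C (a : F)) := X_pow_sub_C_irreducible_of_prime hrp fun b hb => by
          refine hpow a haS haP (Units.mk0 b fun h0 => a.ne_zero (by rw [← hb, h0, zero_pow hrp.ne_zero])) (Units.ext ?_)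
          rw [Units.val_pow_eq_pow_val, Units.val_mk0, hb]
        have hmon : ((X : F[X]) ^ r - C (a : F)).Monic := monic_X_pow_sub_C _ hrp.ne_zero
        have hann : ∀ B : Matrix (Fin n) (Fin n) F, B ^ r = (a : F) • 1 →
            aeval B ((X : F[X]) ^ r - C (a : F)) = 0 := fun B hB => by
          rw [map_sub, map_pow, aeval_X, aeval_C, hB, Algebra.algebraMap_eq_smul_one, sub_self]
        have hcp : ∀ B : Matrix (Fin n) (Fin n) F, B ^ r = (a : F) • 1 →
            ∃ k, B.charpoly = ((X : F[X]) ^ r - C (a : F)) ^ k ∧ n = k * r := fun B hB => by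
          obtain ⟨k, hk⟩ := Semisimple.charpoly_eq_pow (toLinAlgEquiv' B) _ hirr hmon (by
            rw [show aeval (toLinAlgEquiv' B) ((X : F[X]) ^ r - C (a : F)) = toLinAlgEquiv' (aeval B ((X : F[X]) ^ r - C (a : F)))
              from aeval_algHom_apply (toLinAlgEquiv' : Matrix (Fin n) (Fin n) F ≃ₐ[F] _).toAlgHom B _, hann B hB, map_zero])
          have hk' : B.charpoly = ((X : F[X]) ^ r - C (a : F)) ^ k := by
            rw [← hk, ← LinearMap.charpoly_toMatrix (toLinAlgEquiv' B) (Pi.basisFun F (Fin n)),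
              LinearMap.toMatrix_eq_toMatrix']
            congr 1
            exact (LinearMap.toMatrix'_toLin' B).symm
          refine ⟨k, hk', ?_⟩
          have := congrArg natDegree hk'
          rwa [Matrix.charpoly_natDegree_eq_dim, Fintype.card_fin, natDegree_pow, natDegree_X_pow_sub_C] at this
        obtain ⟨k₁, hk₁, hnk⟩ := hcp A hAa
        have hrn : r ∣ n := ⟨k₁, by rw [hnk, mul_comm]⟩
        let x₀ : S ⧸ P := QuotientGroup.mk ⟨a, haS⟩
        have hx₀ : x₀ ≠ 1 := by
          intro h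
          obtain ⟨s, hs⟩ := (QuotientGroup.eq_one_iff _).1 h
          exact haP s s.2 (congrArg Subtype.val hs)
        let x : T := ⟨x₀, hx₀, hrn⟩
        obtain ⟨s, hs⟩ := QuotientGroup.eq.1 (Quotient.out_eq x₀)
        have hs' : a = ((Quotient.out x₀ : S) : Fˣ) * (s : Fˣ) ^ r := by
          have := congrArg Subtype.val hs
          simp only [powMonoidHom_apply, SubmonoidClass.coe_pow, Subgroup.coe_mul, InvMemClass.coe_inv] at this
          rw [this, mul_inv_cancel_left]
        refine ⟨Sum.inr x, Subtype.ext (ConjClasses.mk_eq_mk_iff_isConj.2 (IsConj.symm ((hquot _ _).2 ⟨s, s.2, ?_⟩)))⟩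
        set B := gx x * scal n F (s : Fˣ)
        have hBa : (B : Matrix (Fin n) (Fin n) F) ^ r = (a : F) • 1 := by
          rw [← Units.val_pow_eq_pow_val, (scal_comm _ _).symm.mul_pow, hgx x, ← map_pow, ← map_mul, hs', coe_scal]
        obtain ⟨k₂, hk₂, hnk₂⟩ := hcp _ hBa
        obtain rfl : k₁ = k₂ := Nat.eq_of_mul_eq_mul_right hrp.pos (hnk.symm.trans hnk₂)
        have hsq : Squarefree ((X : F[X]) ^ r - C (a : F)) := hirr.squarefree
        obtain ⟨Q, hQ⟩ := Semisimple.isConj_of_charpoly A (B : Matrix (Fin n) (Fin n) F) _ _ hsq (hann _ hAa)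
          hsq (hann _ hBa) (hk₁.trans hk₂.symm)
        exact isConj_iff.2 ⟨Q, mul_inv_eq_iff_eq_mul.2 (Units.ext hQ.eq)⟩
  have hPindex : P.index = r := by
    rw [IsCyclic.index_powMonoidHom_range, Nat.gcd_eq_right hS]
  have hT : Nat.card T = (r - 1) * (if r ∣ n then 1 else 0) := by
    haveI : Fintype (S ⧸ P) := Fintype.ofFinite _
    split_ifs with hd
    · rw [mul_one, Nat.card_congr (Equiv.subtypeEquivRight (q := fun x : S ⧸ P => x ≠ 1) fun x => and_iff_left hd),
        Nat.card_eq_fintype_card, Fintype.card_subtype_compl, Fintype.card_subtype_eq, ← Nat.card_eq_fintype_card,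
        ← Subgroup.index_eq_card, hPindex]
    · rw [mul_zero]
      exact Nat.card_eq_zero.2 (Or.inl ⟨fun x => hd x.2.2⟩)
  haveI := finite_spread r n
  haveI : Finite T := Subtype.finite
  rw [← Nat.card_congr (Equiv.ofBijective f hbij), Nat.card_sum, natCard_orbits n hn, hT, add_assoc]
  refine congrArg _ ?_
  split_ifs
  · have := hrp.two_le; omega
  · simp

end Cfsg.Agent.Lib.FormConj
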