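import Mathlib
import Cfsg.Prelude.Def_ClassicalGeometry
import Cfsg.Agent.Lib.FormConj.SquareSumGroup

/-!
Centraliser orders of involutions of `Sp_{2m}(q)`, `q` even.
-/

set_option autoImplicit false

namespace Cfsg.Agent.Lib.FormConj.InvCentraliser

open InvolutionTwo Classical

variable {F : Type*} [Field F] [Fintype F] [CharP F 2] {m : ℕ}

theorem sympForm_eq (u v : Fin m ⊕ Fin m → F) : Cfsg.sympForm m F u v = stdSymp m u v :=
  (stdSymp_apply m u v).symm

/-- centraliser order in terms of the type group -/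
theorem natCard_symp_centraliser (t : Matrix.symplecticGroup (Fin m) F) (ht : t ^ 2 = 1) {s : ℕ}
    (hs : ((t : Matrix (Fin m ⊕ Fin m) (Fin m ⊕ Fin m) F) - 1).rank = s) :
    s ≤ m ∧ ∃ ε : Bool, (ε = true → Even s) ∧
      (1 ≤ s → (ε = true ↔ ∀ v : Fin m ⊕ Fin m → F,
        Cfsg.sympForm m F v ((t : Matrix (Fin m ⊕ Fin m) (Fin m ⊕ Fin m) F).mulVec v) = 0)) ∧
      Nat.card ↥(Subgroup.centralizer ({t} : Set ↥(Matrix.symplecticGroup (Fin m) F))) =
        Nat.card {E : Matrix (Fin s) (Fin s) F // E * typeMatrix F ε s * E.transpose = typeMatrix F ε s}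
          * (Fintype.card F ^ (2 * (m - s) * s + (s + 1).choose 2))
          * (Fintype.card F ^ ((m - s) ^ 2) *
              ∏ i : Fin (m - s), (Fintype.card F ^ (2 * ((i : ℕ) + 1)) - 1)) := by
  haveI : PerfectRing F 2 := PerfectRing.ofFiniteOfIsReduced 2 F
  set B : LinearMap.BilinForm F (Fin m ⊕ Fin m → F) := stdSymp m with hBdef
  have hS := isSympForm_std (F := F) m
  have hA : B.IsAlt := hS.alt
  have hB : B.Nondegenerate := ⟨hS.nondeg, fun z hz => hS.nondeg z fun w => by rw [hS.flip, hz, neg_zero]⟩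
  set T := symplecticGroupEquiv m t with hT
  have hpres : ∀ g : Matrix.symplecticGroup (Fin m) F, ∀ x y,
      B ((symplecticGroupEquiv m g).1 x) ((symplecticGroupEquiv m g).1 y) = B x y := fun g x y => by
    rw [hBdef, stdSymp_apply, stdSymp_apply]; exact (symplecticGroupEquiv m g).2 x y
  have htt : ∀ x, T.1 (T.1 x) = x := fun x => by
    have e : T * T = 1 := by rw [hT, ← map_mul, ← pow_two, ht, map_one]
    exact congrArg (fun g : biIsoGroup (F := F) (sympFn m F) => g.1 x) e
  obtain ⟨s', ε, r, hr, he, hx⟩ := InvolutionTwo.exists_standard hA hB T.1 (hpres t) htt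
  have hmul : ∀ x, (t : Matrix (Fin m ⊕ Fin m) (Fin m ⊕ Fin m) F).mulVec x = x + nilMap B ε r x :=
    fun x => (symplecticGroupEquiv_apply m t x).symm.trans (hx x)
  obtain rfl : s' = s := by
    rw [← hs, ← finrank_range_nilMap (ε := ε) hB hr.li]
    have hN : Matrix.mulVecLin ((t : Matrix (Fin m ⊕ Fin m) (Fin m ⊕ Fin m) F) - 1) = nilMap B ε r := by
      refine LinearMap.ext fun x => ?_
      rw [Matrix.mulVecLin_apply, Matrix.sub_mulVec, hmul, Matrix.one_mulVec, add_sub_cancel_left]
    rw [← hN]
    rfl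
  have hdim : Module.finrank F (Fin m ⊕ Fin m → F) = m + m := by simp
  have hsm : s' ≤ m := by have := hr.two_mul_le hB; omega
  refine ⟨hsm, ε, he, fun h1 => ?_, ?_⟩
  · rw [type_iff hA hB hr h1 he]
    exact forall_congr' fun v => by rw [sympForm_eq, hmul]
  let e : ↥(Subgroup.centralizer ({t} : Set ↥(Matrix.symplecticGroup (Fin m) F))) ≃ centSet B ε r :=
    { toFun := fun g => ⟨(symplecticGroupEquiv m g.1).1, hpres g.1, fun x => by
        have hcomm := congrArg (fun a : Matrix.symplecticGroup (Fin m) F => (symplecticGroupEquiv m a).1 x)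
          (Subgroup.mem_centralizer_singleton_iff.1 g.2)
        simp only [map_mul, Subgroup.coe_mul, LinearEquiv.mul_apply, ← hT, hx, map_add,
          add_right_inj] at hcomm
        first | exact hcomm | exact hcomm.symm⟩
      invFun := fun g => ⟨(symplecticGroupEquiv m).symm ⟨g.1, fun x y => by
          rw [← stdSymp_apply, ← stdSymp_apply]; exact g.2.1 x y⟩, by
        rw [Subgroup.mem_centralizer_singleton_iff]
        refine (symplecticGroupEquiv m).injective (Subtype.ext (LinearEquiv.ext fun x => ?_))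
        simp only [map_mul, MulEquiv.apply_symm_apply, Subgroup.coe_mul, LinearEquiv.mul_apply, ← hT,
          hx, map_add, g.2.2]⟩
      left_inv := fun g => Subtype.ext ((symplecticGroupEquiv m).symm_apply_apply g.1)
      right_inv := fun g => Subtype.ext (show (symplecticGroupEquiv m ((symplecticGroupEquiv m).symm _)).1 = g.1 by
        rw [MulEquiv.apply_symm_apply]) }
  rw [Nat.card_congr e, natCard_centSet (l := m - s') (by rw [hdim]; omega) hA hB hr,
    Nat.card_eq_fintype_card (α := F), Fin.prod_univ_eq_prod_range (fun i => Fintype.card F ^ (2 * (i + 1)) - 1),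
    ← pow_mul, ← pow_add]

end Cfsg.Agent.Lib.FormConj.InvCentraliser
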