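import Mathlib
import Cfsg.Agent.Lib.FormConj.JordanForms
import Cfsg.Agent.Lib.Similarity.Jordan
import Cfsg.Agent.Lib.KnownSimple.UnipotentClasses

/-!
Classes of the elements of order dividing `p` in `Sp_{2m}` over a finite field of odd characteristic `p`.
-/

set_option autoImplicit false

namespace Cfsg.Agent.Lib.FormConj.SympUnipotent

open Matrix JordanForms Cfsg.Agent.Lib.Similarity Cfsg.Agent.Lib.OrthUnipotent

variable {F : Type*} [Field F]

theorem eq_zero_of_rank {n : Type*} [Fintype n] [DecidableEq n] {A : Matrix n n F} (h : A.rank = 0) : A = 0 := by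
  rw [Matrix.rank, Submodule.finrank_eq_zero, LinearMap.range_eq_bot] at h
  exact Matrix.toLin'.injective (by rw [Matrix.toLin'_apply', h, map_zero])

section Cayley

variable {t : ℕ} (d : Fin t → ℕ)

theorem isNilpotent_nilJordan : IsNilpotent (nilJordan F d) := by
  classical
  refine ⟨Finset.univ.sup d, ?_⟩
  have h := rank_jordanTypeMatrix_sub_one_pow (F := F) d (Finset.univ.sup d)
  rw [tailRank_eq_zero _ _ (fun e he => by
    obtain ⟨k, -, rfl⟩ := Multiset.mem_map.1 he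
    exact Finset.le_sup (Finset.mem_univ k))] at h
  exact eq_zero_of_rank h

/-- `(1 + N)(1 - N)⁻¹` -/
noncomputable def cayU (F : Type*) [Field F] : Matrix (Pos d) (Pos d) F :=
  (1 + nilJordan F d) * Ring.inverse (1 - nilJordan F d)

theorem cayU_mul : cayU d F * (1 - nilJordan F d) = 1 + nilJordan F d := by
  rw [cayU, mul_assoc, Ring.inverse_mul_cancel _ (isNilpotent_nilJordan d).isUnit_one_sub, mul_one]

theorem cayU_sub_one : cayU d F - 1 = (2 : F) • nilJordan F d * Ring.inverse (1 - nilJordan F d) := by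
  have hu := (isNilpotent_nilJordan (F := F) d).isUnit_one_sub
  calc cayU d F - 1
      = (1 + nilJordan F d) * Ring.inverse (1 - nilJordan F d)
        - (1 - nilJordan F d) * Ring.inverse (1 - nilJordan F d) := by
        rw [Ring.mul_inverse_cancel _ hu, cayU]
    _ = _ := by
        rw [← sub_mul, two_smul]
        congr 1
        abel

theorem cayU_sub_one_pow (h2 : (2 : F) ≠ 0) (j : ℕ) :
    ((cayU d F - 1) ^ j).rank = tailRank (partsOf d) j := by
  have hu := (isNilpotent_nilJordan (F := F) d).isUnit_one_sub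
  have hc : Commute ((2 : F) • nilJordan F d) (Ring.inverse (1 - nilJordan F d)) := by
    obtain ⟨u, hu⟩ := hu
    rw [← hu, Ring.inverse_unit]
    exact (show Commute ((2 : F) • nilJordan F d) (u : Matrix (Pos d) (Pos d) F) by
      rw [hu]; exact ((Commute.one_right _).sub_right (Commute.refl _)).smul_left _).units_inv_right
  rw [cayU_sub_one, hc.mul_pow, smul_pow, ← rank_jordanTypeMatrix_sub_one_pow (F := F),
    Matrix.rank_mul_eq_left_of_isUnit_det _ _ ((isUnit_iff_isUnit_det _).1 ((hu.ringInverse).pow j))]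
  rw [← Matrix.rank_mul_eq_right_of_isUnit_det (((2 : F) ^ j) • (1 : Matrix (Pos d) (Pos d) F))
    ((Cfsg.jordanTypeMatrix d F - 1) ^ j) (by
      rw [det_smul, det_one, mul_one]; exact (IsUnit.mk0 _ (pow_ne_zero _ h2)).pow _)]
  rw [smul_mul_assoc, one_mul]
  rfl

theorem isUnit_cayU_add_one (h2 : (2 : F) ≠ 0) : IsUnit (cayU d F + 1) := by
  have hu := (isNilpotent_nilJordan (F := F) d).isUnit_one_sub
  have e : (cayU d F + 1) * (1 - nilJordan F d) = (2 : F) • (1 : Matrix (Pos d) (Pos d) F) := by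
    rw [add_mul, cayU_mul, one_mul, two_smul]; abel
  obtain ⟨u, hu⟩ := hu
  have : cayU d F + 1 = (2 : F) • (↑u⁻¹ : Matrix (Pos d) (Pos d) F) := by
    rw [← Units.mul_inv_cancel_right (cayU d F + 1) u, hu, e, smul_mul_assoc, one_mul]
  rw [this, isUnit_iff_isUnit_det, det_smul]
  exact ((IsUnit.mk0 _ h2).pow _).mul ((isUnit_iff_isUnit_det _).1 (Units.isUnit _))

theorem commute_nilJordan (h2 : (2 : F) ≠ 0) {C : Matrix (Pos d) (Pos d) F} (h : Commute C (cayU d F)) :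
    C ∈ commRing F d := by
  have e : nilJordan F d * (cayU d F + 1) = cayU d F - 1 := by
    have h1 := cayU_mul (F := F) d
    have h2' : Commute (nilJordan F d) (cayU d F) := by
      unfold cayU
      refine (Commute.add_right (Commute.one_right _) (Commute.refl _)).mul_right ?_
      obtain ⟨u, hu⟩ := (isNilpotent_nilJordan (F := F) d).isUnit_one_sub
      rw [← hu, Ring.inverse_unit]
      exact (show Commute (nilJordan F d) (u : Matrix (Pos d) (Pos d) F) by
        rw [hu]; exact (Commute.one_right _).sub_right (Commute.refl _)).units_inv_right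
    rw [mul_sub, mul_one] at h1
    rw [mul_add, mul_one, h2'.eq]
    calc cayU d F * nilJordan F d + nilJordan F d
        = (1 + nilJordan F d) + cayU d F * nilJordan F d - 1 := by abel
      _ = _ := by rw [← h1]; abel
  obtain ⟨v, hv⟩ := isUnit_cayU_add_one (F := F) d h2
  rw [mem_commRing_iff_nil]
  have : nilJordan F d = (cayU d F - 1) * (↑v⁻¹ : Matrix (Pos d) (Pos d) F) := by
    rw [← e, ← hv, Units.mul_inv_cancel_right]
  have hc : Commute C (nilJordan F d) := by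
    rw [this]
    exact (h.sub_right (Commute.one_right C)).mul_right
      ((show Commute C (v : Matrix (Pos d) (Pos d) F) by
        rw [hv]; exact h.add_right (Commute.one_right C)).units_inv_right)
  exact hc.symm.eq

theorem commute_cayU {C : Matrix (Pos d) (Pos d) F} (h : C ∈ commRing F d) : Commute C (cayU d F) := by
  rw [mem_commRing_iff_nil] at h
  have hc : Commute C (nilJordan F d) := h.symm
  unfold cayU
  refine ((Commute.one_right C).add_right hc).mul_right ?_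
  obtain ⟨u, hu⟩ := (isNilpotent_nilJordan (F := F) d).isUnit_one_sub
  rw [← hu, Ring.inverse_unit]
  exact (show Commute C (u : Matrix (Pos d) (Pos d) F) by
    rw [hu]; exact (Commute.one_right C).sub_right hc).units_inv_right

theorem isInvariantForm_iff (h2 : (2 : F) ≠ 0) (K : Matrix (Pos d) (Pos d) F) :
    IsInvariantForm d K ↔ (cayU d F)ᵀ * K * cayU d F = K := by
  set N := nilJordan F d with hN
  have hu : IsUnit (1 - N) := (isNilpotent_nilJordan (F := F) d).isUnit_one_sub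
  have hu' : IsUnit (1 - N)ᵀ := by
    rw [isUnit_iff_isUnit_det, det_transpose]; exact (isUnit_iff_isUnit_det _).1 hu
  have e : (1 - N)ᵀ * ((cayU d F)ᵀ * K * cayU d F - K) * (1 - N) = (2 : F) • (Nᵀ * K + K * N) := by
    calc (1 - N)ᵀ * ((cayU d F)ᵀ * K * cayU d F - K) * (1 - N)
        = (cayU d F * (1 - N))ᵀ * K * (cayU d F * (1 - N)) - (1 - N)ᵀ * K * (1 - N) := by
          rw [transpose_mul]; noncomm_ring
      _ = (1 + Nᵀ) * K * (1 + N) - (1 - Nᵀ) * K * (1 - N) := by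
          rw [hN, cayU_mul, transpose_add, transpose_sub, transpose_one]
      _ = (2 : F) • (Nᵀ * K + K * N) := by rw [two_smul]; noncomm_ring
  show Nᵀ * K + K * N = 0 ↔ _
  constructor
  · intro h
    rw [h, smul_zero, hu.mul_left_eq_zero, hu'.mul_right_eq_zero, sub_eq_zero] at e
    exact e
  · intro h
    rw [h, sub_self, mul_zero, zero_mul, eq_comm, smul_eq_zero] at e
    exact e.resolve_left h2

end Cayley

/-! ### Partitions -/

variable {N : ℕ}

/-- the parts as a family -/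
noncomputable def partFn (μ : Nat.Partition N) : Fin μ.parts.toList.length → ℕ := fun k => μ.parts.toList.get k

theorem partsOf_partFn (μ : Nat.Partition N) : partsOf (partFn μ) = μ.parts := by
  unfold partsOf partFn
  rw [Fin.univ_val_map, List.ofFn_get, Multiset.coe_toList]

theorem one_le_partFn (μ : Nat.Partition N) (k : Fin μ.parts.toList.length) : 1 ≤ partFn μ k :=
  μ.parts_pos (by
    rw [← partsOf_partFn μ]
    exact Multiset.mem_map.2 ⟨k, Finset.mem_univ_val k, rfl⟩)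

theorem natCard_idx (μ : Nat.Partition N) (e : ℕ) : Nat.card (Idx (partFn μ) e) = μ.parts.count e := by
  classical
  rw [Nat.card_eq_fintype_card, Fintype.card_subtype, ← count_partsOf, partsOf_partFn]

theorem tailRank_add_minSum (s : Multiset ℕ) (j : ℕ) : tailRank s j + KnownSimple.minSum s j = s.sum := by
  induction s using Multiset.induction with
  | empty => simp [tailRank, KnownSimple.minSum]
  | cons a s ih =>
    simp only [tailRank, KnownSimple.minSum, Multiset.map_cons, Multiset.sum_cons] at ih ⊢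
    omega

theorem le_of_tailRank_eq_zero {s : Multiset ℕ} {j : ℕ} (h : tailRank s j = 0) : ∀ a ∈ s, a ≤ j := by
  intro a ha
  have h1 : a - j ≤ tailRank s j := Multiset.le_sum_of_mem (Multiset.mem_map_of_mem (fun e => e - j) ha)
  omega

/-- a chosen indexing of the positions -/
noncomputable def posEquiv {m : ℕ} (μ : Nat.Partition (2 * m)) : Pos (partFn μ) ≃ Fin m ⊕ Fin m :=
  (exists_jordan_equiv (partFn μ) (m := 2 * m)
    (by rw [← sum_partsOf, partsOf_partFn, μ.parts_sum]) (by simp [two_mul])).some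

/-! ### The classification -/

variable [Fintype F] {p : ℕ} [Fact p.Prime] [CharP F p] {m : ℕ}

omit [Fintype F] in
theorem two_ne (hp : p ≠ 2) : (2 : F) ≠ 0 := by
  intro h
  have : p ∣ 2 := (CharP.cast_eq_zero_iff F p 2).1 (by exact_mod_cast h)
  exact hp ((Nat.prime_dvd_prime_iff_eq Fact.out Nat.prime_two).1 this)

/-- `g` has type `μ` with square classes `χ` -/
def Spec (μ : Nat.Partition (2 * m)) (χ : ℕ → Bool) (g : Matrix (Fin m ⊕ Fin m) (Fin m ⊕ Fin m) F) : Prop :=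
  ∃ P : Matrix (Fin m ⊕ Fin m) (Fin m ⊕ Fin m) F, IsUnit P ∧
    g * P = P * Matrix.reindexAlgEquiv F F (posEquiv μ) (cayU (partFn μ) F) ∧
    ∀ k, Even (partFn μ k) → (sqClass (one_le_partFn μ)
      ((Matrix.reindexAlgEquiv F F (posEquiv μ)).symm (Pᵀ * Matrix.J (Fin m) F * P)) (partFn μ k)
        ↔ χ (partFn μ k) = true)

theorem reindex_transpose {κ κ' : Type*} [Fintype κ] [DecidableEq κ] [Fintype κ'] [DecidableEq κ']
    (e : κ ≃ κ') (M : Matrix κ κ F) :
    (Matrix.reindexAlgEquiv F F e M)ᵀ = Matrix.reindexAlgEquiv F F e Mᵀ := by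
  simp [Matrix.transpose_reindex]

theorem validForm_of_conj (hp : p ≠ 2) (μ : Nat.Partition (2 * m))
    {g P : Matrix (Fin m ⊕ Fin m) (Fin m ⊕ Fin m) F} (hg : g ∈ Matrix.symplecticGroup (Fin m) F)
    (hP : IsUnit P) (hgP : g * P = P * Matrix.reindexAlgEquiv F F (posEquiv μ) (cayU (partFn μ) F)) :
    IsValidForm (partFn μ) ((Matrix.reindexAlgEquiv F F (posEquiv μ)).symm (Pᵀ * Matrix.J (Fin m) F * P)) := by
  set R := Matrix.reindexAlgEquiv F F (posEquiv μ) with hR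
  have hRT : ∀ M, (R M)ᵀ = R Mᵀ := reindex_transpose _
  have hJ := SymplecticGroup.mem_iff'.1 hg
  refine ⟨R.injective ?_, ?_, ?_⟩
  · rw [← hRT, map_neg, AlgEquiv.apply_symm_apply, transpose_mul, transpose_mul, transpose_transpose,
      Matrix.J_transpose]
    noncomm_ring
  · refine IsUnit.map R.symm (IsUnit.mul (IsUnit.mul ?_ ?_) hP)
    · exact (isUnit_iff_isUnit_det _).2 (by rw [det_transpose]; exact (isUnit_iff_isUnit_det _).1 hP)
    · exact (isUnit_iff_isUnit_det _).2 (Matrix.isUnit_det_J (Fin m) F)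
  · rw [isInvariantForm_iff _ (two_ne hp)]
    apply R.injective
    rw [map_mul, map_mul, ← hRT, AlgEquiv.apply_symm_apply]
    calc (R (cayU (partFn μ) F))ᵀ * (Pᵀ * Matrix.J (Fin m) F * P) * R (cayU (partFn μ) F)
        = (P * R (cayU (partFn μ) F))ᵀ * Matrix.J (Fin m) F * (P * R (cayU (partFn μ) F)) := by
          rw [transpose_mul]; noncomm_ring
      _ = Pᵀ * (gᵀ * Matrix.J (Fin m) F * g) * P := by rw [← hgP, transpose_mul]; noncomm_ring
      _ = Pᵀ * Matrix.J (Fin m) F * P := by rw [hJ]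

theorem rank_reindex_cayU (hp : p ≠ 2) (μ : Nat.Partition (2 * m)) (j : ℕ) :
    ((Matrix.reindexAlgEquiv F F (posEquiv μ) (cayU (partFn μ) F) - 1) ^ j).rank = tailRank μ.parts j := by
  rw [← map_one (Matrix.reindexAlgEquiv F F (posEquiv μ)), ← map_sub, ← map_pow,
    Matrix.coe_reindexAlgEquiv, Matrix.rank_reindex, cayU_sub_one_pow _ (two_ne hp), partsOf_partFn]

theorem exists_spec (hp : p ≠ 2) (g : Matrix.symplecticGroup (Fin m) F) (hg : g ^ p = 1) :
    ∃ μ : Nat.Partition (2 * m), ((∀ a ∈ μ.parts, a ≤ p) ∧ ∀ j : ℕ, Odd j → Even (μ.parts.count j)) ∧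
      ∃ χ, Spec μ χ (g : Matrix (Fin m ⊕ Fin m) (Fin m ⊕ Fin m) F) := by
  classical
  set A := (g : Matrix (Fin m ⊕ Fin m) (Fin m ⊕ Fin m) F)
  have hAp : (A - 1) ^ p = 0 := by
    rcases isEmpty_or_nonempty (Fin m ⊕ Fin m) with h | h
    · exact Subsingleton.elim _ _
    haveI : CharP (Matrix (Fin m ⊕ Fin m) (Fin m ⊕ Fin m) F) p := Matrix.charP p
    have e : A ^ p = 1 := congrArg Subtype.val hg
    rw [sub_pow_char_of_commute (p := p) (Commute.one_right A), e, one_pow, sub_self]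
  let e : Fin m ⊕ Fin m ≃ Fin (2 * m) := (Fintype.equivFinOfCardEq (by simp [two_mul]))
  let R := Matrix.reindexAlgEquiv F F e
  obtain ⟨μ, hμ⟩ := KnownSimple.exists_parts (R (A - 1)) ⟨p, by rw [← map_pow, hAp, map_zero]⟩
  have hrank : ∀ j, ((A - 1) ^ j).rank = tailRank μ.parts j := fun j => by
    have h1 := hμ j
    have h2 := tailRank_add_minSum μ.parts j
    rw [← map_pow, Matrix.coe_reindexAlgEquiv, Matrix.rank_reindex] at h1
    rw [μ.parts_sum] at h2
    omega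
  have hle : ∀ a ∈ μ.parts, a ≤ p := le_of_tailRank_eq_zero (by rw [← hrank, hAp, Matrix.rank_zero])
  have hnilU : IsNilpotent (Matrix.reindexAlgEquiv F F (posEquiv μ) (cayU (partFn μ) F) - 1) := by
    refine ⟨p, ?_⟩
    have h := (rank_reindex_cayU (F := F) hp μ p).trans (tailRank_eq_zero _ _ hle)
    exact eq_zero_of_rank h
  obtain ⟨c, hc⟩ := isConj_of_unipotent hnilU ⟨p, hAp⟩ fun j => by
    rw [rank_reindex_cayU hp, hrank]
  have hgP : A * (c : Matrix (Fin m ⊕ Fin m) (Fin m ⊕ Fin m) F)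
      = c * Matrix.reindexAlgEquiv F F (posEquiv μ) (cayU (partFn μ) F) := hc.eq.symm
  have hval := validForm_of_conj hp μ g.2 c.isUnit hgP
  refine ⟨μ, ⟨hle, fun j hj => ?_⟩, fun j => @decide (sqClass (one_le_partFn μ)
      ((Matrix.reindexAlgEquiv F F (posEquiv μ)).symm
        ((c : Matrix (Fin m ⊕ Fin m) (Fin m ⊕ Fin m) F)ᵀ * Matrix.J (Fin m) F * c)) j) (Classical.dec _),
    c, c.isUnit, hgP, fun k _ => (@decide_eq_true_iff _ (Classical.dec _)).symm⟩
  rw [← natCard_idx]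
  exact even_count_of_odd (two_ne hp) hval (one_le_partFn μ) (Nat.not_even_iff_odd.2 hj)

theorem exists_element (hp : p ≠ 2) (μ : Nat.Partition (2 * m))
    (hμ : (∀ a ∈ μ.parts, a ≤ p) ∧ ∀ j : ℕ, Odd j → Even (μ.parts.count j)) (χ : ℕ → Bool) :
    ∃ g : Matrix.symplecticGroup (Fin m) F, g ^ p = 1 ∧
      Spec μ χ (g : Matrix (Fin m ⊕ Fin m) (Fin m ⊕ Fin m) F) := by
  classical
  obtain ⟨K, hK, hχ⟩ := exists_form (F := F) (one_le_partFn μ) (two_ne hp)
    (fun k hk => by rw [natCard_idx]; exact hμ.2 _ (Nat.not_even_iff_odd.1 hk)) χ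
  set R := Matrix.reindexAlgEquiv F F (posEquiv μ) with hR
  have hRT : ∀ M, (R M)ᵀ = R Mᵀ := reindex_transpose _
  obtain ⟨P, hPu, hP⟩ := exists_congr_alt (two_ne hp) (Matrix.J (Fin m) F) (R K) (Matrix.J_transpose _ _)
    (by rw [hRT, hK.alt, map_neg]) (Matrix.isUnit_det_J (Fin m) F).ne_zero
    ((isUnit_iff_isUnit_det _).1 (hK.unit.map R)).ne_zero
  obtain ⟨u, rfl⟩ := hPu
  set U := R (cayU (partFn μ) F)
  have hU : Uᵀ * R K * U = R K := by
    rw [hRT, ← map_mul, ← map_mul, (isInvariantForm_iff _ (two_ne hp) K).1 hK.inv]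
  have huiT : (↑u⁻¹ : Matrix (Fin m ⊕ Fin m) (Fin m ⊕ Fin m) F)ᵀ * (u : Matrix (Fin m ⊕ Fin m) (Fin m ⊕ Fin m) F)ᵀ
      = 1 := by rw [← transpose_mul, Units.mul_inv, transpose_one]
  have hJ : Matrix.J (Fin m) F = (↑u⁻¹ : Matrix (Fin m ⊕ Fin m) (Fin m ⊕ Fin m) F)ᵀ * R K
      * (↑u⁻¹ : Matrix (Fin m ⊕ Fin m) (Fin m ⊕ Fin m) F) := by
    rw [← hP]
    calc Matrix.J (Fin m) F = 1 * Matrix.J (Fin m) F * ((u : Matrix (Fin m ⊕ Fin m) (Fin m ⊕ Fin m) F) * ↑u⁻¹) := by
          rw [Units.mul_inv, one_mul, mul_one]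
      _ = _ := by rw [← huiT]; noncomm_ring
  have hmem : (u : Matrix (Fin m ⊕ Fin m) (Fin m ⊕ Fin m) F) * U * (↑u⁻¹ : Matrix (Fin m ⊕ Fin m) (Fin m ⊕ Fin m) F)
      ∈ Matrix.symplecticGroup (Fin m) F := by
    rw [SymplecticGroup.mem_iff']
    conv_rhs => rw [hJ]
    rw [transpose_mul, transpose_mul]
    calc _ = (↑u⁻¹ : Matrix (Fin m ⊕ Fin m) (Fin m ⊕ Fin m) F)ᵀ *
          (Uᵀ * ((u : Matrix (Fin m ⊕ Fin m) (Fin m ⊕ Fin m) F)ᵀ * Matrix.J (Fin m) F * u) * U) * ↑u⁻¹ := by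
          noncomm_ring
      _ = _ := by rw [hP, hU]
  refine ⟨⟨_, hmem⟩, Subtype.ext ?_, u, u.isUnit, ?_, ?_⟩
  · show ((u : Matrix (Fin m ⊕ Fin m) (Fin m ⊕ Fin m) F) * U
      * ((u⁻¹ : (Matrix (Fin m ⊕ Fin m) (Fin m ⊕ Fin m) F)ˣ) : Matrix (Fin m ⊕ Fin m) (Fin m ⊕ Fin m) F)) ^ p = 1
    rw [Units.conj_pow]
    have h : ((U - 1) ^ p).rank = 0 := (rank_reindex_cayU hp μ p).trans (tailRank_eq_zero _ _ hμ.1)
    have h0 : (U - 1) ^ p = 0 := eq_zero_of_rank h
    have hUp : U ^ p = 1 := by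
      rcases isEmpty_or_nonempty (Fin m ⊕ Fin m) with he | he
      · exact Subsingleton.elim _ _
      haveI : CharP (Matrix (Fin m ⊕ Fin m) (Fin m ⊕ Fin m) F) p := Matrix.charP p
      rw [sub_pow_char_of_commute (p := p) (Commute.one_right U), one_pow, sub_eq_zero] at h0
      exact h0
    rw [hUp, mul_one, Units.mul_inv]
  · exact Units.inv_mul_cancel_right _ _
  · intro k hk
    rw [hP, AlgEquiv.symm_apply_apply]
    exact hχ k hk

theorem spec_unique (hp : p ≠ 2) {g g' : Matrix.symplecticGroup (Fin m) F} (h : IsConj g g')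
    {μ μ' : Nat.Partition (2 * m)} {χ χ' : ℕ → Bool}
    (hg : Spec μ χ (g : Matrix (Fin m ⊕ Fin m) (Fin m ⊕ Fin m) F))
    (hg' : Spec μ' χ' (g' : Matrix (Fin m ⊕ Fin m) (Fin m ⊕ Fin m) F)) :
    μ = μ' ∧ ∀ j ∈ μ.parts, Even j → χ j = χ' j := by
  classical
  obtain ⟨P, ⟨u, rfl⟩, hgP, hχ⟩ := hg
  obtain ⟨P', ⟨u', rfl⟩, hgP', hχ'⟩ := hg'
  obtain ⟨a, ha⟩ := isConj_iff.1 h
  let AL : Matrix.symplecticGroup (Fin m) F →* Matrix (Fin m ⊕ Fin m) (Fin m ⊕ Fin m) F :=
    (Matrix.symplecticGroup (Fin m) F).subtype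
  have hag : (a : Matrix (Fin m ⊕ Fin m) (Fin m ⊕ Fin m) F) * g = g' * a :=
    congrArg Subtype.val (mul_inv_eq_iff_eq_mul.1 ha)
  have hranks : ∀ (ν : Nat.Partition (2 * m)) (w : (Matrix (Fin m ⊕ Fin m) (Fin m ⊕ Fin m) F)ˣ)
      (A : Matrix (Fin m ⊕ Fin m) (Fin m ⊕ Fin m) F),
      A * w = w * Matrix.reindexAlgEquiv F F (posEquiv ν) (cayU (partFn ν) F) →
      ∀ j, ((A - 1) ^ j).rank = tailRank ν.parts j := fun ν w A hA j => by
    rw [← rank_reindex_cayU (F := F) hp ν j]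
    exact (rank_sub_one_pow_of_isConj ⟨w, hA.symm⟩ j).symm
  have hμ : μ = μ' := by
    refine Nat.Partition.ext (tailRank_inj (fun e he => μ.parts_pos he) (fun e he => μ'.parts_pos he) fun j => ?_)
    rw [← hranks μ u _ hgP j, ← hranks μ' u' _ hgP' j]
    refine rank_sub_one_pow_of_isConj ⟨⟨AL a, AL a⁻¹, ?_, ?_⟩, hag⟩ j
    · rw [← map_mul, mul_inv_cancel, map_one]
    · rw [← map_mul, inv_mul_cancel, map_one]
  subst hμ
  refine ⟨rfl, fun j hj hje => ?_⟩
  obtain ⟨k, -, hk⟩ := Multiset.mem_map.1 (by rwa [partsOf_partFn] : j ∈ partsOf (partFn μ))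
  subst hk
  set R := Matrix.reindexAlgEquiv F F (posEquiv μ) with hR
  have hRT : ∀ M, (R M)ᵀ = R Mᵀ := reindex_transpose _
  set U := R (cayU (partFn μ) F)
  let C : Matrix (Fin m ⊕ Fin m) (Fin m ⊕ Fin m) F := (↑u'⁻¹ : Matrix (Fin m ⊕ Fin m) (Fin m ⊕ Fin m) F) * a * u
  have hCU : Commute C U := by
    show C * U = U * C
    calc C * U = (↑u'⁻¹ : Matrix (Fin m ⊕ Fin m) (Fin m ⊕ Fin m) F) * a * ((u : Matrix (Fin m ⊕ Fin m) (Fin m ⊕ Fin m) F) * U) := by
          simp only [C, mul_assoc]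
      _ = (↑u'⁻¹ : Matrix (Fin m ⊕ Fin m) (Fin m ⊕ Fin m) F) * ((g' : Matrix (Fin m ⊕ Fin m) (Fin m ⊕ Fin m) F)
          * ((u' : Matrix (Fin m ⊕ Fin m) (Fin m ⊕ Fin m) F) * ↑u'⁻¹)) * a * u := by
          rw [← hgP, Units.mul_inv, mul_one, mul_assoc _ (g' : Matrix (Fin m ⊕ Fin m) (Fin m ⊕ Fin m) F), ← hag]
          simp only [mul_assoc]
      _ = U * C := by
          rw [← mul_assoc (g' : Matrix (Fin m ⊕ Fin m) (Fin m ⊕ Fin m) F), hgP']
          simp only [C, ← mul_assoc, Units.inv_mul, one_mul]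
  have hC : R.symm C ∈ commRing F (partFn μ) := by
    refine commute_nilJordan _ (two_ne hp) ?_
    have := hCU.map R.symm
    rwa [AlgEquiv.symm_apply_apply] at this
  have haT := SymplecticGroup.mem_iff'.1 a.2
  have hCu : IsUnit C := by
    have ha' : IsUnit (a : Matrix (Fin m ⊕ Fin m) (Fin m ⊕ Fin m) F) :=
      ⟨⟨AL a, AL a⁻¹, by rw [← map_mul, mul_inv_cancel, map_one], by rw [← map_mul, inv_mul_cancel, map_one]⟩, rfl⟩
    exact (u'⁻¹.isUnit.mul ha').mul u.isUnit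
  have hK : (R.symm C)ᵀ * R.symm ((u' : Matrix (Fin m ⊕ Fin m) (Fin m ⊕ Fin m) F)ᵀ * Matrix.J (Fin m) F * u')
      * R.symm C = R.symm ((u : Matrix (Fin m ⊕ Fin m) (Fin m ⊕ Fin m) F)ᵀ * Matrix.J (Fin m) F * u) := by
    apply R.injective
    rw [map_mul, map_mul, ← hRT, AlgEquiv.apply_symm_apply, AlgEquiv.apply_symm_apply, AlgEquiv.apply_symm_apply]
    have e : (u' : Matrix (Fin m ⊕ Fin m) (Fin m ⊕ Fin m) F) * C = (a : Matrix (Fin m ⊕ Fin m) (Fin m ⊕ Fin m) F) * u := by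
      simp only [C, ← mul_assoc, Units.mul_inv, one_mul]
    calc Cᵀ * ((u' : Matrix (Fin m ⊕ Fin m) (Fin m ⊕ Fin m) F)ᵀ * Matrix.J (Fin m) F * u') * C
        = ((u' : Matrix (Fin m ⊕ Fin m) (Fin m ⊕ Fin m) F) * C)ᵀ * Matrix.J (Fin m) F * (u' * C) := by
          rw [transpose_mul (u' : Matrix (Fin m ⊕ Fin m) (Fin m ⊕ Fin m) F) C]; simp only [mul_assoc]
      _ = (u : Matrix (Fin m ⊕ Fin m) (Fin m ⊕ Fin m) F)ᵀ
            * ((a : Matrix (Fin m ⊕ Fin m) (Fin m ⊕ Fin m) F)ᵀ * Matrix.J (Fin m) F * a) * u := by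
          rw [e, transpose_mul]; noncomm_ring
      _ = _ := by rw [haT]
  have hiff := sqClass_congr (one_le_partFn μ) (validForm_of_conj hp μ g'.2 u'.isUnit hgP').inv hC
    (hCu.map R.symm) (partFn μ k)
  rw [hK, hχ k hje, hχ' k hje] at hiff
  exact Bool.eq_iff_iff.2 hiff

theorem isConj_of_spec (hp : p ≠ 2) {g g' : Matrix.symplecticGroup (Fin m) F} {μ : Nat.Partition (2 * m)}
    {χ : ℕ → Bool} (hg : Spec μ χ (g : Matrix (Fin m ⊕ Fin m) (Fin m ⊕ Fin m) F))
    (hg' : Spec μ χ (g' : Matrix (Fin m ⊕ Fin m) (Fin m ⊕ Fin m) F)) : IsConj g g' := by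
  classical
  obtain ⟨P, hPu, hgP, hχ⟩ := hg
  obtain ⟨P', hPu', hgP', hχ'⟩ := hg'
  set R := Matrix.reindexAlgEquiv F F (posEquiv μ) with hR
  have hRT : ∀ M, (R M)ᵀ = R Mᵀ := reindex_transpose _
  obtain ⟨c, hc, hcu, hcK⟩ := exists_congr_of_sqClass (one_le_partFn μ) (two_ne hp)
    (validForm_of_conj hp μ g.2 hPu hgP) (validForm_of_conj hp μ g'.2 hPu' hgP')
    (fun k hk => (hχ k hk).trans (hχ' k hk).symm)
  have hcU : Commute (R c) (R (cayU (partFn μ) F)) := (commute_cayU _ hc).map R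
  obtain ⟨w, hw⟩ := hPu.mul (hcu.map R)
  obtain ⟨w', hw'⟩ := hPu'
  have h1 : (w : Matrix (Fin m ⊕ Fin m) (Fin m ⊕ Fin m) F)ᵀ * Matrix.J (Fin m) F * w
      = (w' : Matrix (Fin m ⊕ Fin m) (Fin m ⊕ Fin m) F)ᵀ * Matrix.J (Fin m) F * w' := by
    have := congrArg R hcK
    rw [map_mul, map_mul, ← hRT, AlgEquiv.apply_symm_apply, AlgEquiv.apply_symm_apply] at this
    rw [hw, hw', ← this, transpose_mul]
    noncomm_ring
  have hgw : (g : Matrix (Fin m ⊕ Fin m) (Fin m ⊕ Fin m) F) * w = w * R (cayU (partFn μ) F) := by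
    rw [hw, ← mul_assoc, hgP, mul_assoc, ← hcU.eq, mul_assoc]
  have hg'w : (g' : Matrix (Fin m ⊕ Fin m) (Fin m ⊕ Fin m) F) * w' = w' * R (cayU (partFn μ) F) := by
    rw [hw']; exact hgP'
  set H := (w' : Matrix (Fin m ⊕ Fin m) (Fin m ⊕ Fin m) F) * (↑w⁻¹ : Matrix (Fin m ⊕ Fin m) (Fin m ⊕ Fin m) F)
  have hmem : H ∈ Matrix.symplecticGroup (Fin m) F := by
    rw [SymplecticGroup.mem_iff', transpose_mul]
    calc _ = (↑w⁻¹ : Matrix (Fin m ⊕ Fin m) (Fin m ⊕ Fin m) F)ᵀ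
          * ((w' : Matrix (Fin m ⊕ Fin m) (Fin m ⊕ Fin m) F)ᵀ * Matrix.J (Fin m) F * w') * ↑w⁻¹ := by
          noncomm_ring
      _ = ((↑w⁻¹ : Matrix (Fin m ⊕ Fin m) (Fin m ⊕ Fin m) F)ᵀ * (w : Matrix (Fin m ⊕ Fin m) (Fin m ⊕ Fin m) F)ᵀ)
          * Matrix.J (Fin m) F * ((w : Matrix (Fin m ⊕ Fin m) (Fin m ⊕ Fin m) F) * ↑w⁻¹) := by
          rw [← h1]; noncomm_ring
      _ = Matrix.J (Fin m) F := by rw [← transpose_mul, Units.mul_inv, transpose_one, one_mul, mul_one]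
  refine isConj_iff.2 ⟨⟨H, hmem⟩, mul_inv_eq_iff_eq_mul.2 (Subtype.ext ?_)⟩
  show H * (g : Matrix (Fin m ⊕ Fin m) (Fin m ⊕ Fin m) F) = (g' : Matrix (Fin m ⊕ Fin m) (Fin m ⊕ Fin m) F) * H
  have e : (g : Matrix (Fin m ⊕ Fin m) (Fin m ⊕ Fin m) F)
      = w * R (cayU (partFn μ) F) * (↑w⁻¹ : Matrix (Fin m ⊕ Fin m) (Fin m ⊕ Fin m) F) := by
    rw [← hgw, Units.mul_inv_cancel_right]
  calc H * (g : Matrix (Fin m ⊕ Fin m) (Fin m ⊕ Fin m) F)
      = (w' : Matrix (Fin m ⊕ Fin m) (Fin m ⊕ Fin m) F)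
        * ((↑w⁻¹ : Matrix (Fin m ⊕ Fin m) (Fin m ⊕ Fin m) F) * w) * R (cayU (partFn μ) F) * ↑w⁻¹ := by
        rw [e]; simp only [H, mul_assoc]
    _ = (g' : Matrix (Fin m ⊕ Fin m) (Fin m ⊕ Fin m) F) * H := by
        rw [Units.inv_mul, mul_one, ← hg'w, mul_assoc]

open scoped _root_.Classical in
/-- the labels of the classes -/
abbrev Label (p m : ℕ) : Type :=
  Σ μ : {μ : Nat.Partition (2 * m) // μ ∈ Finset.univ.filter (fun μ : Nat.Partition (2 * m) =>
      (∀ a ∈ μ.parts, a ≤ p) ∧ ∀ j : ℕ, Odd j → Even (μ.parts.count j))},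
    ({j : ℕ // j ∈ μ.1.parts.toFinset.filter (fun j : ℕ => Even j)} → Bool)

open scoped _root_.Classical in
/-- a class label as a function -/
noncomputable def Label.fn {p m : ℕ} (τ : Label p m) (j : ℕ) : Bool :=
  if h : j ∈ τ.1.1.parts.toFinset.filter (fun j : ℕ => Even j) then τ.2 ⟨j, h⟩ else false

open scoped _root_.Classical in
theorem natCard_classes (hp : p ≠ 2) :
    Nat.card {C : ConjClasses ↥(Matrix.symplecticGroup (Fin m) F) //
        ∃ g : Matrix.symplecticGroup (Fin m) F, ConjClasses.mk g = C ∧ g ^ p = 1}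
      = ∑ μ ∈ Finset.univ.filter (fun μ : Nat.Partition (2 * m) =>
          (∀ a ∈ μ.parts, a ≤ p) ∧ ∀ j : ℕ, Odd j → Even (μ.parts.count j)),
          2 ^ ((μ.parts.toFinset.filter (fun j : ℕ => Even j)).card) := by
  classical
  choose el hel1 hel2 using fun τ : Label p m =>
    exists_element (F := F) hp τ.1.1 (Finset.mem_filter.1 τ.1.2).2 τ.fn
  let f : Label p m → {C : ConjClasses ↥(Matrix.symplecticGroup (Fin m) F) //
      ∃ g : Matrix.symplecticGroup (Fin m) F, ConjClasses.mk g = C ∧ g ^ p = 1} :=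
    fun τ => ⟨ConjClasses.mk (el τ), el τ, rfl, hel1 τ⟩
  have hf : Function.Bijective f := by
    constructor
    · intro τ τ' h
      obtain ⟨h1, h2⟩ := spec_unique hp (ConjClasses.mk_eq_mk_iff_isConj.1 (congrArg Subtype.val h))
        (hel2 τ) (hel2 τ')
      obtain ⟨μ, f₁⟩ := τ
      obtain ⟨μ', f₂⟩ := τ'
      obtain rfl : μ = μ' := Subtype.ext h1
      refine congrArg (Sigma.mk μ) (funext fun j => ?_)
      have hj := Finset.mem_filter.1 j.2
      have := h2 j.1 (Multiset.mem_toFinset.1 hj.1) hj.2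
      simpa [Label.fn, dif_pos j.2] using this
    · rintro ⟨C, g, rfl, hg⟩
      obtain ⟨μ, hμ, χ, hχ⟩ := exists_spec hp g hg
      let τ : Label p m := ⟨⟨μ, Finset.mem_filter.2 ⟨Finset.mem_univ _, hμ⟩⟩, fun j => χ j.1⟩
      refine ⟨τ, Subtype.ext (ConjClasses.mk_eq_mk_iff_isConj.2 (isConj_of_spec hp (hel2 τ) ?_))⟩
      obtain ⟨P, hP1, hP2, hP3⟩ := hχ
      refine ⟨P, hP1, hP2, fun k hk => ?_⟩
      rw [hP3 k hk]
      have hmem : partFn μ k ∈ μ.parts.toFinset.filter (fun j : ℕ => Even j) := by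
        rw [Finset.mem_filter, Multiset.mem_toFinset, ← partsOf_partFn μ]
        exact ⟨Multiset.mem_map.2 ⟨k, Finset.mem_univ_val k, rfl⟩, hk⟩
      simp only [Label.fn, τ, dif_pos hmem]
  rw [← Nat.card_congr (Equiv.ofBijective f hf), Nat.card_eq_fintype_card, Fintype.card_sigma]
  simp only [Fintype.card_fun, Fintype.card_bool, Fintype.card_coe]
  exact Finset.sum_coe_sort (Finset.univ.filter fun μ : Nat.Partition (2 * m) =>
      (∀ a ∈ μ.parts, a ≤ p) ∧ ∀ j : ℕ, Odd j → Even (μ.parts.count j))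
    (fun μ => 2 ^ ((μ.parts.toFinset.filter (fun j : ℕ => Even j)).card))

theorem natCard_classes_orderOf (hp : p ≠ 2) :
    Nat.card {C : ConjClasses ↥(Matrix.symplecticGroup (Fin m) F) //
        ∃ g : Matrix.symplecticGroup (Fin m) F, ConjClasses.mk g = C ∧ orderOf g = p}
      = Nat.card {C : ConjClasses ↥(Matrix.symplecticGroup (Fin m) F) //
        ∃ g : Matrix.symplecticGroup (Fin m) F, ConjClasses.mk g = C ∧ g ^ p = 1} - 1 := by
  have hprime : p.Prime := Fact.out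
  have hset : {C : ConjClasses ↥(Matrix.symplecticGroup (Fin m) F) |
        ∃ g : Matrix.symplecticGroup (Fin m) F, ConjClasses.mk g = C ∧ orderOf g = p}
      = {C : ConjClasses ↥(Matrix.symplecticGroup (Fin m) F) |
        ∃ g : Matrix.symplecticGroup (Fin m) F, ConjClasses.mk g = C ∧ g ^ p = 1} \ {ConjClasses.mk 1} := by
    ext C
    constructor
    · rintro ⟨g, rfl, hg⟩
      refine ⟨⟨g, rfl, by rw [← hg]; exact pow_orderOf_eq_one g⟩, fun h => ?_⟩
      have h' : g = 1 := isConj_one_left.1 (ConjClasses.mk_eq_mk_iff_isConj.1 h)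
      rw [h', orderOf_one] at hg
      exact hprime.ne_one hg.symm
    · rintro ⟨⟨g, rfl, hg⟩, hne⟩
      exact ⟨g, rfl, orderOf_eq_prime hg fun h => hne (by rw [h]; rfl)⟩
  show Nat.card ↥{C : ConjClasses ↥(Matrix.symplecticGroup (Fin m) F) |
        ∃ g : Matrix.symplecticGroup (Fin m) F, ConjClasses.mk g = C ∧ orderOf g = p}
      = Nat.card ↥{C : ConjClasses ↥(Matrix.symplecticGroup (Fin m) F) |
        ∃ g : Matrix.symplecticGroup (Fin m) F, ConjClasses.mk g = C ∧ g ^ p = 1} - 1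
  rw [hset]
  simp only [Nat.card_coe_set_eq]
  exact Set.ncard_diff_singleton_of_mem (show ConjClasses.mk 1 ∈ _ from ⟨1, rfl, one_pow p⟩)

end Cfsg.Agent.Lib.FormConj.SympUnipotent
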