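import Mathlib
import Cfsg.Agent.Lib.FormConj.RingUnitary
import Cfsg.Agent.Lib.FormConj.JordanBlocks
import Cfsg.Agent.Lib.FormConj.Unipotent
import Cfsg.Agent.Lib.Classical.UnitaryOrder

/-!
The centraliser in `GU_n(q)` of a unipotent element of given Jordan type.
-/

set_option autoImplicit false

namespace Cfsg.Agent.Lib.FormConj

open Matrix
open scoped MatrixGroups

variable {K : Type*} [Field K] [Fintype K] {q t : ℕ} (hK : Fintype.card K = q ^ 2)

/-- The conjugate transpose. -/
noncomputable def star₁ {ι : Type*} (M : Matrix ι ι K) : Matrix ι ι K := (M.map (Forms.qPowHom hK))ᵀ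

include hK

theorem star₁_antiHom {ι : Type*} [Fintype ι] [DecidableEq ι] :
    IsAntiHom (star₁ hK : Matrix ι ι K → Matrix ι ι K) where
  map_add x y := by simp only [star₁, Matrix.map_add _ (map_add _), transpose_add]
  map_mul x y := by simp only [star₁, Matrix.map_mul, transpose_mul]
  map_one := by simp only [star₁, Matrix.map_one _ (map_zero _) (map_one _), transpose_one]

theorem star₁_star₁ {ι : Type*} (M : Matrix ι ι K) : star₁ hK (star₁ hK M) = M := by
  ext i j
  exact Forms.qPowHom_qPowHom hK _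

/-- Unitary matrices on any index type. -/
theorem natCard_star₁_unitary (ι : Type*) [Fintype ι] [DecidableEq ι] :
    Nat.card {M : Matrix ι ι K // star₁ hK M * M = 1}
      = Nat.card (Cfsg.GU (Fintype.card ι) K q) := by
  classical
  let e := Fintype.equivFin ι
  have htw : ∀ g : GL (Fin (Fintype.card ι)) K, g ∈ Cfsg.GU (Fintype.card ι) K q ↔
      star₁ hK (g : Matrix (Fin (Fintype.card ι)) (Fin (Fintype.card ι)) K) * g = 1 := fun g => by
    rw [mem_GU_iff_twist hK]
    simp [twist, star₁]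
  have hre : ∀ M : Matrix ι ι K, star₁ hK (Matrix.reindexAlgEquiv K K e M) = Matrix.reindexAlgEquiv K K e (star₁ hK M) :=
    fun M => rfl
  refine Nat.card_congr
    { toFun := fun M => ⟨⟨Matrix.reindexAlgEquiv K K e M.1, Matrix.reindexAlgEquiv K K e (star₁ hK M.1),
          by rw [← map_mul, mul_eq_one_comm.mp M.2, map_one], by rw [← map_mul, M.2, map_one]⟩,
        (htw _).2 (by show star₁ hK (Matrix.reindexAlgEquiv K K e M.1) * _ = 1; rw [hre, ← map_mul, M.2, map_one])⟩
      invFun := fun g => ⟨(Matrix.reindexAlgEquiv K K e).symm ((g : GL (Fin (Fintype.card ι)) K) : Matrix _ _ K), by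
        apply (Matrix.reindexAlgEquiv K K e).injective
        rw [map_mul, ← hre, AlgEquiv.apply_symm_apply, map_one]
        exact (htw _).1 g.2⟩
      left_inv := fun M => Subtype.ext ((Matrix.reindexAlgEquiv K K e).symm_apply_apply M.1)
      right_inv := fun g => Subtype.ext (Units.ext ((Matrix.reindexAlgEquiv K K e).apply_symm_apply _)) }

/-- A unitary matrix of a given single Jordan type, with its change of basis. -/
theorem exists_block_unitary (a : ℕ) : ∃ (g : Matrix (Fin a) (Fin a) K) (P : GL (Fin a) K),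
    star₁ hK g * g = 1 ∧ (P : Matrix (Fin a) (Fin a) K) * g = Cfsg.jordanBlock a K * P := by
  classical
  have hnil : IsNilpotent (Cfsg.jordanBlock a K - 1) := by
    refine ⟨a, (Matrix.toLinAlgEquiv' (R := K) (n := Fin a)).injective ?_⟩
    rw [map_pow, map_zero]
    exact (Similarity.jordanBlock_nilpotent_regular a).1
  obtain ⟨J, hJ⟩ : IsUnit (Cfsg.jordanBlock a K) := by
    have := hnil.isUnit_one_add
    rwa [add_sub_cancel] at this
  obtain ⟨g, hg⟩ := exists_GU_isConj_unipotent hK J (by rw [hJ]; exact hnil)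
  obtain ⟨P, hP⟩ := isConj_iff.1 hg.symm
  refine ⟨((g : GL (Fin a) K) : Matrix (Fin a) (Fin a) K), P, ?_, ?_⟩
  · have := (mem_GU_iff_twist hK _).1 g.2
    simpa [twist, star₁] using this
  · rw [← hJ, ← Units.val_mul, ← Units.val_mul, ← hP, inv_mul_cancel_right]

/-- The order of the centraliser, as a subtype of matrices. -/
theorem natCard_unipotent_centralizer {d : Fin t → ℕ} (hd : ∀ k, 1 ≤ d k) :
    ∃ (G : Matrix ((k : Fin t) × Fin (d k)) ((k : Fin t) × Fin (d k)) K)
      (P : GL ((k : Fin t) × Fin (d k)) K) (s : ℕ),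
      star₁ hK G * G = 1 ∧
      (P : Matrix ((k : Fin t) × Fin (d k)) ((k : Fin t) × Fin (d k)) K) * G = Cfsg.jordanTypeMatrix d K * P ∧
      s ^ 2 * (q ^ 2) ^ (∑ i ∈ Finset.range (Finset.univ.sup d + 1),
          (Finset.univ.filter (fun k => d k = i)).card ^ 2) = (q ^ 2) ^ (∑ k, ∑ l, min (d k) (d l)) ∧
      Nat.card {M : Matrix ((k : Fin t) × Fin (d k)) ((k : Fin t) × Fin (d k)) K //
          M * G = G * M ∧ star₁ hK M * M = 1}
        = (∏ i ∈ Finset.range (Finset.univ.sup d + 1),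
            Nat.card (Cfsg.GU (Finset.univ.filter (fun k => d k = i)).card K q)) * s := by
  classical
  set σ := Forms.qPowHom hK
  choose g P hg hP using exists_block_unitary hK
  let G : Matrix ((k : Fin t) × Fin (d k)) ((k : Fin t) × Fin (d k)) K := blockDiagonal' fun k => g (d k)
  let Q : GL ((k : Fin t) × Fin (d k)) K :=
    ⟨blockDiagonal' (fun k => ((P (d k) : GL (Fin (d k)) K) : Matrix (Fin (d k)) (Fin (d k)) K)),
      blockDiagonal' (fun k => (((P (d k))⁻¹ : GL (Fin (d k)) K) : Matrix (Fin (d k)) (Fin (d k)) K)),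
      by rw [← blockDiagonal'_mul]; simp only [Units.mul_inv]; exact blockDiagonal'_one,
      by rw [← blockDiagonal'_mul]; simp only [Units.inv_mul]; exact blockDiagonal'_one⟩
  have hQ : (Q : Matrix ((k : Fin t) × Fin (d k)) ((k : Fin t) × Fin (d k)) K)
      = blockDiagonal' fun k => ((P (d k) : GL (Fin (d k)) K) : Matrix (Fin (d k)) (Fin (d k)) K) := rfl
  have hQi : ((Q⁻¹ : GL ((k : Fin t) × Fin (d k)) K) : Matrix ((k : Fin t) × Fin (d k)) ((k : Fin t) × Fin (d k)) K)
      = blockDiagonal' fun k => (((P (d k))⁻¹ : GL (Fin (d k)) K) : Matrix (Fin (d k)) (Fin (d k)) K) := rfl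
  have hstar : IsAntiHom (star₁ hK : Matrix ((k : Fin t) × Fin (d k)) ((k : Fin t) × Fin (d k)) K → _) :=
    star₁_antiHom hK
  have hGu : star₁ hK G * G = 1 := by
    show ((blockDiagonal' fun k => g (d k)).map σ)ᵀ * blockDiagonal' (fun k => g (d k)) = 1
    rw [blockDiagonal'_map _ _ (map_zero σ), blockDiagonal'_transpose, ← blockDiagonal'_mul]
    rw [show (fun k => ((g (d k)).map σ)ᵀ * g (d k)) = 1 from funext fun k => hg (d k)]
    exact blockDiagonal'_one
  have hQG : (Q : Matrix ((k : Fin t) × Fin (d k)) ((k : Fin t) × Fin (d k)) K) * G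
      = Cfsg.jordanTypeMatrix d K * Q := by
    rw [hQ, Cfsg.jordanTypeMatrix, ← blockDiagonal'_mul, ← blockDiagonal'_mul]
    simp only [hP]
  let A : Subring (Matrix ((k : Fin t) × Fin (d k)) ((k : Fin t) × Fin (d k)) K) := Subring.centralizer {G}
  have hA : ∀ M, M ∈ A ↔ M * G = G * M := fun M => by
    rw [Subring.mem_centralizer_iff]
    exact ⟨fun h => (h G rfl).symm, fun h x hx => by rw [Set.mem_singleton_iff.1 hx]; exact h.symm⟩
  have hAstar : ∀ M, M ∈ A → star₁ hK M ∈ A := by
    intro M hM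
    rw [hA] at hM ⊢
    have h1 : star₁ hK G * star₁ hK M = star₁ hK M * star₁ hK G := by rw [← hstar.map_mul, hM, hstar.map_mul]
    exact (commute_of_inverse (b := star₁ hK G) (b' := G) h1.symm (mul_eq_one_comm.mp hGu)).eq
  let τ : A → A := fun M => ⟨star₁ hK M.1, hAstar M.1 M.2⟩
  have hτ : IsAntiHom τ :=
    { map_add := fun x y => Subtype.ext (hstar.map_add _ _)
      map_mul := fun x y => Subtype.ext (hstar.map_mul _ _)
      map_one := Subtype.ext hstar.map_one }
  have hττ : ∀ x, τ (τ x) = x := fun x => Subtype.ext (star₁_star₁ hK x.1)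
  -- passage to the commutant of the Jordan matrix
  let toC : Matrix ((k : Fin t) × Fin (d k)) ((k : Fin t) × Fin (d k)) K → Matrix ((k : Fin t) × Fin (d k)) ((k : Fin t) × Fin (d k)) K := fun M =>
    (Q : Matrix ((k : Fin t) × Fin (d k)) ((k : Fin t) × Fin (d k)) K) * M * ((Q⁻¹ : GL ((k : Fin t) × Fin (d k)) K) : Matrix ((k : Fin t) × Fin (d k)) ((k : Fin t) × Fin (d k)) K)
  have hcomm : ∀ M, M * G = G * M ↔
      Cfsg.jordanTypeMatrix d K * toC M = toC M * Cfsg.jordanTypeMatrix d K := by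
    intro M
    have hJ : Cfsg.jordanTypeMatrix d K = toC G := by
      show _ = (Q : Matrix ((k : Fin t) × Fin (d k)) ((k : Fin t) × Fin (d k)) K) * G * _
      rw [hQG, Units.mul_inv_cancel_right]
    have hm : ∀ x y, toC x * toC y = toC (x * y) := fun x y => by
      simp only [toC, mul_assoc, Units.inv_mul_cancel_left]
    rw [hJ, hm, hm]
    exact ⟨fun h => congrArg toC h.symm, fun h => (Q.isUnit.mul_left_cancel ((Q⁻¹).isUnit.mul_right_cancel h)).symm⟩
  have hblkC : ∀ M k l, blk (toC M) k l = ((P (d k) : GL (Fin (d k)) K) : Matrix (Fin (d k)) (Fin (d k)) K) * blk M k l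
      * (((P (d l))⁻¹ : GL (Fin (d l)) K) : Matrix (Fin (d l)) (Fin (d l)) K) := fun M k l => by
    show blk ((Q : Matrix ((k : Fin t) × Fin (d k)) ((k : Fin t) × Fin (d k)) K) * M * _) k l = _
    rw [hQi, blk_mul_blockDiagonal, hQ, blk_blockDiagonal_mul]
  let Fib : Fin (Finset.univ.sup d + 1) → Type := fun i => {k : Fin t // d k = (i : ℕ)}
  let π : A →+* ((i : Fin (Finset.univ.sup d + 1)) → Matrix (Fib i) (Fib i) K) :=
    { toFun := fun M i => Matrix.of fun k l => corner hd (toC M.1) k.1 l.1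
      map_one' := by
        funext i
        ext k l
        show corner hd (toC (1 : Matrix ((k : Fin t) × Fin (d k)) ((k : Fin t) × Fin (d k)) K)) k.1 l.1 = (1 : Matrix (Fib i) (Fib i) K) k l
        rw [show toC (1 : Matrix ((k : Fin t) × Fin (d k)) ((k : Fin t) × Fin (d k)) K) = 1 by simp only [toC, mul_one, Units.mul_inv], corner, Matrix.one_apply,
          Matrix.one_apply]
        by_cases h : k = l
        · subst h; simp
        · rw [if_neg h, if_neg (fun e => h (Subtype.ext (congrArg Sigma.fst e)))]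
      map_mul' := fun M N => by
        funext i
        ext k l
        show corner hd (toC (M.1 * N.1)) k.1 l.1 = ∑ m : Fib i, corner hd (toC M.1) k.1 m.1 * corner hd (toC N.1) m.1 l.1
        rw [show toC (M.1 * N.1) = toC M.1 * toC N.1 by simp only [toC, mul_assoc, Units.inv_mul_cancel_left],
          corner_mul hd ((hcomm _).1 ((hA _).1 M.2))]
        rw [← Finset.sum_filter_add_sum_filter_not Finset.univ (fun m => d m = (i : ℕ)),
          Finset.sum_subtype (p := fun m => d m = (i : ℕ)) _ (fun m => by simp)]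
        refine (congrArg₂ _ rfl (Finset.sum_eq_zero fun m hm => ?_)).trans (add_zero _)
        have hm' : d m ≠ (i : ℕ) := (Finset.mem_filter.1 hm).2
        rcases Nat.lt_or_gt_of_ne hm' with h | h
        · rw [corner_eq_zero_of_lt hd ((hcomm _).1 ((hA _).1 M.2)) (h.trans_eq k.2.symm), zero_mul]
        · rw [corner_eq_zero_of_lt hd ((hcomm _).1 ((hA _).1 N.2)) (lt_of_eq_of_lt l.2 h), mul_zero]
      map_zero' := by
        funext i
        ext k l
        show corner hd (toC (0 : Matrix ((k : Fin t) × Fin (d k)) ((k : Fin t) × Fin (d k)) K)) k.1 l.1 = 0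
        simp [toC, corner]
      map_add' := fun M N => by
        funext i
        ext k l
        show corner hd (toC (M.1 + N.1)) k.1 l.1 = corner hd (toC M.1) k.1 l.1 + corner hd (toC N.1) k.1 l.1
        simp only [toC, mul_add, add_mul]
        rfl }
  have hπapp : ∀ (M : A) i (k l : Fib i), π M i k l = corner hd (toC M.1) k.1 l.1 := fun _ _ _ _ => rfl
  have hnil : ∀ x, π x = 0 → IsNilpotent x := by
    intro x hx
    obtain ⟨N, hN⟩ := isNilpotent_of_corner hd ((hcomm _).1 ((hA _).1 x.2)) (fun k l h => by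
      have hk : d k < Finset.univ.sup d + 1 := Nat.lt_succ_of_le (Finset.le_sup (Finset.mem_univ k))
      exact (hπapp x ⟨d k, hk⟩ ⟨k, rfl⟩ ⟨l, h.symm⟩).symm.trans (by rw [hx]; rfl))
    refine ⟨N, Subtype.ext ?_⟩
    rw [SubmonoidClass.coe_pow]
    have : toC (x.1 ^ N) = 0 := by
      rw [← hN]
      exact (Units.conj_pow Q x.1 N).symm
    exact Q.isUnit.mul_left_cancel ((Q⁻¹).isUnit.mul_right_cancel (this.trans (by simp)))
  have hsurj : Function.Surjective π := by
    intro b
    have hk : ∀ k, d k < Finset.univ.sup d + 1 := fun k => Nat.lt_succ_of_le (Finset.le_sup (Finset.mem_univ k))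
    let c : Free d → K := fun p => if h : (p.1.1.2 : ℕ) = 0 ∧ d p.1.2 = d p.1.1.1 then
      b ⟨d p.1.1.1, hk _⟩ ⟨p.1.1.1, rfl⟩ ⟨p.1.2, h.2⟩ else 0
    let M := ((Q⁻¹ : GL ((k : Fin t) × Fin (d k)) K) : Matrix ((k : Fin t) × Fin (d k)) ((k : Fin t) × Fin (d k)) K) * ofFree c * (Q : Matrix ((k : Fin t) × Fin (d k)) ((k : Fin t) × Fin (d k)) K)
    have hM : toC M = ofFree c := by simp only [toC, M, mul_assoc, Units.mul_inv, Units.mul_inv_cancel_left, mul_one]
    refine ⟨⟨M, (hA _).2 ((hcomm _).2 (by rw [hM]; exact ofFree_intertwine c))⟩, ?_⟩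
    funext i
    ext ⟨k, hki⟩ ⟨l, hli⟩
    rw [hπapp, hM]
    show ofFree c ⟨k, ⟨0, hd k⟩⟩ ⟨l, ⟨0, hd l⟩⟩ = _
    rw [ofFree, Matrix.of_apply, toeplitz_apply, if_pos (Nat.zero_le _), dif_pos (show d k ≤ 0 - 0 + d l by omega)]
    show dite _ _ _ = _
    rw [dif_pos ⟨rfl, hli.trans hki.symm⟩]
    have hbb : ∀ (i j : Fin (Finset.univ.sup d + 1)) (k₁ l₁ : Fib i) (k₂ l₂ : Fib j), i = j → k₁.1 = k₂.1 →
        l₁.1 = l₂.1 → b i k₁ l₁ = b j k₂ l₂ := by
      rintro i j k₁ l₁ k₂ l₂ rfl h1 h2
      rw [Subtype.ext h1, Subtype.ext h2]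
    exact hbb _ _ _ _ _ _ (Fin.ext hki) rfl rfl
  let τ' : ((i : Fin (Finset.univ.sup d + 1)) → Matrix (Fib i) (Fib i) K) → _ := fun b i => star₁ hK (b i)
  have hπτ : ∀ x, π (τ x) = τ' (π x) := by
    intro x
    funext i
    ext ⟨k, hk⟩ ⟨l, hl⟩
    show corner hd (toC (star₁ hK x.1)) k l = σ (corner hd (toC x.1) l k)
    rw [corner, corner, ← blk_apply (toC (star₁ hK x.1)), ← blk_apply (toC x.1), hblkC, hblkC]
    have key : ∀ (a b : ℕ) (ha : 0 < a) (hb : 0 < b) (Y : Matrix (Fin b) (Fin a) K), a = b →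
        Cfsg.jordanBlock b K * ((P b : Matrix (Fin b) (Fin b) K) * Y * (((P a)⁻¹ : GL (Fin a) K) : Matrix (Fin a) (Fin a) K))
          = ((P b : Matrix (Fin b) (Fin b) K) * Y * (((P a)⁻¹ : GL (Fin a) K) : Matrix (Fin a) (Fin a) K)) * Cfsg.jordanBlock a K →
        ((P a : Matrix (Fin a) (Fin a) K) * (Y.map σ)ᵀ * (((P b)⁻¹ : GL (Fin b) K) : Matrix (Fin b) (Fin b) K)) ⟨0, ha⟩ ⟨0, hb⟩
          = σ (((P b : Matrix (Fin b) (Fin b) K) * Y * (((P a)⁻¹ : GL (Fin a) K) : Matrix (Fin a) (Fin a) K)) ⟨0, hb⟩ ⟨0, ha⟩) := by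
      intro a b ha hb Y hab hY
      subst hab
      set Z := (P a : Matrix (Fin a) (Fin a) K) * Y * (((P a)⁻¹ : GL (Fin a) K) : Matrix (Fin a) (Fin a) K)
      set c := Z ⟨0, ha⟩ ⟨0, ha⟩
      have hS := star₁_antiHom hK (ι := Fin a)
      -- a second intertwiner
      let T : Matrix (Fin a) (Fin a) K → Matrix (Fin a) (Fin a) K := fun W =>
        (P a : Matrix (Fin a) (Fin a) K) * star₁ hK ((((P a)⁻¹ : GL (Fin a) K) : Matrix (Fin a) (Fin a) K) * W * (P a : Matrix (Fin a) (Fin a) K)) * (((P a)⁻¹ : GL (Fin a) K) : Matrix (Fin a) (Fin a) K)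
      have hTadd : ∀ u v, T (u + v) = T u + T v := fun u v => by simp only [T, mul_add, add_mul, hS.map_add]
      have hTsc : T (c • 1) = σ c • 1 := by
        have hsc : star₁ hK (c • (1 : Matrix (Fin a) (Fin a) K)) = σ c • 1 := by
          ext x y
          simp [star₁, σ, Matrix.one_apply, eq_comm, apply_ite (Forms.qPowHom hK), -Forms.qPowHom_apply]
        simp only [T, mul_smul_comm, smul_mul_assoc, mul_one, Units.inv_mul, hsc, Units.mul_inv]
      have hTmul : ∀ u v, T (u * v) = T v * T u := fun u v => by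
        have e : (((P a)⁻¹ : GL (Fin a) K) : Matrix (Fin a) (Fin a) K) * (u * v) * (P a : Matrix (Fin a) (Fin a) K)
            = ((((P a)⁻¹ : GL (Fin a) K) : Matrix (Fin a) (Fin a) K) * u * (P a : Matrix (Fin a) (Fin a) K))
              * ((((P a)⁻¹ : GL (Fin a) K) : Matrix (Fin a) (Fin a) K) * v * (P a : Matrix (Fin a) (Fin a) K)) := by
          simp only [mul_assoc, Units.mul_inv_cancel_left]
        simp only [T]
        rw [e, hS.map_mul]
        simp only [mul_assoc, Units.inv_mul_cancel_left]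
      have hTnil : ∀ u, IsNilpotent u → IsNilpotent (T u) := fun u ⟨m, hm⟩ => by
        refine ⟨m, ?_⟩
        have h : ∀ i : ℕ, T (u ^ i) = T u ^ i := fun i => by
          induction i with
          | zero => simp only [pow_zero, T, mul_one, Units.inv_mul, hS.map_one, Units.mul_inv]
          | succ i ih => rw [pow_succ, hTmul, ih, ← pow_succ']
        rw [← h, hm]
        exact (AddMonoidHom.mk' T hTadd).map_zero
      have hTJ : ∀ W, Cfsg.jordanBlock a K * W = W * Cfsg.jordanBlock a K →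
          Cfsg.jordanBlock a K * T W = T W * Cfsg.jordanBlock a K := by
        intro W hW
        have hJ : T (Cfsg.jordanBlock a K) * Cfsg.jordanBlock a K = 1 := by
          have h1 : (((P a)⁻¹ : GL (Fin a) K) : Matrix (Fin a) (Fin a) K) * Cfsg.jordanBlock a K * (P a : Matrix (Fin a) (Fin a) K) = g a := by
            rw [mul_assoc, ← hP a, Units.inv_mul_cancel_left]
          have h2 : Cfsg.jordanBlock a K = (P a : Matrix (Fin a) (Fin a) K) * g a * (((P a)⁻¹ : GL (Fin a) K) : Matrix (Fin a) (Fin a) K) := by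
            rw [hP a, Units.mul_inv_cancel_right]
          simp only [T, h1]
          rw [h2]
          simp only [mul_assoc, Units.inv_mul_cancel_left]
          rw [← mul_assoc (star₁ hK (g a)), hg a, one_mul, Units.mul_inv]
        have h3 : Commute (T W) (T (Cfsg.jordanBlock a K)) := by
          have := congrArg T hW
          rw [hTmul, hTmul] at this
          exact this
        exact (commute_of_inverse (b := T (Cfsg.jordanBlock a K)) (b' := Cfsg.jordanBlock a K) h3
          (mul_eq_one_comm.mp hJ)).eq.symm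
      have hTZ : T Z = (P a : Matrix (Fin a) (Fin a) K) * (Y.map σ)ᵀ * (((P a)⁻¹ : GL (Fin a) K) : Matrix (Fin a) (Fin a) K) := by
        simp only [T, Z, star₁, mul_assoc, Units.inv_mul_cancel_left, Units.inv_mul, mul_one]
        rfl
      rw [← hTZ]
      have hN : IsNilpotent (Z - c • 1) := isNilpotent_sub_corner ha hY
      have h0 : T (Z - c • 1) ⟨0, ha⟩ ⟨0, ha⟩ = 0 :=
        corner_eq_zero_of_isNilpotent ha (hTJ _ (by rw [mul_sub, sub_mul, hY, mul_smul_comm, smul_mul_assoc, mul_one, one_mul]))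
          (hTnil _ hN)
      rw [show T Z = T (Z - c • 1) + T (c • 1) by rw [← hTadd, sub_add_cancel], Matrix.add_apply, h0, hTsc,
        zero_add, Matrix.smul_apply, Matrix.one_apply_eq, smul_eq_mul, mul_one]
    refine key (d k) (d l) (hd k) (hd l) (blk x.1 l k) (hk.trans hl.symm) ?_
    rw [← hblkC]
    exact blk_intertwine ((hcomm _).1 ((hA _).1 x.2)) l k
  obtain ⟨a0, ha0⟩ := Forms.exists_add_conj_eq_one (Forms.qPowHom_ne_id hK) (Forms.qPowHom_qPowHom hK)
  obtain ⟨b0, hb0⟩ : ∃ b : K, σ b ≠ b := by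
    by_contra hne
    push Not at hne
    exact Forms.qPowHom_ne_id hK (RingHom.ext hne)
  have hscA : ∀ c : K, Matrix.scalar ((k : Fin t) × Fin (d k)) c ∈ A := fun c =>
    (hA _).2 (Matrix.scalar_commute c (fun r => mul_comm _ r) G).eq
  have hscτ : ∀ c : K, τ ⟨_, hscA c⟩ = ⟨_, hscA (σ c)⟩ := fun c => Subtype.ext (by
    show ((Matrix.scalar _ c).map σ)ᵀ = _
    rw [scalar_apply, diagonal_map (map_zero σ), diagonal_transpose]
    rfl)
  obtain ⟨s, hs1, hs2⟩ := natCard_unitary hτ hττ π hnil hsurj hπτ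
    (a := ⟨_, hscA a0⟩) (b := ⟨_, hscA b0⟩)
    (fun x => Subtype.ext (Matrix.scalar_commute a0 (fun r => mul_comm _ r) x.1).eq)
    (by
      rw [hscτ]
      refine Subtype.ext ?_
      show Matrix.scalar _ a0 + Matrix.scalar _ (σ a0) = 1
      rw [← map_add, ha0, map_one])
    (fun x => Subtype.ext (Matrix.scalar_commute b0 (fun r => mul_comm _ r) x.1).eq)
    (by
      rw [hscτ, isUnit_iff_exists_inv]
      refine ⟨⟨_, hscA (b0 - σ b0)⁻¹⟩, Subtype.ext ?_⟩
      show (Matrix.scalar _ b0 - Matrix.scalar _ (σ b0)) * Matrix.scalar _ _ = 1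
      rw [← map_sub, ← map_mul, mul_inv_cancel₀ (sub_ne_zero.2 hb0.symm), map_one])
  have hKq : Nat.card K = q ^ 2 := by rw [Nat.card_eq_fintype_card, hK]
  have hfib : ∀ i : Fin (Finset.univ.sup d + 1),
      Fintype.card (Fib i) = (Finset.univ.filter (fun k => d k = (i : ℕ))).card := fun i => Fintype.card_subtype _
  have hcardA : Nat.card A = (q ^ 2) ^ (∑ k, ∑ l, min (d k) (d l)) := by
    have e : A ≃ {X : Matrix ((k : Fin t) × Fin (d k)) ((k : Fin t) × Fin (d k)) K //
        Cfsg.jordanTypeMatrix d K * X = X * Cfsg.jordanTypeMatrix d K} :=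
      { toFun := fun M => ⟨toC M.1, (hcomm _).1 ((hA _).1 M.2)⟩
        invFun := fun X => ⟨((Q⁻¹ : GL ((k : Fin t) × Fin (d k)) K) : Matrix ((k : Fin t) × Fin (d k)) ((k : Fin t) × Fin (d k)) K) * X.1 * (Q : Matrix ((k : Fin t) × Fin (d k)) ((k : Fin t) × Fin (d k)) K), (hA _).2 ((hcomm _).2 (by
          have : toC (((Q⁻¹ : GL ((k : Fin t) × Fin (d k)) K) : Matrix ((k : Fin t) × Fin (d k)) ((k : Fin t) × Fin (d k)) K) * X.1 * (Q : Matrix ((k : Fin t) × Fin (d k)) ((k : Fin t) × Fin (d k)) K)) = X.1 := by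
            simp only [toC, mul_assoc, Units.mul_inv, Units.mul_inv_cancel_left, mul_one]
          rw [this]; exact X.2))⟩
        left_inv := fun M => Subtype.ext (by simp only [toC, mul_assoc, Units.inv_mul, Units.inv_mul_cancel_left, mul_one])
        right_inv := fun X => Subtype.ext (by simp only [toC, mul_assoc, Units.mul_inv, Units.mul_inv_cancel_left, mul_one]) }
    rw [Nat.card_congr (e.trans (commutantEquiv hd)), Nat.card_fun, hKq, natCard_free hd]
  refine ⟨G, Q, s, hGu, hQG, ?_, ?_⟩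
  · rw [← hcardA, ← hs1, Nat.card_pi, ← Finset.prod_pow_eq_pow_sum, ← Fin.prod_univ_eq_prod_range]
    refine congrArg _ (Finset.prod_congr rfl fun i _ => ?_)
    rw [show Nat.card (Matrix (Fib i) (Fib i) K) = Nat.card (Fib i → Fib i → K) from rfl, Nat.card_fun, Nat.card_fun,
      hKq, Nat.card_eq_fintype_card, ← hfib, ← pow_mul (q ^ 2) (Fintype.card (Fib i)), ← sq]
  · have e : {M : Matrix ((k : Fin t) × Fin (d k)) ((k : Fin t) × Fin (d k)) K //
          M * G = G * M ∧ star₁ hK M * M = 1} ≃ {g : A // τ g * g = 1} :=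
      { toFun := fun M => ⟨⟨M.1, (hA _).2 M.2.1⟩, Subtype.ext M.2.2⟩
        invFun := fun M => ⟨M.1.1, (hA _).1 M.1.2, congrArg Subtype.val M.2⟩
        left_inv := fun M => rfl
        right_inv := fun M => rfl }
    rw [Nat.card_congr e, hs2]
    refine congrArg (· * s) ?_
    have e2 : {y : ((i : Fin (Finset.univ.sup d + 1)) → Matrix (Fib i) (Fib i) K) // τ' y * y = 1}
        ≃ ((i : Fin (Finset.univ.sup d + 1)) → {M : Matrix (Fib i) (Fib i) K // star₁ hK M * M = 1}) :=
      { toFun := fun y i => ⟨y.1 i, congrFun y.2 i⟩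
        invFun := fun f => ⟨fun i => (f i).1, funext fun i => (f i).2⟩
        left_inv := fun y => rfl
        right_inv := fun f => rfl }
    rw [Nat.card_congr e2, Nat.card_pi, ← Fin.prod_univ_eq_prod_range]
    refine Finset.prod_congr rfl fun i _ => ?_
    rw [natCard_star₁_unitary hK, hfib]

end Cfsg.Agent.Lib.FormConj
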